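import Groth.Prelude.Def_DescFam
import Mathlib.AlgebraicGeometry.Sites.Fpqc

/-! # gluing morphisms along fpqc coverings -/

universe u

open CategoryTheory CategoryTheory.Limits AlgebraicGeometry

namespace Groth.Agent.SchDescent

variable {P Z : Scheme.{u}} {I : Type u} {Q : I → Scheme.{u}} {g : ∀ i, Q i ⟶ P}

theorem existsUnique_glue (hg : Presieve.ofArrows Q g ∈ Scheme.fpqcPrecoverage P)
    (x : ∀ i, Q i ⟶ Z)
    (h : ∀ i j, pullback.fst (g i) (g j) ≫ x i = pullback.snd (g i) (g j) ≫ x j) :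
    ∃! y : P ⟶ Z, ∀ i, g i ≫ y = x i := by
  have hs := (GrothendieckTopology.Subcanonical.isSheaf_of_isRepresentable
    (J := Scheme.fpqcTopology) (yoneda.obj Z)).isSheafFor _ (Precoverage.generate_mem_toGrothendieck hg)
  rw [Presieve.isSheafFor_arrows_iff] at hs
  refine hs x fun i j W gi gj hij ↦ ?_
  have := congrArg (pullback.lift gi gj hij ≫ ·) (h i j)
  simp only [pullback.lift_fst_assoc, pullback.lift_snd_assoc] at this
  exact this

theorem hom_ext_cover (hg : Presieve.ofArrows Q g ∈ Scheme.fpqcPrecoverage P) {y y' : P ⟶ Z}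
    (h : ∀ i, g i ≫ y = g i ≫ y') : y = y' :=
  (existsUnique_glue hg (fun i ↦ g i ≫ y') fun i j ↦ by
    rw [← Category.assoc, pullback.condition, Category.assoc]).unique h (fun _ ↦ rfl)

theorem mem_fpqc_singleton {P' : Scheme.{u}} {f : P' ⟶ P}
    (hf : Presieve.singleton f ∈ Scheme.fpqcPrecoverage P) :
    Presieve.ofArrows (fun _ : PUnit.{u + 1} ↦ P') (fun _ ↦ f) ∈ Scheme.fpqcPrecoverage P := by
  rwa [Presieve.ofArrows_pUnit]

theorem existsUnique_glue_singleton {P' : Scheme.{u}} {f : P' ⟶ P}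
    (hf : Presieve.singleton f ∈ Scheme.fpqcPrecoverage P) (x : P' ⟶ Z)
    (h : pullback.fst f f ≫ x = pullback.snd f f ≫ x) : ∃! y : P ⟶ Z, f ≫ y = x := by
  obtain ⟨y, hy, hu⟩ := existsUnique_glue (mem_fpqc_singleton hf) (fun _ ↦ x) (fun _ _ ↦ h)
  exact ⟨y, hy ⟨⟩, fun y' hy' ↦ hu y' fun _ ↦ hy'⟩

theorem epi_of_mem {P' : Scheme.{u}} {f : P' ⟶ P}
    (hf : Presieve.singleton f ∈ Scheme.fpqcPrecoverage P) : Epi f :=
  ⟨fun _ _ e ↦ hom_ext_cover (mem_fpqc_singleton hf) fun _ ↦ e⟩

/-- base change of a one-morphism covering -/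
theorem singleton_pullback_mem {P' T : Scheme.{u}} {f : P' ⟶ P}
    (hf : Presieve.singleton f ∈ Scheme.fpqcPrecoverage P) {T' : Scheme.{u}} {f' : T' ⟶ T}
    {a : T ⟶ P} {b : T' ⟶ P'} (H : IsPullback f' b a f) :
    Presieve.singleton f' ∈ Scheme.fpqcPrecoverage T := by
  have := Precoverage.mem_coverings_of_isPullback (fun _ : PUnit.{u + 1} ↦ f) (mem_fpqc_singleton hf) a
    (fun _ ↦ f') (fun _ ↦ b) (fun _ ↦ H)
  rwa [Presieve.ofArrows_pUnit] at this

section full

variable {S : Scheme.{u}} {X : I → Scheme.{u}} {f : ∀ i, X i ⟶ S}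
  (hf : Presieve.ofArrows X f ∈ Scheme.fpqcPrecoverage S)

include hf in
lemma pullback_cover_mem (U : Over S) :
    Presieve.ofArrows (fun i ↦ pullback (f i) U.hom) (fun i ↦ pullback.snd (f i) U.hom) ∈
      Scheme.fpqcPrecoverage U.left :=
  Precoverage.mem_coverings_of_isPullback f hf U.hom _ (fun i ↦ pullback.fst (f i) U.hom)
    fun _ ↦ (IsPullback.of_hasPullback _ _).flip

/-- a morphism between base changes compatible with the canonical data comes from the base -/
theorem exists_of_compat (U U' : Over S) (a : ∀ i, pullback (f i) U.hom ⟶ pullback (f i) U'.hom)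
    (ha : ∀ i, a i ≫ pullback.fst (f i) U'.hom = pullback.fst (f i) U.hom)
    (hf : Presieve.ofArrows X f ∈ Scheme.fpqcPrecoverage S)
    (hc : ∀ i j, pullback.fst (pullback.snd (f i) U.hom) (pullback.snd (f j) U.hom) ≫
        a i ≫ pullback.snd (f i) U'.hom =
      pullback.snd (pullback.snd (f i) U.hom) (pullback.snd (f j) U.hom) ≫
        a j ≫ pullback.snd (f j) U'.hom) :
    ∃ k : U ⟶ U', ∀ i, a i ≫ pullback.snd (f i) U'.hom = pullback.snd (f i) U.hom ≫ k.left := by
  have hcov := pullback_cover_mem hf U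
  obtain ⟨y, hy, -⟩ := existsUnique_glue hcov (fun i ↦ a i ≫ pullback.snd (f i) U'.hom) hc
  refine ⟨Over.homMk y ?_, fun i ↦ (hy i).symm⟩
  refine hom_ext_cover hcov fun i ↦ ?_
  rw [← Category.assoc, hy i, Category.assoc, ← pullback.condition, ← Category.assoc, ha i,
    pullback.condition]

include hf in
theorem full_toDDFam : (Desc.toDDFam f).Full := by
  refine ⟨fun {U U'} F ↦ ?_⟩
  have ha : ∀ i, (F.hom i).left ≫ pullback.fst (f i) U'.hom = pullback.fst (f i) U.hom :=
    fun i ↦ Over.w (F.hom i)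
  obtain ⟨k, hk⟩ := exists_of_compat U U' (fun i ↦ (F.hom i).left) ha hf fun i j ↦ by
    let q₀ := pullback.fst (pullback.snd (f i) U.hom) (pullback.snd (f j) U.hom)
    let q₁ := pullback.snd (pullback.snd (f i) U.hom) (pullback.snd (f j) U.hom)
    have h : (q₀ ≫ pullback.fst (f i) U.hom) ≫ f i = (q₁ ≫ pullback.fst (f j) U.hom) ≫ f j := by
      simp only [Category.assoc, pullback.condition, q₀, q₁]
      rw [pullback.condition_assoc]
    have key := F.comm (q₀ ≫ pullback.fst (f i) U.hom) (q₁ ≫ pullback.fst (f j) U.hom) h ⟨q₀, rfl⟩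
      ⟨q₀ ≫ (F.hom i).left, (Category.assoc _ _ _).trans (congrArg _ (ha i))⟩ rfl
    have e : (((Desc.toDDFam f).obj U).φ (q₀ ≫ pullback.fst (f i) U.hom)
        (q₁ ≫ pullback.fst (f j) U.hom) h ⟨q₀, rfl⟩).1 = q₁ := by
      apply pullback.hom_ext
      · exact pullback.lift_fst _ _ _
      · exact (pullback.lift_snd _ _ _).trans pullback.condition
    rw [e] at key
    have := congrArg (· ≫ pullback.snd (f j) U'.hom) key
    refine Eq.trans ?_ (this.trans (Category.assoc _ _ _))
    exact ((Category.assoc _ _ _).symm).trans (pullback.lift_snd _ _ _).symm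
  refine ⟨k, Desc.SchDDFam.hom_ext (funext fun i ↦ Over.OverMorphism.ext ?_)⟩
  apply pullback.hom_ext
  · exact (pullback.lift_fst _ _ _).trans ((Category.comp_id _).trans (ha i).symm)
  · exact (pullback.lift_snd _ _ _).trans (hk i).symm

include hf in
theorem faithful_toDDFam : (Desc.toDDFam f).Faithful := by
  refine ⟨fun {U U'} k k' e ↦ Over.OverMorphism.ext ?_⟩
  refine hom_ext_cover (pullback_cover_mem hf U) fun i ↦ ?_
  have := congrArg (fun F : (Desc.toDDFam f).obj U ⟶ (Desc.toDDFam f).obj U' ↦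
    (F.hom i).left ≫ pullback.snd (f i) U'.hom) e
  exact ((pullback.lift_snd _ _ _).symm.trans this).trans (pullback.lift_snd _ _ _)

end full

section single

variable {X S : Scheme.{u}} (p : X ⟶ S)

theorem full_toDD (hp : Presieve.singleton p ∈ Scheme.fpqcPrecoverage S) : (Desc.toDD p).Full := by
  have := full_toDDFam (mem_fpqc_singleton hp)
  rw [← Desc.toDDFam_comp_toSchDD p]
  have : (Desc.SchDDFam.toSchDD p).Full := inferInstanceAs (Desc.SchDDFam.oneEquiv.{u} p).functor.Full
  infer_instance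

theorem faithful_toDD [Surjective p] [Flat p] : (Desc.toDD p).Faithful := by
  refine ⟨fun {U U'} k k' e ↦ Over.OverMorphism.ext ?_⟩
  have := congrArg (fun F : (Desc.toDD p).obj U ⟶ (Desc.toDD p).obj U' ↦
    F.hom.left ≫ pullback.snd p U'.hom) e
  have h1 := ((pullback.lift_snd _ _ _).symm.trans this).trans (pullback.lift_snd _ _ _)
  have : Epi (pullback.snd p U.hom) := Flat.epi_of_flat_of_surjective _
  exact (cancel_epi (pullback.snd p U.hom)).mp h1

end single

end Groth.Agent.SchDescent
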