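import Groth.Agent.SchDescent.Affine

/-! # descent of a stable open from a quotient of the induced action on a chart -/

universe u

open CategoryTheory CategoryTheory.Limits AlgebraicGeometry

namespace Groth.Agent.SchDescent

variable {X S : Scheme.{u}} {p : X ⟶ S} {D : Desc.SchDD p}

set_option maxHeartbeats 1000000 in
/-- A stable open `V` descends if, on a chart `E` over `B0`, the induced action has an
effective quotient. -/
theorem exists_isDescent_of_action {V : D.obj.left.Opens} (hV : IsStableOpen D V)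
    {A0 B0 E : Scheme.{u}} (SB : B0 ⟶ A0) (s : A0 ⟶ S) [Mono s] (g' : B0 ⟶ pullback s p)
    (hg : Presieve.singleton SB ∈ Scheme.fpqcPrecoverage A0)
    (hr : g' ≫ pullback.fst s p = SB)
    (l : V.toScheme ⟶ pullback s p) (hl : l ≫ pullback.snd s p = V.ι ≫ D.obj.hom)
    (a : E ⟶ V.toScheme) (q : E ⟶ B0)
    (ha : IsPullback a q (V.ι ≫ D.obj.hom) (g' ≫ pullback.snd s p))
    (hQ : ∀ σ : pullback SB (q ≫ SB) ⟶ E, σ ≫ q = pullback.fst SB (q ≫ SB) →
      (∀ {T : Scheme.{u}} (z : T ⟶ E) (h : (z ≫ q) ≫ SB = z ≫ q ≫ SB),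
        pullback.lift (z ≫ q) z h ≫ σ = z) →
      (∀ {T : Scheme.{u}} (b b' : T ⟶ B0) (z : T ⟶ E) (h₁ : b ≫ SB = z ≫ q ≫ SB)
        (h₂ : b' ≫ SB = (pullback.lift b z h₁ ≫ σ) ≫ q ≫ SB) (h₃ : b' ≫ SB = z ≫ q ≫ SB),
        pullback.lift b' (pullback.lift b z h₁ ≫ σ) h₂ ≫ σ = pullback.lift b' z h₃ ≫ σ) →
      ∃ (UA : Scheme.{u}) (SC : UA ⟶ A0) (π : E ⟶ UA),
        IsPullback q π SB SC ∧ σ ≫ π = pullback.snd SB (q ≫ SB) ≫ π) :
    ∃ (U : Over S) (π : V.toScheme ⟶ U.left), IsDescent D V U π := by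
  let g := g' ≫ pullback.snd s p
  let Sδ := q
  let SD := q ≫ SB
  let p₁ := pullback.fst SB SD
  let p₂ := pullback.snd SB SD
  have hg2 : g ≫ p = SB ≫ s := by
    simp only [g, Category.assoc, ← pullback.condition, reassoc_of% hr]
  have hSD : Sδ ≫ SB = SD := rfl
  have has : ((a ≫ V.ι) ≫ D.obj.hom) ≫ p = SD ≫ s := by
    rw [show (a ≫ V.ι) ≫ D.obj.hom = Sδ ≫ g from (Category.assoc _ _ _).trans ha.w,
      Category.assoc, hg2, ← hSD, Category.assoc]
  have H : IsPullback p₁ p₂ SB SD := IsPullback.of_hasPullback _ _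
  -- the action
  let t₀ := p₂ ≫ a ≫ V.ι
  have hS0 : (t₀ ≫ D.obj.hom) ≫ p = (p₁ ≫ g) ≫ p := by
    have : t₀ ≫ D.obj.hom = p₂ ≫ (a ≫ V.ι) ≫ D.obj.hom := by simp only [t₀, Category.assoc]
    rw [this, Category.assoc, has, ← Category.assoc, ← H.w, Category.assoc, Category.assoc, hg2]
  let w := D.φ _ _ hS0 ⟨t₀, rfl⟩
  have hwr : Set.range w.1 ⊆ Set.range V.ι := by
    rw [Scheme.Opens.range_ι]
    refine hV _ _ hS0 _ ?_
    rintro _ ⟨z, rfl⟩
    exact (a (p₂ z)).2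
  let wV := IsOpenImmersion.lift V.ι w.1 hwr
  have hwV : wV ≫ V.ι = w.1 := IsOpenImmersion.lift_fac _ _ _
  let σs := ha.lift wV (p₁) (by rw [← Category.assoc, hwV, w.2])
  have hσa : σs ≫ a ≫ V.ι = w.1 := by rw [← Category.assoc, ha.lift_fst, hwV]
  have hσδ : σs ≫ Sδ = p₁ := ha.lift_snd _ _ _
  -- on points
  have act : ∀ {T : Scheme.{u}} (m : T ⟶ pullback SB SD) (x₀ x₁ : T ⟶ X)
      (h : x₀ ≫ p = x₁ ≫ p) (v : T ⟶ D.obj.left) (hv : v ≫ D.obj.hom = x₀),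
      (m ≫ p₂) ≫ a ≫ V.ι = v → (m ≫ p₁) ≫ g = x₁ →
      (m ≫ σs) ≫ a ≫ V.ι = (D.φ x₀ x₁ h ⟨v, hv⟩).1 := by
    intro T m x₀ x₁ h v hv e₂ e₁
    rw [Category.assoc, hσa, comp_phi]
    exact phi_congr (by rw [← hv, ← e₂]; simp only [t₀, Category.assoc])
      (by rw [← e₁, Category.assoc]) _ _ _ _ (by rw [← e₂]; simp only [t₀, Category.assoc])
  have ext : ∀ {T : Scheme.{u}} (z z' : T ⟶ E), z ≫ Sδ = z' ≫ Sδ →
      z ≫ a ≫ V.ι = z' ≫ a ≫ V.ι → z = z' := fun z z' h₁ h₂ ↦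
    ha.hom_ext ((cancel_mono V.ι).mp (by simpa only [Category.assoc] using h₂)) h₁
  -- the quotient
  obtain ⟨UA, SC, π, hsq, hσπ⟩ := hQ σs hσδ (fun {T} z h ↦ by
      have hxx : (z ≫ a ≫ V.ι) ≫ D.obj.hom = (z ≫ Sδ) ≫ g := by
        simp only [Category.assoc, g, Sδ, ha.w]
      apply ext
      · rw [Category.assoc, hσδ, pullback.lift_fst]
      · rw [act _ _ _ (show ((z ≫ a ≫ V.ι) ≫ D.obj.hom) ≫ p = ((z ≫ Sδ) ≫ g) ≫ p by rw [hxx]) (z ≫ a ≫ V.ι) rfl
          (by rw [pullback.lift_snd]) (by rw [pullback.lift_fst])]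
        exact phi_self hxx _ _ _)
    (fun {T} b b' z h₁ h₂ h₃ ↦ by
      apply ext
      · simp only [Category.assoc, hσδ, p₁, SD, pullback.lift_fst]
      · have h01 : ((z ≫ a ≫ V.ι) ≫ D.obj.hom) ≫ p = (b ≫ g) ≫ p := by
          have e := congrArg (· ≫ s) h₁
          simp only [Category.assoc] at e has ⊢
          rw [hg2, has, e]
          simp only [SD, Category.assoc]
        have h12 : (b ≫ g) ≫ p = (b' ≫ g) ≫ p := by
          simp only [Category.assoc, hg2]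
          rw [← Category.assoc, h₁, ← h₃, Category.assoc]
        have e1 := act (pullback.lift b z h₁) _ _ h01 _ rfl (by rw [pullback.lift_snd])
          (by rw [pullback.lift_fst])
        rw [act (pullback.lift b' (pullback.lift b z h₁ ≫ σs) h₂) _ _ h12
            (D.φ _ _ h01 ⟨_, rfl⟩).1 (D.φ _ _ h01 ⟨_, rfl⟩).2
            (by rw [pullback.lift_snd]; exact e1) (by rw [pullback.lift_fst]),
          act (pullback.lift b' z h₃) _ _ (h01.trans h12) _ rfl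
            (by rw [pullback.lift_snd]) (by rw [pullback.lift_fst])]
        exact congrArg Subtype.val (D.φ_comp _ _ _ h01 h12 ⟨_, rfl⟩))
  let U : Over S := Over.mk (SC ≫ s)
  have hπs : π ≫ SC = SD := hsq.w.symm
  -- descend `V`
  have hcondp : ∀ {T : Scheme.{u}} (v : T ⟶ V.toScheme) (b : T ⟶ B0),
      v ≫ l ≫ pullback.fst s p = b ≫ SB → ((v ≫ V.ι) ≫ D.obj.hom) ≫ p = (b ≫ g) ≫ p := by
    intro T v b e
    rw [Category.assoc v V.ι, ← hl, Category.assoc b g p, hg2, ← Category.assoc b SB, ← e]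
    simp only [Category.assoc, pullback.condition]
  -- transport a point to the chart
  have hr' : ∀ {T : Scheme.{u}} (v : T ⟶ V.toScheme) (b : T ⟶ B0)
      (h : ((v ≫ V.ι) ≫ D.obj.hom) ≫ p = (b ≫ g) ≫ p),
      ∃ z : T ⟶ E, z ≫ Sδ = b ∧ z ≫ a ≫ V.ι = (D.φ _ _ h ⟨v ≫ V.ι, rfl⟩).1 := by
    intro T v b h
    have hr0 : Set.range (D.φ _ _ h ⟨v ≫ V.ι, rfl⟩).1 ⊆ Set.range V.ι := by
      rw [Scheme.Opens.range_ι]
      refine hV _ _ h _ ?_
      rintro _ ⟨t, rfl⟩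
      exact (v t).2
    refine ⟨ha.lift (IsOpenImmersion.lift V.ι _ hr0) b ?_, ha.lift_snd _ _ _, ?_⟩
    · rw [← Category.assoc, IsOpenImmersion.lift_fac, (D.φ _ _ h ⟨v ≫ V.ι, rfl⟩).2]
    · rw [ha.lift_fst_assoc, IsOpenImmersion.lift_fac]
  choose ζ hζ₁ hζ₂ using @hr'
  have indep : ∀ {T : Scheme.{u}} (v : T ⟶ V.toScheme) (b b' : T ⟶ B0) (h h'),
      ζ v b h ≫ π = ζ v b' h' ≫ π := by
    intro T v b b' h h'
    have hSD' : b' ≫ SB = ζ v b h ≫ SD := by
      rw [← hSD, ← Category.assoc _ Sδ, hζ₁, ← cancel_mono s, Category.assoc b', Category.assoc b,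
        ← hg2, ← Category.assoc b' g p, ← Category.assoc b g p, ← h', h]
    have e : H.lift b' (ζ v b h) hSD' ≫ σs = ζ v b' h' := by
      apply ext
      · rw [Category.assoc, hσδ, H.lift_fst, hζ₁]
      · rw [act _ (b ≫ g) (b' ≫ g) (h.symm.trans h') (D.φ _ _ h ⟨v ≫ V.ι, rfl⟩).1
            (D.φ _ _ h ⟨v ≫ V.ι, rfl⟩).2 (by rw [H.lift_snd, hζ₂]) (by rw [H.lift_fst]), hζ₂]
        exact congrArg Subtype.val (D.φ_comp _ _ _ h (h.symm.trans h') ⟨_, rfl⟩)
    rw [← e, Category.assoc, hσπ]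
    exact (H.lift_snd_assoc _ _ _ _).symm
  have natural : ∀ {T T' : Scheme.{u}} (k : T' ⟶ T) (v : T ⟶ V.toScheme) (b : T ⟶ B0) (h h'),
      k ≫ ζ v b h = ζ (k ≫ v) (k ≫ b) h' := by
    intro T T' k v b h h'
    apply ext
    · rw [Category.assoc, hζ₁, hζ₁]
    · rw [Category.assoc, hζ₂, hζ₂, comp_phi]
      exact phi_congr (by simp only [Category.assoc]) (by simp only [Category.assoc]) _ _ _ _
        (Category.assoc _ _ _).symm
  let r₀ := pullback.fst (l ≫ pullback.fst s p) SB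
  let b₀ := pullback.snd (l ≫ pullback.fst s p) SB
  have hcov₀ : Presieve.singleton r₀ ∈ Scheme.fpqcPrecoverage V.toScheme :=
    singleton_pullback_mem hg (IsPullback.of_hasPullback _ _)
  have h₀ := hcondp r₀ b₀ pullback.condition
  obtain ⟨πV, hπV, -⟩ := existsUnique_glue_singleton hcov₀ (ζ r₀ b₀ h₀ ≫ π) (by
    let k := pullback.fst r₀ r₀
    let k' := pullback.snd r₀ r₀
    have hk : k ≫ r₀ = k' ≫ r₀ := pullback.condition
    have h1 : (((k ≫ r₀) ≫ V.ι) ≫ D.obj.hom) ≫ p = ((k ≫ b₀) ≫ g) ≫ p :=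
      hcondp _ _ (by simp only [Category.assoc, r₀, b₀, pullback.condition])
    have h2 : (((k' ≫ r₀) ≫ V.ι) ≫ D.obj.hom) ≫ p = ((k' ≫ b₀) ≫ g) ≫ p :=
      hcondp _ _ (by simp only [Category.assoc, r₀, b₀, pullback.condition])
    rw [← Category.assoc, ← Category.assoc, natural k r₀ b₀ h₀ h1, natural k' r₀ b₀ h₀ h2]
    have e : ∀ (v : _ ⟶ V.toScheme) (hv : v = k ≫ r₀) (h'), ζ (k ≫ r₀) (k ≫ b₀) h1 ≫ π =
        ζ v (k' ≫ b₀) h' ≫ π := by
      rintro v rfl h'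
      exact indep _ _ _ _ _
    exact e _ hk.symm h2)
  have key : ∀ {T : Scheme.{u}} (v : T ⟶ V.toScheme) (b : T ⟶ B0) (h), v ≫ πV = ζ v b h ≫ π := by
    intro T v b h
    let k := pullback.fst v r₀
    let k' := pullback.snd v r₀
    have hk : k ≫ v = k' ≫ r₀ := pullback.condition
    have := epi_of_mem (singleton_pullback_mem hcov₀ (IsPullback.of_hasPullback v r₀))
    rw [← cancel_epi k, ← Category.assoc, hk, Category.assoc, hπV, ← Category.assoc]
    have h1 : (((k' ≫ r₀) ≫ V.ι) ≫ D.obj.hom) ≫ p = ((k' ≫ b₀) ≫ g) ≫ p :=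
      hcondp _ _ (by simp only [Category.assoc, r₀, b₀, pullback.condition])
    have h2 : (((k ≫ v) ≫ V.ι) ≫ D.obj.hom) ≫ p = ((k ≫ b) ≫ g) ≫ p := by
      have := congrArg (k ≫ ·) h
      simpa only [Category.assoc] using this
    rw [natural k' r₀ b₀ h₀ h1, ← Category.assoc k, natural k v b h h2]
    have e : ∀ (w : _ ⟶ V.toScheme) (hw : w = k ≫ v) (h'), ζ w (k' ≫ b₀) h' ≫ π =
        ζ (k ≫ v) (k ≫ b) h2 ≫ π := by
      rintro w rfl h'
      exact indep _ _ _ _ _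
    exact e _ hk.symm h1
  have := epi_of_mem hcov₀
  have hw' : πV ≫ U.hom = (V.ι ≫ D.obj.hom) ≫ p := by
    rw [← cancel_epi r₀, reassoc_of% hπV]
    change ζ r₀ b₀ h₀ ≫ π ≫ SC ≫ s = _
    rw [reassoc_of% hπs, show SD = Sδ ≫ SB from rfl, Category.assoc, reassoc_of% (hζ₁ r₀ b₀ h₀),
      ← hg2, ← Category.assoc, ← h₀]
    simp only [Category.assoc]
  refine ⟨U, πV, ?_, ?_⟩
  · let c : V.toScheme ⟶ pullback U.hom p := pullback.lift πV (V.ι ≫ D.obj.hom) hw'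
    have hc₁ : c ≫ pullback.fst U.hom p = πV := pullback.lift_fst _ _ _
    have hc₂ : c ≫ pullback.snd U.hom p = V.ι ≫ D.obj.hom := pullback.lift_snd _ _ _
    have : Mono c := ⟨fun {T} v v' e ↦ by
      have e₁ : v ≫ πV = v' ≫ πV := by rw [← hc₁, reassoc_of% e]
      have e₂ : (v ≫ V.ι) ≫ D.obj.hom = (v' ≫ V.ι) ≫ D.obj.hom := by
        rw [Category.assoc, Category.assoc, ← hc₂, reassoc_of% e]
      let k := pullback.fst (v ≫ l ≫ pullback.fst s p) SB
      let b := pullback.snd (v ≫ l ≫ pullback.fst s p) SB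
      have := epi_of_mem (singleton_pullback_mem hg
        (IsPullback.of_hasPullback (v ≫ l ≫ pullback.fst s p) SB))
      rw [← cancel_epi k, ← cancel_mono V.ι]
      have h := hcondp (k ≫ v) b (by
        simp only [Category.assoc]; exact pullback.condition)
      have h' : (((k ≫ v') ≫ V.ι) ≫ D.obj.hom) ≫ p = (b ≫ g) ≫ p := by
        rw [← h]
        simp only [Category.assoc] at e₂ ⊢
        rw [reassoc_of% e₂]
      have ez : ζ (k ≫ v) b h = ζ (k ≫ v') b h' := hsq.hom_ext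
        ((hζ₁ _ _ h).trans (hζ₁ _ _ h').symm)
        (by rw [← key, ← key, Category.assoc, Category.assoc, e₁])
      have ep := congrArg (· ≫ a ≫ V.ι) ez
      rw [hζ₂, hζ₂] at ep
      have exv : ((k ≫ v') ≫ V.ι) ≫ D.obj.hom = ((k ≫ v) ≫ V.ι) ≫ D.obj.hom := by
        simp only [Category.assoc] at e₂ ⊢
        rw [e₂]
      have ep' : D.φ _ _ h ⟨(k ≫ v) ≫ V.ι, rfl⟩ = D.φ _ _ h ⟨(k ≫ v') ≫ V.ι, exv⟩ :=
        Subtype.ext (ep.trans (phi_congr exv rfl _ _ _ _ rfl))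
      exact congrArg Subtype.val ((D.φ _ _ h).injective ep')⟩
    let u₀ := pullback.fst U.hom p
    let x₀ := pullback.snd U.hom p
    let k := pullback.fst (u₀ ≫ SC) SB
    let b := pullback.snd (u₀ ≫ SC) SB
    have hcovk : Presieve.singleton k ∈ Scheme.fpqcPrecoverage (pullback U.hom p) :=
      singleton_pullback_mem hg (IsPullback.of_hasPullback _ _)
    let z := hsq.lift b (k ≫ u₀) (by rw [← pullback.condition, Category.assoc])
    have hz₁ : z ≫ Sδ = b := hsq.lift_fst _ _ _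
    have hz₂ : z ≫ π = k ≫ u₀ := hsq.lift_snd _ _ _
    have hzx : (z ≫ a ≫ V.ι) ≫ D.obj.hom = b ≫ g := by
      rw [Category.assoc, show (a ≫ V.ι) ≫ D.obj.hom = Sδ ≫ g from (Category.assoc _ _ _).trans ha.w,
        reassoc_of% hz₁]
    have hbx : (b ≫ g) ≫ p = (k ≫ x₀) ≫ p := by
      rw [Category.assoc, hg2, ← Category.assoc, ← pullback.condition, Category.assoc, Category.assoc,
        Category.assoc, show SC ≫ s = U.hom from rfl, pullback.condition]
    have hwr : Set.range (D.φ _ _ hbx ⟨z ≫ a ≫ V.ι, hzx⟩).1 ⊆ Set.range V.ι := by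
      rw [Scheme.Opens.range_ι]
      refine hV _ _ hbx _ ?_
      rintro _ ⟨t, rfl⟩
      exact (a (z t)).2
    let i₀ := IsOpenImmersion.lift V.ι _ hwr
    have hi₀ : i₀ ≫ V.ι = _ := IsOpenImmersion.lift_fac V.ι _ hwr
    have hi₀x : (i₀ ≫ V.ι) ≫ D.obj.hom = k ≫ x₀ := by rw [hi₀, (D.φ _ _ hbx _).2]
    have hi : i₀ ≫ c = k := by
      apply pullback.hom_ext
      · have h : ((i₀ ≫ V.ι) ≫ D.obj.hom) ≫ p = (b ≫ g) ≫ p := by rw [hi₀x, hbx]
        rw [Category.assoc, hc₁, key i₀ b h, ← hz₂]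
        congr 1
        apply ext
        · rw [hζ₁, hz₁]
        · rw [hζ₂, phi_congr hi₀x rfl h _ _ _ hi₀]
          exact (congrArg Subtype.val
            (D.φ_comp _ _ _ hbx hbx.symm ⟨z ≫ a ≫ V.ι, hzx⟩)).trans
            (congrArg Subtype.val (D.φ_self _ _))
      · rw [Category.assoc, hc₂, ← Category.assoc, hi₀x]
    obtain ⟨i, hki, -⟩ := existsUnique_glue_singleton hcovk i₀ (by
      rw [← cancel_mono c, Category.assoc, Category.assoc, hi, pullback.condition])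
    have := epi_of_mem hcovk
    have hic : i ≫ c = 𝟙 _ := by
      rw [← cancel_epi k, reassoc_of% hki, hi, Category.comp_id]
    have : IsIso c := ⟨i, by rw [← cancel_mono c, Category.assoc, hic, Category.comp_id,
      Category.id_comp], hic⟩
    exact IsPullback.of_iso_pullback ⟨hw'⟩ (asIso c) (pullback.lift_fst _ _ _) (pullback.lift_snd _ _ _)
  · intro T x₀ x₁ h v v' hv hv'
    let k := pullback.fst (v ≫ l ≫ pullback.fst s p) SB
    let b := pullback.snd (v ≫ l ≫ pullback.fst s p) SB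
    have := epi_of_mem (singleton_pullback_mem hg
      (IsPullback.of_hasPullback (v ≫ l ≫ pullback.fst s p) SB))
    rw [← cancel_epi k]
    have h₁ := hcondp (k ≫ v) b (by simp only [Category.assoc]; exact pullback.condition)
    have hx1 : (v' ≫ V.ι) ≫ D.obj.hom = x₁ := by rw [hv']; exact (D.φ x₀ x₁ h _).2
    have hx0' : ((k ≫ v) ≫ V.ι) ≫ D.obj.hom = k ≫ x₀ := by
      rw [← hv]; simp only [Category.assoc]
    have hx1' : ((k ≫ v') ≫ V.ι) ≫ D.obj.hom = k ≫ x₁ := by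
      rw [← hx1]; simp only [Category.assoc]
    have hk : (k ≫ x₀) ≫ p = (k ≫ x₁) ≫ p := by simp only [Category.assoc, h]
    have h₂ : (((k ≫ v') ≫ V.ι) ≫ D.obj.hom) ≫ p = (b ≫ g) ≫ p := by
      rw [hx1', ← hk, ← hx0', h₁]
    have hh : (k ≫ x₁) ≫ p = (b ≫ g) ≫ p := by rw [← hx1', h₂]
    have hkv : (k ≫ v') ≫ V.ι =
        (D.φ (k ≫ x₀) (k ≫ x₁) hk ⟨(k ≫ v) ≫ V.ι, hx0'⟩).1 := by
      rw [Category.assoc, hv', comp_phi]
      exact phi_congr rfl rfl _ _ _ _ (Category.assoc _ _ _).symm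
    have e : ζ (k ≫ v) b h₁ = ζ (k ≫ v') b h₂ := by
      apply ext
      · rw [hζ₁, hζ₁]
      · rw [hζ₂, hζ₂, phi_congr hx1' rfl h₂ _ _ _ hkv]
        refine Eq.trans ?_ (congrArg Subtype.val (D.φ_comp _ _ _ hk hh ⟨(k ≫ v) ≫ V.ι, hx0'⟩)).symm
        exact phi_congr hx0' rfl _ _ _ _ rfl
    rw [← Category.assoc k v, ← Category.assoc k v', key (k ≫ v) b h₁, key (k ≫ v') b h₂, e]

end Groth.Agent.SchDescent
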