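import Groth.Agent.SchDescent.IsDesc
import Groth.Agent.FpqcDescent.Props
import Mathlib.AlgebraicGeometry.Morphisms.Flat
import Mathlib.AlgebraicGeometry.Morphisms.UniversallyOpen
import Mathlib.AlgebraicGeometry.Morphisms.FlatDescent
import Mathlib.AlgebraicGeometry.Gluing
import Mathlib.AlgebraicGeometry.Pullbacks

/-! # gluing descended stable opens -/

universe u

open CategoryTheory CategoryTheory.Limits AlgebraicGeometry TopologicalSpace

namespace Groth.Agent.SchDescent

variable {X S : Scheme.{u}} {p : X ⟶ S} {D : Desc.SchDD p}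

lemma isStableOpen_inf {V W : D.obj.left.Opens} (hV : IsStableOpen D V) (hW : IsStableOpen D W) :
    IsStableOpen D (V ⊓ W) := fun _ x₀ x₁ h v hv _ hz ↦
  ⟨hV x₀ x₁ h v (hv.trans Set.inter_subset_left) hz,
    hW x₀ x₁ h v (hv.trans Set.inter_subset_right) hz⟩

lemma homOfLE_val {Z : Scheme.{u}} {V W : Z.Opens} (h : V ≤ W) (a : V.toScheme) :
    (Z.homOfLE h a).1 = a.1 := congr($(Z.homOfLE_ι h) a)

variable (D) in
/-- a stable open which descends -/
structure Good where
  V : D.obj.left.Opens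
  stable : IsStableOpen D V
  good : ∃ (U : Over S) (π : V.toScheme ⟶ U.left), IsDescent D V U π

lemma surjective_of_mem {P P' : Scheme.{u}} {f : P' ⟶ P}
    (hf : Presieve.singleton f ∈ Scheme.fpqcPrecoverage P) : Surjective f := by
  exact ⟨((Scheme.singleton_mem_precoverage_iff (P := @Flat) f).mp
    (Scheme.propQCPrecoverage_le_precoverage _ hf)).1⟩

lemma isQuotientMap_of_mem {P P' : Scheme.{u}} {f : P' ⟶ P}
    (hf : Presieve.singleton f ∈ Scheme.fpqcPrecoverage P) : Topology.IsQuotientMap f.base := by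
  have := surjective_of_mem hf
  rw [Topology.isQuotientMap_iff]
  refine ⟨.of_isOpen_preimage_iff_isOpen fun A ↦
    ⟨fun h ↦ ?_, fun h ↦ h.preimage f.continuous⟩, f.surjective⟩
  refine Groth.Agent.FpqcDescent.isOpen_of_fpqcPrecoverage hf A fun Q q hq ↦ ?_
  cases hq
  exact h

instance [Surjective p] [Flat p] [QuasiCompact p] :
    Fact (Presieve.singleton p ∈ Scheme.fpqcPrecoverage S) := ⟨singleton_mem_fpqc⟩

namespace Good

noncomputable def U (i : Good D) : Over S := i.good.choose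
noncomputable def π (i : Good D) : i.V.toScheme ⟶ i.U.left := i.good.choose_spec.choose
lemma isDescent (i : Good D) : IsDescent D i.V i.U i.π := i.good.choose_spec.choose_spec

instance : Preorder (Good D) := Preorder.lift Good.V

variable [hcov : Fact (Presieve.singleton p ∈ Scheme.fpqcPrecoverage S)]
include hcov

lemma cover_π (i : Good D) : Presieve.singleton i.π ∈ Scheme.fpqcPrecoverage i.U.left :=
  singleton_pullback_mem hcov.out i.isDescent.isPullback

lemma surjective_π (i : Good D) : Surjective i.π := surjective_of_mem (cover_π i)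

lemma isQuotientMap_π (i : Good D) : Topology.IsQuotientMap i.π.base :=
  isQuotientMap_of_mem (cover_π i)

lemma epi_π (i : Good D) : Epi i.π := epi_of_mem (cover_π i)

/-- descend a compatible morphism along `i.π` -/
lemma exists_desc (i : Good D) {Z : Scheme.{u}} (f : i.V.toScheme ⟶ Z)
    (hf : ∀ ⦃T : Scheme.{u}⦄ (x₀ x₁ : T ⟶ X) (h : x₀ ≫ p = x₁ ≫ p) (v v' : T ⟶ i.V.toScheme)
      (hv : (v ≫ i.V.ι) ≫ D.obj.hom = x₀),
      v' ≫ i.V.ι = (D.φ x₀ x₁ h ⟨v ≫ i.V.ι, hv⟩).1 → v ≫ f = v' ≫ f) :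
    ∃! g, i.π ≫ g = f := by
  refine existsUnique_glue_singleton (cover_π i) f ?_
  let v := pullback.fst i.π i.π
  let v' := pullback.snd i.π i.π
  have h : ((v ≫ i.V.ι) ≫ D.obj.hom) ≫ p = ((v' ≫ i.V.ι) ≫ D.obj.hom) ≫ p := by
    have h1 := congrArg (v ≫ ·) i.isDescent.isPullback.w
    have h2 := congrArg (v' ≫ ·) i.isDescent.isPullback.w
    simp only [Category.assoc] at h1 h2 ⊢
    rw [← h1, ← h2, pullback.condition_assoc]
  exact hf _ _ h v v' rfl (i.isDescent.lift_eq i.stable v v' pullback.condition h)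

/-- restriction to a smaller stable open -/
lemma exists_restrict (i : Good D) {V : D.obj.left.Opens} (hV : IsStableOpen D V) (h : V ≤ i.V) :
    ∃ (W : i.U.left.Opens) (q : V.toScheme ⟶ W.toScheme),
      i.π ⁻¹ᵁ W = (D.obj.left.homOfLE h).opensRange ∧ q ≫ W.ι = D.obj.left.homOfLE h ≫ i.π ∧
      IsDescent D V (Over.mk (W.ι ≫ i.U.hom)) q := by
  let O := (D.obj.left.homOfLE h).opensRange
  have hsat : i.π.base ⁻¹' (i.π.base '' (O : Set i.V.toScheme)) = O := by
    refine Set.Subset.antisymm ?_ (Set.subset_preimage_image _ _)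
    rintro z ⟨_, ⟨a, rfl⟩, e⟩
    have : z.1 ∈ V := i.isDescent.mem_of_eq i.stable hV e ((homOfLE_val h a).symm ▸ a.2)
    exact ⟨⟨z.1, this⟩, Subtype.ext (homOfLE_val h _)⟩
  let W : i.U.left.Opens := ⟨i.π.base '' (O : Set i.V.toScheme),
    (isQuotientMap_π i).isOpen_preimage.mp (hsat.symm ▸ O.isOpen)⟩
  have hW : i.π ⁻¹ᵁ W = O := TopologicalSpace.Opens.ext hsat
  let q := IsOpenImmersion.lift W.ι (D.obj.left.homOfLE h ≫ i.π) (by
    rintro _ ⟨x, rfl⟩
    rw [Scheme.Opens.range_ι]
    exact ⟨D.obj.left.homOfLE h x, ⟨x, rfl⟩, rfl⟩)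
  have hq : q ≫ W.ι = D.obj.left.homOfLE h ≫ i.π := IsOpenImmersion.lift_fac _ _ _
  have hpb : IsPullback q (D.obj.left.homOfLE h) W.ι i.π :=
    IsOpenImmersion.isPullback q (D.obj.left.homOfLE h) W.ι i.π hq.symm (by
      rw [Scheme.Opens.opensRange_ι]; exact hW)
  refine ⟨W, q, hW, hq, ?_, fun T x₀ x₁ hx v v' hv hv' ↦ ?_⟩
  · have := hpb.paste_vert i.isDescent.isPullback
    rwa [Scheme.homOfLE_ι_assoc] at this
  · refine (cancel_mono W.ι).mp ?_
    rw [Category.assoc, Category.assoc, hq, ← Category.assoc, ← Category.assoc]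
    refine i.isDescent.compat x₀ x₁ hx _ _
      (by rw [Category.assoc v, Scheme.homOfLE_ι]; exact hv) ?_
    refine ((Category.assoc v' _ _).trans
      ((congrArg (v' ≫ ·) (D.obj.left.homOfLE_ι h)).trans hv')).trans ?_
    exact phi_congr rfl rfl _ _ _ _ (by rw [Category.assoc, Scheme.homOfLE_ι])

def sub (i : Good D) {V : D.obj.left.Opens} (hV : IsStableOpen D V) (h : V ≤ i.V) : Good D where
  V := V
  stable := hV
  good := let ⟨W, q, _, _, hq⟩ := exists_restrict i hV h; ⟨Over.mk (W.ι ≫ i.U.hom), q, hq⟩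

lemma trans_compat {i j : Good D} (h : i.V ≤ j.V) ⦃T : Scheme.{u}⦄ (x₀ x₁ : T ⟶ X)
    (hx : x₀ ≫ p = x₁ ≫ p) (v v' : T ⟶ i.V.toScheme) (hv : (v ≫ i.V.ι) ≫ D.obj.hom = x₀)
    (hv' : v' ≫ i.V.ι = (D.φ x₀ x₁ hx ⟨v ≫ i.V.ι, hv⟩).1) :
    v ≫ D.obj.left.homOfLE h ≫ j.π = v' ≫ D.obj.left.homOfLE h ≫ j.π := by
  rw [← Category.assoc, ← Category.assoc]
  refine j.isDescent.compat x₀ x₁ hx _ _
    (by rw [Category.assoc v, Scheme.homOfLE_ι]; exact hv) ?_
  refine ((Category.assoc v' _ _).trans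
    ((congrArg (v' ≫ ·) (D.obj.left.homOfLE_ι h)).trans hv')).trans ?_
  exact phi_congr rfl rfl _ _ _ _ (by rw [Category.assoc, Scheme.homOfLE_ι])

noncomputable def trans {i j : Good D} (h : i.V ≤ j.V) : i.U.left ⟶ j.U.left :=
  (exists_desc i (D.obj.left.homOfLE h ≫ j.π) (trans_compat h)).choose

lemma π_trans {i j : Good D} (h : i.V ≤ j.V) : i.π ≫ trans h = D.obj.left.homOfLE h ≫ j.π :=
  (exists_desc i (D.obj.left.homOfLE h ≫ j.π) (trans_compat h)).choose_spec.1

lemma trans_hom {i j : Good D} (h : i.V ≤ j.V) : trans h ≫ j.U.hom = i.U.hom := by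
  have := epi_π i
  rw [← cancel_epi i.π, reassoc_of% (π_trans h), j.isDescent.isPullback.w, i.isDescent.isPullback.w]
  simp only [← Category.assoc, Scheme.homOfLE_ι]

instance isOpenImmersion_trans {i j : Good D} (h : i.V ≤ j.V) : IsOpenImmersion (trans h) := by
  obtain ⟨W, q, -, hq, hqQ⟩ := exists_restrict j i.stable h
  have := epi_π i
  have hcq : Presieve.singleton q ∈ Scheme.fpqcPrecoverage W.toScheme :=
    singleton_pullback_mem hcov.out hqQ.isPullback
  have := epi_of_mem hcq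
  obtain ⟨a, ha, -⟩ := exists_desc i q fun T x₀ x₁ hx v v' hv hv' ↦ hqQ.compat x₀ x₁ hx v v' hv hv'
  obtain ⟨b, hb, -⟩ := existsUnique_glue_singleton hcq i.π (by
    let v := pullback.fst q q
    let v' := pullback.snd q q
    have h : ((v ≫ i.V.ι) ≫ D.obj.hom) ≫ p = ((v' ≫ i.V.ι) ≫ D.obj.hom) ≫ p := by
      have h1 := congrArg (v ≫ ·) hqQ.isPullback.w
      have h2 := congrArg (v' ≫ ·) hqQ.isPullback.w
      simp only [Category.assoc] at h1 h2 ⊢
      rw [← h1, ← h2, pullback.condition_assoc]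
    exact i.isDescent.compat _ _ h v v' rfl (hqQ.lift_eq i.stable v v' pullback.condition h))
  have hab : a ≫ b = 𝟙 _ := by rw [← cancel_epi i.π, reassoc_of% ha, hb, Category.comp_id]
  have hba : b ≫ a = 𝟙 _ := by rw [← cancel_epi q, reassoc_of% hb, ha, Category.comp_id]
  have : IsIso a := ⟨b, hab, hba⟩
  have : trans h = a ≫ W.ι := by rw [← cancel_epi i.π, π_trans, reassoc_of% ha, hq]
  rw [this]
  infer_instance

variable (D) in
noncomputable def diagram : Good D ⥤ Scheme.{u} where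
  obj i := i.U.left
  map f := trans f.le
  map_id i := by
    have := epi_π i
    rw [← cancel_epi i.π, π_trans, Scheme.homOfLE_rfl, Category.id_comp, Category.comp_id]
  map_comp {i j k} f g := by
    have := epi_π i
    rw [← cancel_epi i.π, π_trans, reassoc_of% (π_trans f.le), π_trans, Scheme.homOfLE_homOfLE_assoc]

instance {i j : Good D} (f : i ⟶ j) : IsOpenImmersion ((diagram D).map f) :=
  isOpenImmersion_trans f.le

instance : (diagram D ⋙ Scheme.forget).IsLocallyDirected := by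
  constructor
  intro i j k fi fj xi xj he
  obtain ⟨a, rfl⟩ := (surjective_π i).surj xi
  obtain ⟨b, rfl⟩ := (surjective_π j).surj xj
  have he' : k.π (D.obj.left.homOfLE fi.le a) = k.π (D.obj.left.homOfLE fj.le b) := by
    rw [← Scheme.Hom.comp_apply, ← Scheme.Hom.comp_apply, ← π_trans fi.le, ← π_trans fj.le]
    exact he
  have ha : a.1 ∈ j.V := by
    have := k.isDescent.mem_of_eq k.stable j.stable he'.symm
      (by rw [homOfLE_val]; exact b.2)
    rwa [homOfLE_val] at this
  let l : Good D := i.sub (isStableOpen_inf i.stable j.stable) inf_le_left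
  refine ⟨l, homOfLE (show l.V ≤ i.V from inf_le_left), homOfLE (show l.V ≤ j.V from inf_le_right),
    l.π ⟨a.1, a.2, ha⟩, ?_, ?_⟩
  · change (l.π ≫ trans _) ⟨a.1, a.2, ha⟩ = _
    rw [π_trans]
    exact congr_arg i.π.base (Subtype.ext (homOfLE_val _ _))
  · change (l.π ≫ trans _) ⟨a.1, a.2, ha⟩ = _
    rw [π_trans]
    apply (trans fj.le).injective
    have e1 := congr($(π_trans fj.le)
      (D.obj.left.homOfLE (show l.V ≤ j.V from inf_le_right) ⟨a.1, a.2, ha⟩))
    have e2 := congr($(π_trans fj.le) b)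
    refine e1.trans (Eq.trans ?_ (he'.trans e2.symm))
    exact congr_arg k.π.base (Subtype.ext (((homOfLE_val fj.le _).trans (homOfLE_val _ _)).trans
      (homOfLE_val fi.le a).symm))

end Good

/-- effectivity from a cover by good stable opens -/
theorem effective_of_good_cover [Fact (Presieve.singleton p ∈ Scheme.fpqcPrecoverage S)] (D : Desc.SchDD p)
    (H : ∀ z : D.obj.left, ∃ i : Good D, z ∈ i.V) :
    ∃ U : Over S, Nonempty ((Desc.toDD p).obj U ≅ D) := by
  choose i hi using H
  let F := Good.diagram D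
  let Z := D.obj.left
  let c : ∀ j : Good D, j.U.left ⟶ colimit F := fun j ↦ colimit.ι F j
  let 𝒰 : Z.OpenCover := {
    I₀ := Z, X x := (i x).V, f x := (i x).V.ι,
    mem₀ := by
      rw [Scheme.presieve₀_mem_precoverage_iff]
      exact ⟨fun x ↦ ⟨x, by simpa using hi x⟩, inferInstance⟩ }
  have hc : ∀ {k j : Good D} (h : k.V ≤ j.V), Z.homOfLE h ≫ j.π ≫ c j = k.π ≫ c k := by
    intro k j h
    rw [← reassoc_of% (Good.π_trans h)]
    exact congr_arg _ (colimit.w F (homOfLE h))
  have compat : ∀ a b, pullback.fst (i a).V.ι (i b).V.ι ≫ (i a).π ≫ c (i a) =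
      pullback.snd _ _ ≫ (i b).π ≫ c (i b) := by
    intro a b
    rw [← cancel_epi (isPullback_opens_inf (i a).V (i b).V).isoPullback.hom]
    simp only [IsPullback.isoPullback_hom_fst_assoc, IsPullback.isoPullback_hom_snd_assoc]
    let l : Good D := (i a).sub (isStableOpen_inf (i a).stable (i b).stable) inf_le_left
    exact (hc (k := l) inf_le_left).trans (hc (k := l) inf_le_right).symm
  let π := 𝒰.glueMorphisms (fun x ↦ (i x).π ≫ c (i x)) compat
  have hp : ∀ j : Good D, j.V.ι ≫ π = j.π ≫ c j := by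
    intro j
    refine Scheme.hom_ext_of_forall _ _ fun z ↦ ?_
    let l : Good D := j.sub (isStableOpen_inf j.stable (i z.1).stable) inf_le_left
    refine ⟨(Z.homOfLE (inf_le_left : l.V ≤ j.V)).opensRange,
      ⟨⟨z.1, z.2, hi z.1⟩, Subtype.ext (homOfLE_val _ _)⟩, ?_⟩
    rw [← cancel_epi (Z.homOfLE (inf_le_left : l.V ≤ j.V)).isoOpensRange.hom]
    simp only [Scheme.Hom.isoOpensRange_hom_ι_assoc]
    have e3 : (i z.1).π ≫ c (i z.1) = (i z.1).V.ι ≫ π :=
      (𝒰.ι_glueMorphisms (fun x ↦ (i x).π ≫ c (i x)) compat z.1).symm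
    refine (Scheme.homOfLE_ι_assoc _ _ _).trans (Eq.trans ?_
      ((hc (k := l) (j := i z.1) inf_le_right).trans (hc (k := l) (j := j) inf_le_left).symm))
    rw [e3]
    exact (Scheme.homOfLE_ι_assoc _ _ _).symm
  let co : Cocone F :=
    { pt := S
      ι := { app := fun j ↦ j.U.hom
             naturality := fun j k f ↦ (Good.trans_hom f.le).trans (Category.comp_id _).symm } }
  let U : Over S := Over.mk (colimit.desc F co)
  have hcU : ∀ j : Good D, c j ≫ U.hom = j.U.hom := fun j ↦ colimit.ι_desc co j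
  have hw : π ≫ U.hom = D.obj.hom ≫ p := by
    refine 𝒰.hom_ext _ _ fun x ↦ ?_
    change (i x).V.ι ≫ π ≫ U.hom = (i x).V.ι ≫ D.obj.hom ≫ p
    rw [reassoc_of% (hp (i x)), hcU, (i x).isDescent.isPullback.w, Category.assoc]
  have : ∀ j, IsOpenImmersion (c j) := fun j ↦
    inferInstanceAs (IsOpenImmersion (colimit.ι F j))
  have hpre : ∀ j : Good D, π ⁻¹ᵁ (colimit.ι F j).opensRange = j.V := by
    intro j
    ext x
    refine ⟨fun hx ↦ ?_, fun hx ↦ ⟨j.π ⟨x, hx⟩, (congr($(hp j) ⟨x, hx⟩)).symm⟩⟩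
    obtain ⟨zj, hzj⟩ := hx
    have hx1 : c (i x) ((i x).π ⟨x, hi x⟩) = c j zj :=
      ((congr($(hp (i x)) ⟨x, hi x⟩)).symm).trans hzj.symm
    obtain ⟨k, fi, fj, w, hw, -⟩ := Scheme.IsLocallyDirected.ι_eq_ι_iff F |>.mp hx1
    obtain ⟨z, rfl⟩ := (Good.surjective_π k).surj w
    change (k.π ≫ Good.trans fi.le) z = _ at hw
    rw [Good.π_trans] at hw
    exact (i x).isDescent.mem_of_eq (i x).stable j.stable hw
      ((congrArg (· ∈ j.V) (homOfLE_val fi.le z)).mpr (fj.le z.2))
  refine effective_of_isDescent U π ?_ ?_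
  · let P := pullback U.hom p
    let cc : Z ⟶ P := pullback.lift π D.obj.hom hw
    have : IsIso cc := by
      change MorphismProperty.isomorphisms Scheme.{u} cc
      refine IsZariskiLocalAtTarget.of_openCover (P := MorphismProperty.isomorphisms Scheme.{u})
        (Scheme.Pullback.openCoverOfLeft (Scheme.IsLocallyDirected.openCover F) U.hom p) fun jj ↦ ?_
      let j : Good D := jj
      let kj : pullback (c j ≫ U.hom) p ⟶ P :=
        pullback.map (c j ≫ U.hom) p U.hom p (c j) (𝟙 X) (𝟙 S)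
          (Category.comp_id _) ((Category.comp_id _).trans (Category.id_comp _).symm)
      let e : j.V.toScheme ⟶ pullback (c j ≫ U.hom) p :=
        pullback.lift j.π (j.V.ι ≫ D.obj.hom) (by
          rw [hcU j]; exact j.isDescent.isPullback.w)
      have he : IsIso e := by
        have := j.isDescent.isPullback
        rw [← hcU j] at this
        have h2 : e = this.isoPullback.hom := pullback.hom_ext
          ((pullback.lift_fst _ _ _).trans this.isoPullback_hom_fst.symm)
          ((pullback.lift_snd _ _ _).trans this.isoPullback_hom_snd.symm)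
        rw [h2]; infer_instance
      have t : IsPullback kj (pullback.fst (c j ≫ U.hom) p) (pullback.fst U.hom p)
          (c j) := by
        refine IsPullback.of_right ?_ (pullback.lift_fst _ _ _)
          (IsPullback.of_hasPullback U.hom p).flip
        rw [show kj ≫ pullback.snd U.hom p = pullback.snd (c j ≫ U.hom) p from
          (pullback.lift_snd _ _ _).trans (Category.comp_id _)]
        exact (IsPullback.of_hasPullback _ _).flip
      have s : IsPullback j.V.ι (e ≫ pullback.fst (c j ≫ U.hom) p) (cc ≫ pullback.fst U.hom p)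
          (c j) := by
        rw [pullback.lift_fst, pullback.lift_fst]
        refine (IsOpenImmersion.isPullback j.π j.V.ι (c j) π ?_ ?_).flip
        · exact hp j
        · rw [Scheme.Opens.opensRange_ι]; exact hpre j
      have sq : IsPullback j.V.ι e cc kj := by
        refine IsPullback.of_bot s ?_ t
        apply pullback.hom_ext
        · simp only [Category.assoc, kj, cc, e, pullback.lift_fst, pullback.lift_fst_assoc]
          exact hp j
        · simp only [Category.assoc, kj, cc, e, pullback.lift_snd, Category.comp_id]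
      change IsIso (pullback.snd cc kj)
      rw [← sq.isoPullback_inv_snd]
      infer_instance
    exact IsPullback.of_iso_pullback ⟨hw⟩ (asIso cc) (pullback.lift_fst _ _ _) (pullback.lift_snd _ _ _)
  · intro T x₀ x₁ h v
    refine Scheme.hom_ext_of_forall _ _ fun t ↦ ?_
    let j := i (v.1 t)
    let O : T.Opens := v.1 ⁻¹ᵁ j.V
    refine ⟨O, hi (v.1 t), ?_⟩
    have hr : Set.range (O.ι ≫ v.1) ⊆ j.V := by rintro _ ⟨s, rfl⟩; exact s.2
    let y := IsOpenImmersion.lift j.V.ι (O.ι ≫ v.1) (by rwa [Scheme.Opens.range_ι])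
    have hy : y ≫ j.V.ι = O.ι ≫ v.1 := IsOpenImmersion.lift_fac _ _ _
    have h' : (O.ι ≫ x₀) ≫ p = (O.ι ≫ x₁) ≫ p := by simp only [Category.assoc, h]
    have hr' := j.stable _ _ h' ⟨O.ι ≫ v.1, by rw [Category.assoc, v.2]⟩ hr
    let w' : O.toScheme ⟶ D.obj.left :=
      (D.φ (O.ι ≫ x₀) (O.ι ≫ x₁) h' ⟨O.ι ≫ v.1, by rw [Category.assoc, v.2]⟩).1
    let y' : O.toScheme ⟶ j.V.toScheme :=
      IsOpenImmersion.lift j.V.ι w' (by rw [Scheme.Opens.range_ι]; exact hr')
    have hy' : y' ≫ j.V.ι = w' := IsOpenImmersion.lift_fac _ _ _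
    have key := j.isDescent.compat (O.ι ≫ x₀) (O.ι ≫ x₁) h' y y'
      (by rw [hy, Category.assoc, v.2]) (hy'.trans (phi_congr rfl rfl _ _ _ _ hy.symm))
    have key2 := congrArg (· ≫ c j) key
    simp only [Category.assoc, ← hp j, reassoc_of% hy, reassoc_of% hy'] at key2
    rw [reassoc_of% (comp_phi O.ι x₀ x₁ h v.1 v.2)]
    exact key2

end Groth.Agent.SchDescent
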