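import Groth.Agent.SchDescent.AffineOpen
import Groth.Agent.SchDescent.Gluing
import Mathlib.AlgebraicGeometry.Morphisms.UniversallyInjective

/-! # effectivity criteria for descent data of schemes -/

universe u

open CategoryTheory CategoryTheory.Limits AlgebraicGeometry

namespace Groth.Agent.SchDescent

variable {X S : Scheme.{u}} {p : X ⟶ S} (D : Desc.SchDD p)

lemma isStableOpen_preimage (U0 : S.Opens) :
    IsStableOpen D (D.obj.hom ⁻¹ᵁ (p ⁻¹ᵁ U0)) := by
  intro T x₀ x₁ h v hv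
  rintro _ ⟨t, rfl⟩
  have h1 : ((D.φ x₀ x₁ h v).1 ≫ D.obj.hom) ≫ p = (v.1 ≫ D.obj.hom) ≫ p := by
    rw [(D.φ x₀ x₁ h v).2, v.2, h]
  have h2 : p (D.obj.hom ((D.φ x₀ x₁ h v).1 t)) = p (D.obj.hom (v.1 t)) := congr($h1 t)
  change p (D.obj.hom ((D.φ x₀ x₁ h v).1 t)) ∈ U0
  rw [h2]
  exact hv ⟨t, rfl⟩

lemma range_subset_snd {U0 : S.Opens} (hU : IsAffineOpen U0) {V : D.obj.left.Opens}
    (hV : V ≤ D.obj.hom ⁻¹ᵁ (p ⁻¹ᵁ U0)) :
    Set.range (V.ι ≫ D.obj.hom) ⊆ Set.range (pullback.snd hU.fromSpec p) := by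
  rintro _ ⟨v, rfl⟩
  rw [IsOpenImmersion.range_pullbackSnd, hU.opensRange_fromSpec]
  exact hV v.2

theorem effective_of_isAffineHom [Surjective p] [Flat p] [QuasiCompact p] [IsAffineHom D.obj.hom] :
    ∃ U : Over S, Nonempty ((Desc.toDD p).obj U ≅ D) := by
  refine effective_of_good_cover D fun z ↦ ?_
  obtain ⟨U0, hU, hz, -⟩ := exists_isAffineOpen_mem_and_subset (U := ⊤)
    (show p (D.obj.hom z) ∈ (⊤ : S.Opens) from trivial)
  let V := D.obj.hom ⁻¹ᵁ (p ⁻¹ᵁ U0)
  let l := IsOpenImmersion.lift (pullback.snd hU.fromSpec p) (V.ι ≫ D.obj.hom)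
    (range_subset_snd D hU le_rfl)
  have hl : l ≫ pullback.snd hU.fromSpec p = V.ι ≫ D.obj.hom := IsOpenImmersion.lift_fac _ _ _
  have hpb : IsPullback l V.ι (pullback.snd hU.fromSpec p) D.obj.hom :=
    IsOpenImmersion.isPullback l V.ι (pullback.snd hU.fromSpec p) D.obj.hom hl.symm (by
      rw [Scheme.Opens.opensRange_ι]
      ext x
      change D.obj.hom x ∈ Set.range (pullback.snd hU.fromSpec p) ↔ x ∈ V
      rw [IsOpenImmersion.range_pullbackSnd, hU.opensRange_fromSpec]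
      rfl)
  have : IsAffineHom l := MorphismProperty.of_isPullback hpb.flip ‹_›
  exact ⟨⟨V, isStableOpen_preimage D U0,
    exists_isDescent_of_affineOpen (isStableOpen_preimage D U0) hU l hl⟩, hz⟩

variable {D} in
lemma isStableOpen_of_universallyInjective [UniversallyInjective p] (V : D.obj.left.Opens) :
    IsStableOpen D V := by
  intro T x₀ x₁ h v hv
  rintro _ ⟨t, rfl⟩
  let k := T.fromSpecResidueField t
  have h01 : UniversallyInjective p ↔
      ∀ (K : Type u) [Field K], Function.Injective (fun g : Spec (.of K) ⟶ X ↦ g ≫ p) :=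
    (tfae_universallyInjective p).out 0 1
  have hk : k ≫ x₀ = k ≫ x₁ := h01.mp ‹_› (T.residueField t)
      (show (k ≫ x₀) ≫ p = (k ≫ x₁) ≫ p by simp only [Category.assoc, h])
  have e : k ≫ (D.φ x₀ x₁ h v).1 = k ≫ v.1 := by
    rw [comp_phi k x₀ x₁ h v.1 v.2]
    exact phi_self hk _ _ _
  have := congr($e (IsLocalRing.closedPoint (T.residueField t)))
  change (D.φ x₀ x₁ h v).1 (k (IsLocalRing.closedPoint (T.residueField t))) =
    v.1 (k (IsLocalRing.closedPoint (T.residueField t))) at this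
  rw [show k (IsLocalRing.closedPoint (T.residueField t)) = t from
    Scheme.fromSpecResidueField_apply _ _] at this
  rw [this]
  exact hv ⟨t, rfl⟩

lemma isAffineHom_of_radicial [Surjective p] [Flat p] [QuasiCompact p] [UniversallyInjective p] :
    IsAffineHom p := by
  have hq := Flat.isQuotientMap_of_surjective p
  have hopen : IsOpenMap p.base := fun O hO ↦ by
    rw [← hq.isOpen_preimage, Set.preimage_image_eq _ p.injective]
    exact hO
  refine isAffineHom_of_isInducing p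
    (Topology.IsOpenEmbedding.of_continuous_injective_isOpenMap p.continuous p.injective
      hopen).isInducing ?_
  rw [p.surjective.range_eq]
  exact isClosed_univ

theorem effective_of_universallyInjective [Surjective p] [Flat p] [QuasiCompact p]
    [UniversallyInjective p] : ∃ U : Over S, Nonempty ((Desc.toDD p).obj U ≅ D) := by
  refine effective_of_good_cover D fun z ↦ ?_
  have := isAffineHom_of_radicial (p := p)
  obtain ⟨U0, hU, hz, -⟩ := exists_isAffineOpen_mem_and_subset (U := ⊤)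
    (show p (D.obj.hom z) ∈ (⊤ : S.Opens) from trivial)
  obtain ⟨V, hV, hzV, hVU⟩ := exists_isAffineOpen_mem_and_subset
    (show z ∈ D.obj.hom ⁻¹ᵁ (p ⁻¹ᵁ U0) from hz)
  let l := IsOpenImmersion.lift (pullback.snd hU.fromSpec p) (V.ι ≫ D.obj.hom)
    (range_subset_snd D hU (fun _ hx ↦ hVU hx))
  have : IsAffine V := hV
  have : IsAffine (pullback hU.fromSpec p) := isAffine_of_isAffineHom (pullback.fst hU.fromSpec p)
  exact ⟨⟨V, isStableOpen_of_universallyInjective V,
    exists_isDescent_of_affineOpen (isStableOpen_of_universallyInjective V) hU l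
      (IsOpenImmersion.lift_fac _ _ _)⟩, hzV⟩

lemma exists_good_of_hom (U' : Over S) (m : (Desc.toDD p).obj U' ⟶ D)
    [IsOpenImmersion m.hom.left] :
    ∃ V : D.obj.left.Opens, (V : Set D.obj.left) = Set.range m.hom.left ∧ IsStableOpen D V ∧
      ∃ (U : Over S) (π : V.toScheme ⟶ U.left), IsDescent D V U π := by
  let f : pullback p U'.hom ⟶ D.obj.left := m.hom.left
  have hf : f ≫ D.obj.hom = pullback.fst p U'.hom := Over.w m.hom
  have : IsOpenImmersion f := ‹IsOpenImmersion m.hom.left›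
  let V : D.obj.left.Opens := f.opensRange
  let e : pullback p U'.hom ≅ V.toScheme := Scheme.Hom.isoOpensRange f
  have he : e.hom ≫ V.ι = f := Scheme.Hom.isoOpensRange_hom_ι _
  have he' : e.inv ≫ f = V.ι := by rw [← he, Iso.inv_hom_id_assoc]
  have hφ : ∀ ⦃T : Scheme.{u}⦄ (x₀ x₁ : T ⟶ X) (h : x₀ ≫ p = x₁ ≫ p)
      (w : T ⟶ pullback p U'.hom) (hw : w ≫ pullback.fst p U'.hom = x₀),
      (D.φ x₀ x₁ h ⟨w ≫ f, by rw [Category.assoc, hf, hw]⟩).1 =
        (((Desc.toDD p).obj U').φ x₀ x₁ h ⟨w, hw⟩).1 ≫ f :=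
    fun T x₀ x₁ h w hw ↦ m.comm x₀ x₁ h ⟨w, hw⟩ ⟨w ≫ f, by rw [Category.assoc, hf, hw]⟩ rfl
  refine ⟨V, rfl, ?_, U', e.inv ≫ pullback.snd p U'.hom, ?_, ?_⟩
  · intro T x₀ x₁ h v hv
    let w := IsOpenImmersion.lift f v.1 hv
    have hw : w ≫ f = v.1 := IsOpenImmersion.lift_fac _ _ _
    have := hφ x₀ x₁ h w (by rw [← hf, ← Category.assoc, hw, v.2])
    rw [phi_congr rfl rfl h _ _ v.1 hw] at this
    rw [this]
    rintro _ ⟨t, rfl⟩
    exact ⟨_, rfl⟩
  · exact (IsPullback.of_hasPullback p U'.hom).flip.of_iso e (Iso.refl _) (Iso.refl _) (Iso.refl _)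
      (by simp) (by simp [← hf, reassoc_of% he]) (by simp) (by simp)
  · intro T x₀ x₁ h v v' hv hv'
    have hw : (v ≫ e.inv) ≫ pullback.fst p U'.hom = x₀ := by
      rw [← hf, Category.assoc, reassoc_of% he', ← Category.assoc, hv]
    have := hφ x₀ x₁ h (v ≫ e.inv) hw
    rw [phi_congr rfl rfl h _ _ (v ≫ V.ι) (by rw [Category.assoc, he']), ← hv'] at this
    have h2 : v' ≫ e.inv = (((Desc.toDD p).obj U').φ x₀ x₁ h ⟨v ≫ e.inv, hw⟩).1 := by
      have := (cancel_mono f).mp (((Category.assoc _ _ _).trans (by rw [he'])).trans this)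
      exact this
    rw [reassoc_of% h2]
    exact (Category.assoc _ _ _).symm.trans (pullback.lift_snd _ _ _).symm

theorem effective_of_effective_cover [Surjective p] [Flat p] [QuasiCompact p]
    (h : ∀ v : D.obj.left, ∃ (D' : Desc.SchDD p) (j : D' ⟶ D), IsOpenImmersion j.hom.left ∧
      v ∈ Set.range j.hom.left.base ∧ ∃ U' : Over S, Nonempty ((Desc.toDD p).obj U' ≅ D')) :
    ∃ U : Over S, Nonempty ((Desc.toDD p).obj U ≅ D) := by
  refine effective_of_good_cover D fun z ↦ ?_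
  obtain ⟨D', j, hj, ⟨z', hz'⟩, U', ⟨e⟩⟩ := h z
  have : IsIso e.hom.hom := ⟨e.inv.hom, congrArg (fun f ↦ Desc.SchDD.Hom.hom f) e.hom_inv_id,
    congrArg (fun f ↦ Desc.SchDD.Hom.hom f) e.inv_hom_id⟩
  have : IsIso e.hom.hom.left := inferInstanceAs (IsIso ((Over.forget X).map e.hom.hom))
  have : IsOpenImmersion (e.hom ≫ j).hom.left :=
    inferInstanceAs (IsOpenImmersion (e.hom.hom.left ≫ j.hom.left))
  obtain ⟨V, hV, hst, hg⟩ := exists_good_of_hom D U' (e.hom ≫ j)
  refine ⟨⟨V, hst, hg⟩, ?_⟩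
  change z ∈ (V : Set D.obj.left)
  rw [hV]
  obtain ⟨w, hw⟩ := e.hom.hom.left.surjective z'
  exact ⟨w, (congrArg j.hom.left.base hw).trans hz'⟩

end Groth.Agent.SchDescent
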