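import Mathlib.RingTheory.Flat.Basic
import Mathlib.RingTheory.TensorProduct.Maps
import Mathlib.Algebra.Algebra.Subalgebra.Basic
import Mathlib.Algebra.Algebra.Tower

/-! # descent for algebras along a flat ring map -/

universe u

open TensorProduct

namespace Groth.Agent.SchDescent

variable {A B D : Type u} [CommRing A] [CommRing B] [CommRing D] [Algebra A B] [Algebra A D]
  (e : B →ₐ[A] D) (σ : D →ₐ[A] B ⊗[A] D)

/-- the invariants of a descent datum on an algebra -/
def descSubalgebra : Subalgebra A D :=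
  AlgHom.equalizer σ (Algebra.TensorProduct.includeRight : D →ₐ[A] B ⊗[A] D)

lemma mem_descSubalgebra {d : D} :
    d ∈ descSubalgebra σ ↔ σ d = (1 : B) ⊗ₜ[A] d := Iff.rfl

/-- `B ⊗ C → D` -/
noncomputable def comparison : B ⊗[A] descSubalgebra σ →ₐ[A] D :=
  Algebra.TensorProduct.lift e (descSubalgebra σ).val fun _ _ ↦ Commute.all _ _

theorem bijective_comparison [Module.Flat A B]
    (hid : (Algebra.TensorProduct.lift e (AlgHom.id A D) fun _ _ ↦ Commute.all _ _).comp σ = AlgHom.id A D)
    (hlin : σ.comp e = Algebra.TensorProduct.includeLeft)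
    (hassoc : (Algebra.TensorProduct.map (AlgHom.id A B) σ).comp σ =
      (Algebra.TensorProduct.map (AlgHom.id A B) Algebra.TensorProduct.includeRight).comp σ) :
    Function.Bijective (comparison e σ) := by
  let C := descSubalgebra σ
  let j : B ⊗[A] C →ₐ[A] B ⊗[A] D := Algebra.TensorProduct.map (AlgHom.id A B) C.val
  let μ : B ⊗[A] D →ₐ[A] D :=
    Algebra.TensorProduct.lift e (AlgHom.id A D) fun _ _ ↦ Commute.all _ _
  have hμj : μ.comp j = comparison e σ := by
    apply Algebra.TensorProduct.ext'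
    intro b c
    simp [μ, j, comparison, C]
  have hσκ : σ.comp (comparison e σ) = j := by
    apply Algebra.TensorProduct.ext'
    intro b c
    have hb : σ (e b) = b ⊗ₜ 1 := AlgHom.congr_fun hlin b
    have hc : σ c.1 = (1 : B) ⊗ₜ c.1 := c.2
    simp only [AlgHom.comp_apply, comparison, Algebra.TensorProduct.lift_tmul, map_mul, j,
      Algebra.TensorProduct.map_tmul, AlgHom.id_apply, Subalgebra.coe_val]
    rw [hb, hc, Algebra.TensorProduct.tmul_mul_tmul, mul_one, one_mul]
  let ν : D →ₗ[A] B ⊗[A] D := σ.toLinearMap - Algebra.TensorProduct.includeRight.toLinearMap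
  have hker : ∀ d, d ∈ C ↔ ν d = 0 := fun d ↦ by
    rw [mem_descSubalgebra]; exact sub_eq_zero.symm
  let ι : C →ₗ[A] D := C.val.toLinearMap
  have hex : Function.Exact ι ν := by
    intro d
    refine ⟨fun hd ↦ ⟨⟨d, (hker d).mpr hd⟩, rfl⟩, ?_⟩
    rintro ⟨c, rfl⟩
    exact (hker _).mp c.2
  have hj : (j : B ⊗[A] C → B ⊗[A] D) = ι.lTensor B := by
    have : j.toLinearMap = ι.lTensor B := TensorProduct.ext' fun b c ↦ rfl
    exact congrArg DFunLike.coe this
  have hinj : Function.Injective j := by
    rw [hj]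
    exact Module.Flat.lTensor_preserves_injective_linearMap ι Subtype.val_injective
  refine ⟨fun x y h ↦ hinj ?_, fun d ↦ ?_⟩
  · rw [← hσκ, AlgHom.comp_apply, AlgHom.comp_apply, h]
  · have h0 : ν.lTensor B (σ d) = 0 := by
      have h1 : ν.lTensor B = (Algebra.TensorProduct.map (AlgHom.id A B) σ).toLinearMap -
          (Algebra.TensorProduct.map (AlgHom.id A B) Algebra.TensorProduct.includeRight).toLinearMap :=
        TensorProduct.ext' fun b x ↦ by simp [ν, tmul_sub]
      rw [h1, LinearMap.sub_apply, sub_eq_zero]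
      exact AlgHom.congr_fun hassoc d
    obtain ⟨z, hz⟩ := ((Module.Flat.lTensor_exact B hex) _).mp h0
    refine ⟨z, ?_⟩
    rw [← hμj, AlgHom.comp_apply, show j z = σ d from (congrFun hj z).trans hz]
    exact AlgHom.congr_fun hid d

end Groth.Agent.SchDescent
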