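import Groth.Agent.SchDescent.IsDesc
import Groth.Agent.SchDescent.Core

/-! # effective descent of a stable open which is affine over an affine base -/

universe u

open CategoryTheory CategoryTheory.Limits AlgebraicGeometry TensorProduct

namespace Groth.Agent.SchDescent

lemma isPullback_of_mono {W Y Y' Z Z' : Scheme.{u}} {fst : W ⟶ Y} {snd : W ⟶ Y'} {l : Y ⟶ Z'}
    {r : Y' ⟶ Z'} (j : Z' ⟶ Z) [Mono j] (H : IsPullback fst snd (l ≫ j) (r ≫ j)) :
    IsPullback fst snd l r := by
  refine IsPullback.of_isLimit (PullbackCone.IsLimit.mk ?_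
    (fun c ↦ H.lift c.fst c.snd (by rw [reassoc_of% c.condition])) (fun c ↦ H.lift_fst _ _ _)
    (fun c ↦ H.lift_snd _ _ _) fun c m h₁ h₂ ↦ H.hom_ext (h₁.trans (H.lift_fst _ _ _).symm)
      (h₂.trans (H.lift_snd _ _ _).symm))
  exact (cancel_mono j).mp (by simpa only [Category.assoc] using H.w)

variable {X S : Scheme.{u}} {p : X ⟶ S} {D : Desc.SchDD p}

set_option maxHeartbeats 1000000 in
/-- Descent of a stable open `V` over an affine `Spec A ⟶ S` from an affine cover `Spec B`. -/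
theorem exists_isDescent_of_affine {V : D.obj.left.Opens} (hV : IsStableOpen D V)
    {A B D₀ : Type u} [CommRing A] [CommRing B] [CommRing D₀] [Algebra A B] [Algebra A D₀]
    [Module.Flat A B] (δ : B →ₐ[A] D₀) (s : Spec (.of A) ⟶ S) [Mono s]
    (g' : Spec (.of B) ⟶ pullback s p)
    (hg : Presieve.singleton g' ∈ Scheme.fpqcPrecoverage (pullback s p))
    (hr : g' ≫ pullback.fst s p = Spec.map (CommRingCat.ofHom (algebraMap A B)))
    (l : V.toScheme ⟶ pullback s p) (hl : l ≫ pullback.snd s p = V.ι ≫ D.obj.hom)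
    (a : Spec (.of D₀) ⟶ V.toScheme)
    (ha : IsPullback a (Spec.map (CommRingCat.ofHom δ.toRingHom)) (V.ι ≫ D.obj.hom)
      (g' ≫ pullback.snd s p)) :
    ∃ (U : Over S) (π : V.toScheme ⟶ U.left), IsDescent D V U π := by
  let g := g' ≫ pullback.snd s p
  let Sδ := Spec.map (CommRingCat.ofHom δ.toRingHom)
  let SB := Spec.map (CommRingCat.ofHom (algebraMap A B))
  let SD := Spec.map (CommRingCat.ofHom (algebraMap A D₀))
  let p₁ := Spec.map (CommRingCat.ofHom
    (Algebra.TensorProduct.includeLeft : B →ₐ[A] B ⊗[A] D₀).toRingHom)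
  let p₂ := Spec.map (CommRingCat.ofHom
    (Algebra.TensorProduct.includeRight : D₀ →ₐ[A] B ⊗[A] D₀).toRingHom)
  have hg2 : g ≫ p = SB ≫ s := by
    simp only [g, Category.assoc, ← pullback.condition, reassoc_of% hr]
    rfl
  have hal : IsPullback a Sδ l g' := by
    have : IsPullback a Sδ (l ≫ pullback.snd s p) (g' ≫ pullback.snd s p) := by rw [hl]; exact ha
    exact isPullback_of_mono _ this
  have hacov : Presieve.singleton a ∈ Scheme.fpqcPrecoverage V.toScheme :=
    singleton_pullback_mem hg hal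
  have hSD : Sδ ≫ SB = SD := by
    simp only [Sδ, SB, SD, ← Spec.map_comp, ← CommRingCat.ofHom_comp]
    congr 2
    exact δ.comp_algebraMap
  have has : ((a ≫ V.ι) ≫ D.obj.hom) ≫ p = SD ≫ s := by
    rw [show (a ≫ V.ι) ≫ D.obj.hom = Sδ ≫ g from (Category.assoc _ _ _).trans ha.w,
      Category.assoc, hg2, ← hSD, Category.assoc]
  have H : IsPullback p₁ p₂ SB SD := by
    refine IsPullback.of_iso_pullback ⟨?_⟩ (pullbackSpecIso A B D₀).symm
      (pullbackSpecIso_inv_fst A B D₀) (pullbackSpecIso_inv_snd A B D₀)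
    simp only [p₁, p₂, SB, SD, ← Spec.map_comp, ← CommRingCat.ofHom_comp]
    congr 2
    exact (Algebra.TensorProduct.includeLeft : B →ₐ[A] B ⊗[A] D₀).comp_algebraMap.trans
      (Algebra.TensorProduct.includeRight : D₀ →ₐ[A] B ⊗[A] D₀).comp_algebraMap.symm
  -- the action
  let t₀ := p₂ ≫ a ≫ V.ι
  have hS0 : (t₀ ≫ D.obj.hom) ≫ p = (p₁ ≫ g) ≫ p := by
    have : t₀ ≫ D.obj.hom = p₂ ≫ (a ≫ V.ι) ≫ D.obj.hom := by simp only [t₀, Category.assoc]
    rw [this, Category.assoc, has, ← Category.assoc, ← H.w, Category.assoc, Category.assoc, hg2]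
  let w := D.φ _ _ hS0 ⟨t₀, rfl⟩
  have hwr : Set.range w.1 ⊆ Set.range V.ι := by
    rw [Scheme.Opens.range_ι]
    refine hV _ _ hS0 _ ?_
    rintro _ ⟨z, rfl⟩
    exact (a (p₂ z)).2
  let wV := IsOpenImmersion.lift V.ι w.1 hwr
  have hwV : wV ≫ V.ι = w.1 := IsOpenImmersion.lift_fac _ _ _
  let σs := ha.lift wV (p₁) (by rw [← Category.assoc, hwV, w.2])
  have hσa : σs ≫ a ≫ V.ι = w.1 := by rw [← Category.assoc, ha.lift_fst, hwV]
  have hσδ : σs ≫ Sδ = p₁ := ha.lift_snd _ _ _
  -- on points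
  have act : ∀ {T : Scheme.{u}} (m : T ⟶ Spec (.of (B ⊗[A] D₀))) (x₀ x₁ : T ⟶ X)
      (h : x₀ ≫ p = x₁ ≫ p) (v : T ⟶ D.obj.left) (hv : v ≫ D.obj.hom = x₀),
      (m ≫ p₂) ≫ a ≫ V.ι = v → (m ≫ p₁) ≫ g = x₁ →
      (m ≫ σs) ≫ a ≫ V.ι = (D.φ x₀ x₁ h ⟨v, hv⟩).1 := by
    intro T m x₀ x₁ h v hv e₂ e₁
    rw [Category.assoc, hσa, comp_phi]
    exact phi_congr (by rw [← hv, ← e₂]; simp only [t₀, Category.assoc])
      (by rw [← e₁, Category.assoc]) _ _ _ _ (by rw [← e₂]; simp only [t₀, Category.assoc])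
  have ext : ∀ {T : Scheme.{u}} (z z' : T ⟶ Spec (.of D₀)), z ≫ Sδ = z' ≫ Sδ →
      z ≫ a ≫ V.ι = z' ≫ a ≫ V.ι → z = z' := fun z z' h₁ h₂ ↦
    ha.hom_ext ((cancel_mono V.ι).mp (by simpa only [Category.assoc] using h₂)) h₁
  -- the ring map
  let σr : D₀ →+* B ⊗[A] D₀ := (Spec.preimage σs).hom
  have hσr : Spec.map (CommRingCat.ofHom σr) = σs := Spec.map_preimage σs
  have hlin' : σr.comp δ.toRingHom =
      (Algebra.TensorProduct.includeLeft : B →ₐ[A] B ⊗[A] D₀).toRingHom := by
    refine congrArg CommRingCat.Hom.hom (Spec.map_injective (?_ :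
      Spec.map (CommRingCat.ofHom (σr.comp δ.toRingHom)) = p₁))
    rw [CommRingCat.ofHom_comp, Spec.map_comp, hσr]
    exact hσδ
  let σ : D₀ →ₐ[A] B ⊗[A] D₀ :=
    { σr with
      commutes' := fun x ↦ by
        have := RingHom.congr_fun hlin' (algebraMap A B x)
        simp only [RingHom.comp_apply, AlgHom.toRingHom_eq_coe, RingHom.coe_coe, δ.commutes,
          AlgHom.commutes] at this
        exact this }
  have hσS : Spec.map (CommRingCat.ofHom σ.toRingHom) = σs := hσr
  have hpt : ∀ {T : Type u} [CommRing T] [Algebra A T] (m : B ⊗[A] D₀ →ₐ[A] T),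
      Spec.map (CommRingCat.ofHom m.toRingHom) ≫ p₁ =
        Spec.map (CommRingCat.ofHom (m.comp Algebra.TensorProduct.includeLeft).toRingHom) ∧
      Spec.map (CommRingCat.ofHom m.toRingHom) ≫ p₂ =
        Spec.map (CommRingCat.ofHom (m.comp Algebra.TensorProduct.includeRight).toRingHom) :=
    fun m ↦ ⟨(Spec.map_comp _ _).symm, (Spec.map_comp _ _).symm⟩
  have hid : (Algebra.TensorProduct.lift δ (AlgHom.id A D₀) fun _ _ ↦ Commute.all _ _).comp σ =
      AlgHom.id A D₀ := by
    let m₀ : B ⊗[A] D₀ →ₐ[A] D₀ :=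
      Algebra.TensorProduct.lift δ (AlgHom.id A D₀) fun _ _ ↦ Commute.all _ _
    refine AlgHom.coe_ringHom_injective (congrArg CommRingCat.Hom.hom (Spec.map_injective (?_ :
      Spec.map (CommRingCat.ofHom (m₀.comp σ).toRingHom) = Spec.map (𝟙 (CommRingCat.of D₀)))))
    rw [Spec.map_id, show CommRingCat.ofHom (m₀.comp σ).toRingHom =
      CommRingCat.ofHom σ.toRingHom ≫ CommRingCat.ofHom m₀.toRingHom from rfl, Spec.map_comp, hσS]
    have e₁ : Spec.map (CommRingCat.ofHom m₀.toRingHom) ≫ p₁ = Sδ := by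
      rw [(hpt m₀).1, Algebra.TensorProduct.lift_comp_includeLeft]
    have e₂ : Spec.map (CommRingCat.ofHom m₀.toRingHom) ≫ p₂ = 𝟙 _ := by
      rw [(hpt m₀).2, show m₀.comp Algebra.TensorProduct.includeRight = AlgHom.id A D₀ from
        Algebra.TensorProduct.lift_comp_includeRight _ _ (fun _ _ ↦ Commute.all _ _)]
      exact Spec.map_id _
    apply ext
    · rw [Category.assoc, hσδ, Category.id_comp]; exact e₁
    · have hxx : (a ≫ V.ι) ≫ D.obj.hom = Sδ ≫ g := (Category.assoc _ _ _).trans ha.w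
      rw [act _ _ _ (by rw [hxx]) (a ≫ V.ι) rfl (by rw [e₂, Category.id_comp]) (by rw [e₁]),
        Category.id_comp]
      exact phi_self hxx _ _ _
  have hassoc : (Algebra.TensorProduct.map (AlgHom.id A B) σ).comp σ =
      (Algebra.TensorProduct.map (AlgHom.id A B) Algebra.TensorProduct.includeRight).comp σ := by
    let M : B ⊗[A] D₀ →ₐ[A] B ⊗[A] (B ⊗[A] D₀) := Algebra.TensorProduct.map (AlgHom.id A B) σ
    let N : B ⊗[A] D₀ →ₐ[A] B ⊗[A] (B ⊗[A] D₀) :=
      Algebra.TensorProduct.map (AlgHom.id A B) Algebra.TensorProduct.includeRight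
    refine AlgHom.coe_ringHom_injective (congrArg CommRingCat.Hom.hom (Spec.map_injective (?_ :
      Spec.map (CommRingCat.ofHom (M.comp σ).toRingHom) =
        Spec.map (CommRingCat.ofHom (N.comp σ).toRingHom))))
    rw [show CommRingCat.ofHom (M.comp σ).toRingHom =
        CommRingCat.ofHom σ.toRingHom ≫ CommRingCat.ofHom M.toRingHom from rfl,
      show CommRingCat.ofHom (N.comp σ).toRingHom =
        CommRingCat.ofHom σ.toRingHom ≫ CommRingCat.ofHom N.toRingHom from rfl,
      Spec.map_comp, Spec.map_comp, hσS]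
    let r := Spec.map (CommRingCat.ofHom (Algebra.TensorProduct.includeRight :
      B ⊗[A] D₀ →ₐ[A] B ⊗[A] (B ⊗[A] D₀)).toRingHom)
    let w' := Spec.map (CommRingCat.ofHom (Algebra.TensorProduct.includeLeft :
      B →ₐ[A] B ⊗[A] (B ⊗[A] D₀)).toRingHom)
    have hM₁ : Spec.map (CommRingCat.ofHom M.toRingHom) ≫ p₁ = w' := by
      rw [(hpt M).1, show M.comp Algebra.TensorProduct.includeLeft = Algebra.TensorProduct.includeLeft from
        AlgHom.ext fun b ↦ by simp [M]]
    have hN₁ : Spec.map (CommRingCat.ofHom N.toRingHom) ≫ p₁ = w' := by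
      rw [(hpt N).1, show N.comp Algebra.TensorProduct.includeLeft = Algebra.TensorProduct.includeLeft from
        AlgHom.ext fun b ↦ by simp [N, Algebra.TensorProduct.one_def]]
    have hM₂ : Spec.map (CommRingCat.ofHom M.toRingHom) ≫ p₂ = r ≫ σs := by
      rw [(hpt M).2, ← hσS, show M.comp Algebra.TensorProduct.includeRight =
        (Algebra.TensorProduct.includeRight : B ⊗[A] D₀ →ₐ[A] B ⊗[A] (B ⊗[A] D₀)).comp σ from
        AlgHom.ext fun d ↦ by simp [M]]
      exact Spec.map_comp _ _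
    have hN₂ : Spec.map (CommRingCat.ofHom N.toRingHom) ≫ p₂ = r ≫ p₂ := by
      rw [(hpt N).2, show N.comp Algebra.TensorProduct.includeRight =
        (Algebra.TensorProduct.includeRight : B ⊗[A] D₀ →ₐ[A] B ⊗[A] (B ⊗[A] D₀)).comp
          Algebra.TensorProduct.includeRight from AlgHom.ext fun d ↦ by simp [N]]
      simp only [r, p₂, ← Spec.map_comp]
      rfl
    apply ext
    · simp only [Category.assoc, hσδ, hM₁, hN₁]
    · have h01 : (((r ≫ p₂) ≫ a ≫ V.ι) ≫ D.obj.hom) ≫ p = ((r ≫ p₁) ≫ g) ≫ p := by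
        have := congrArg (r ≫ ·) hS0
        simpa only [t₀, Category.assoc] using this
      have h12 : ((r ≫ p₁) ≫ g) ≫ p = (w' ≫ g) ≫ p := by
        rw [Category.assoc _ g, Category.assoc _ g, hg2, ← Category.assoc, ← Category.assoc]
        congr 1
        simp only [r, p₁, w', SB, ← Spec.map_comp, ← CommRingCat.ofHom_comp]
        congr 2
        refine RingHom.ext fun x ↦ ?_
        simp [Algebra.TensorProduct.one_def, Algebra.algebraMap_eq_smul_one, smul_tmul]
      have e1 := act r _ _ h01 _ rfl rfl rfl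
      rw [act (Spec.map (CommRingCat.ofHom M.toRingHom)) _ _ h12 (D.φ _ _ h01 ⟨_, rfl⟩).1
          (D.φ _ _ h01 ⟨_, rfl⟩).2 (by rw [hM₂]; exact e1) (by rw [hM₁]),
        act (Spec.map (CommRingCat.ofHom N.toRingHom)) _ _ (h01.trans h12) _ rfl
          (by rw [hN₂]) (by rw [hN₁])]
      exact congrArg Subtype.val (D.φ_comp _ _ _ h01 h12 ⟨_, rfl⟩)
  have hlin : σ.comp δ = Algebra.TensorProduct.includeLeft := AlgHom.coe_ringHom_injective hlin'
  have hbij := bijective_comparison δ σ hid hlin hassoc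
  -- the descended affine scheme
  let C := descSubalgebra σ
  let SC := Spec.map (CommRingCat.ofHom (algebraMap A C))
  let U : Over S := Over.mk (SC ≫ s)
  let π := Spec.map (CommRingCat.ofHom C.val.toRingHom)
  have hσπ : σs ≫ π = p₂ ≫ π := by
    rw [← hσS]
    simp only [π, p₂, ← Spec.map_comp, ← CommRingCat.ofHom_comp]
    exact congrArg _ (congrArg _ (RingHom.ext fun c : C ↦ c.2))
  have hsq : IsPullback Sδ π SB SC := by
    let κ := AlgEquiv.ofBijective (comparison δ σ) hbij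
    have h₁ : (comparison δ σ).comp Algebra.TensorProduct.includeLeft = δ :=
      Algebra.TensorProduct.lift_comp_includeLeft _ _ (fun _ _ ↦ Commute.all _ _)
    have h₂ : (comparison δ σ).comp Algebra.TensorProduct.includeRight = C.val :=
      Algebra.TensorProduct.lift_comp_includeRight _ _ (fun _ _ ↦ Commute.all _ _)
    refine IsPullback.of_iso_pullback ⟨?_⟩
      (Scheme.Spec.mapIso κ.toRingEquiv.toCommRingCatIso.op ≪≫ (pullbackSpecIso A B C).symm) ?_ ?_
    · simp only [Sδ, π, SB, SC, ← Spec.map_comp, ← CommRingCat.ofHom_comp]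
      congr 2
      exact δ.comp_algebraMap.trans C.val.comp_algebraMap.symm
    · rw [Iso.trans_hom, Category.assoc, Iso.symm_hom, pullbackSpecIso_inv_fst]
      refine (Spec.map_comp _ _).symm.trans (congrArg (fun f : B →ₐ[A] D₀ ↦
        Spec.map (CommRingCat.ofHom f.toRingHom)) h₁)
    · rw [Iso.trans_hom, Category.assoc, Iso.symm_hom, pullbackSpecIso_inv_snd]
      refine (Spec.map_comp _ _).symm.trans (congrArg (fun f : C →ₐ[A] D₀ ↦
        Spec.map (CommRingCat.ofHom f.toRingHom)) h₂)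
  have hπs : π ≫ SC = SD := by
    simp only [π, SC, SD, ← Spec.map_comp, ← CommRingCat.ofHom_comp]
    congr 2
  have move : ∀ {T : Scheme.{u}} (z₁ z₂ : T ⟶ Spec (.of D₀)) (h : z₁ ≫ SD = z₂ ≫ SD),
      (H.lift (z₂ ≫ Sδ) z₁ (by rw [Category.assoc, hSD, h]) ≫ σs) ≫ π = z₁ ≫ π ∧
      (H.lift (z₂ ≫ Sδ) z₁ (by rw [Category.assoc, hSD, h]) ≫ σs) ≫ Sδ = z₂ ≫ Sδ := by
    intro T z₁ z₂ h
    constructor
    · rw [Category.assoc, hσπ, H.lift_snd_assoc]
    · rw [Category.assoc, hσδ, H.lift_fst]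
  -- descend along `a`
  have hπc : pullback.fst a a ≫ π = pullback.snd a a ≫ π := by
    let z₁ := pullback.fst a a
    let z₂ := pullback.snd a a
    have hz : z₁ ≫ a = z₂ ≫ a := pullback.condition
    have hSDz : z₁ ≫ SD = z₂ ≫ SD := (cancel_mono s).mp (by
      rw [Category.assoc, Category.assoc, ← has]
      simp only [Category.assoc, reassoc_of% hz])
    have hxx : (z₁ ≫ a ≫ V.ι) ≫ D.obj.hom = (z₂ ≫ Sδ) ≫ g := by
      rw [Category.assoc z₂, show Sδ ≫ g = _ from ha.w.symm]
      simp only [Category.assoc, reassoc_of% hz]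
    have : H.lift (z₂ ≫ Sδ) z₁ (by rw [Category.assoc, hSD, hSDz]) ≫ σs = z₂ := by
      apply ext
      · exact (move z₁ z₂ hSDz).2
      · rw [act _ _ _ (by rw [hxx]) (z₁ ≫ a ≫ V.ι) rfl (by rw [H.lift_snd]) (by rw [H.lift_fst]),
          phi_self hxx, reassoc_of% hz]
    exact ((move z₁ z₂ hSDz).1.symm.trans (congrArg (· ≫ π) this))
  obtain ⟨πV, hπV : a ≫ πV = π, -⟩ := existsUnique_glue_singleton hacov π hπc
  have hepi : Epi a := epi_of_mem hacov
  have hw' : πV ≫ U.hom = (V.ι ≫ D.obj.hom) ≫ p := by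
    rw [← cancel_epi a, reassoc_of% hπV]
    change π ≫ SC ≫ s = _
    rw [reassoc_of% hπs, ← has]
    simp only [Category.assoc]
  refine ⟨U, πV, ?_, ?_⟩
  · let c : V.toScheme ⟶ pullback U.hom p := pullback.lift πV (V.ι ≫ D.obj.hom) hw'
    let q : pullback U.hom p ⟶ pullback s p := pullback.lift (pullback.fst U.hom p ≫ SC)
      (pullback.snd U.hom p) ((Category.assoc _ _ _).trans pullback.condition)
    let mP := a ≫ c
    have hm₁ : mP ≫ pullback.fst U.hom p = π := by
      rw [Category.assoc, pullback.lift_fst, hπV]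
    have hm₂ : mP ≫ pullback.snd U.hom p = (a ≫ V.ι) ≫ D.obj.hom := by
      rw [Category.assoc, pullback.lift_snd, Category.assoc]
    have hmw : mP ≫ q = Sδ ≫ g' := by
      apply pullback.hom_ext
      · rw [Category.assoc, pullback.lift_fst, ← Category.assoc, hm₁, hπs, Category.assoc, hr]
        exact hSD.symm
      · rw [Category.assoc, pullback.lift_snd, hm₂, Category.assoc, Category.assoc]
        exact ha.w
    have hmP : IsPullback mP Sδ q g' := by
      have hcond : ∀ c : PullbackCone q g', c.snd ≫ SB = (c.fst ≫ pullback.fst U.hom p) ≫ SC :=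
        fun c ↦ by
          have := congrArg (· ≫ pullback.fst s p) c.condition
          simpa only [q, Category.assoc, pullback.lift_fst, hr] using this.symm
      refine IsPullback.of_isLimit (PullbackCone.IsLimit.mk hmw
        (fun c ↦ hsq.lift c.snd (c.fst ≫ pullback.fst U.hom p) (hcond c)) (fun c ↦ ?_)
        (fun c ↦ hsq.lift_fst _ _ _) fun c m h₁ h₂ ↦ ?_)
      · apply pullback.hom_ext
        · rw [Category.assoc, hm₁, hsq.lift_snd]
        · rw [Category.assoc, hm₂,
            show (a ≫ V.ι) ≫ D.obj.hom = Sδ ≫ g' ≫ pullback.snd s p from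
              (Category.assoc _ _ _).trans ha.w,
            ← Category.assoc, hsq.lift_fst]
          have := congrArg (· ≫ pullback.snd s p) c.condition
          simpa only [q, Category.assoc, pullback.lift_snd] using this.symm
      · apply hsq.hom_ext
        · rw [hsq.lift_fst, h₂]
        · rw [hsq.lift_snd, ← h₁, Category.assoc, hm₁]
    have hmcov := singleton_pullback_mem hg hmP
    have hcompat : pullback.fst mP mP ≫ a = pullback.snd mP mP ≫ a := by
      let z₁ := pullback.fst mP mP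
      let z₂ := pullback.snd mP mP
      have hz : z₁ ≫ mP = z₂ ≫ mP := pullback.condition
      have hzπ : z₁ ≫ π = z₂ ≫ π := by rw [← hm₁, reassoc_of% hz]
      have hzX : (z₁ ≫ a ≫ V.ι) ≫ D.obj.hom = (z₂ ≫ a ≫ V.ι) ≫ D.obj.hom := by
        have := congrArg (· ≫ pullback.snd U.hom p) hz
        simpa only [Category.assoc, hm₂] using this
      have hSDz : z₁ ≫ SD = z₂ ≫ SD := by rw [← hπs, reassoc_of% hzπ]
      have hxx : (z₁ ≫ a ≫ V.ι) ≫ D.obj.hom = (z₂ ≫ Sδ) ≫ g := by
        rw [hzX, Category.assoc z₂ Sδ, show Sδ ≫ g = _ from ha.w.symm]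
        simp only [Category.assoc]
      have hlift : H.lift (z₂ ≫ Sδ) z₁ (by rw [Category.assoc, hSD, hSDz]) ≫ σs = z₂ :=
        hsq.hom_ext (move z₁ z₂ hSDz).2 ((move z₁ z₂ hSDz).1.trans hzπ)
      refine (cancel_mono V.ι).mp ?_
      have := act (H.lift (z₂ ≫ Sδ) z₁ (by rw [Category.assoc, hSD, hSDz])) _ _ (by rw [hxx])
        (z₁ ≫ a ≫ V.ι) rfl (by rw [H.lift_snd]) (by rw [H.lift_fst])
      rw [hlift, phi_self hxx] at this
      simpa only [Category.assoc] using this.symm
    obtain ⟨i, hi : mP ≫ i = a, -⟩ := existsUnique_glue_singleton hmcov a hcompat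
    have hepim : Epi mP := epi_of_mem hmcov
    have : IsIso c := ⟨i, by rw [← cancel_epi a, ← Category.assoc, Category.comp_id]; exact hi,
      by rw [← cancel_epi mP, ← Category.assoc, hi, Category.comp_id]⟩
    exact IsPullback.of_iso_pullback ⟨hw'⟩ (asIso c) (pullback.lift_fst _ _ _) (pullback.lift_snd _ _ _)
  · intro T x₀ x₁ h v v' hv hv'
    have hcov₁ : Presieve.singleton (pullback.fst v a) ∈ Scheme.fpqcPrecoverage T :=
      singleton_pullback_mem hacov (IsPullback.of_hasPullback v a)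
    have hcov₂ : Presieve.singleton (pullback.fst (pullback.fst v a ≫ v') a) ∈
        Scheme.fpqcPrecoverage (pullback v a) :=
      singleton_pullback_mem hacov (IsPullback.of_hasPullback (pullback.fst v a ≫ v') a)
    have := epi_of_mem hcov₁
    have := epi_of_mem hcov₂
    rw [← cancel_epi (pullback.fst v a), ← cancel_epi (pullback.fst (pullback.fst v a ≫ v') a)]
    let k := pullback.fst (pullback.fst v a ≫ v') a ≫ pullback.fst v a
    let z₀ := pullback.fst (pullback.fst v a ≫ v') a ≫ pullback.snd v a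
    let z₁ := pullback.snd (pullback.fst v a ≫ v') a
    have h0 : z₀ ≫ a = k ≫ v := by simp only [z₀, k, Category.assoc, ← pullback.condition]
    have h1 : z₁ ≫ a = k ≫ v' := by
      simp only [z₁, k, ← pullback.condition, Category.assoc]
    have hx1 : (v' ≫ V.ι) ≫ D.obj.hom = x₁ := by rw [hv']; exact (D.φ x₀ x₁ h _).2
    have hxx0 : (z₀ ≫ a ≫ V.ι) ≫ D.obj.hom = k ≫ x₀ := by
      rw [← hv]; simp only [Category.assoc, reassoc_of% h0]
    have hxx1 : (z₁ ≫ a ≫ V.ι) ≫ D.obj.hom = k ≫ x₁ := by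
      rw [← hx1]; simp only [Category.assoc, reassoc_of% h1]
    have hSDz : z₀ ≫ SD = z₁ ≫ SD := (cancel_mono s).mp (by
      have e0 := congrArg (· ≫ p) hxx0
      have e1 := congrArg (· ≫ p) hxx1
      simp only [Category.assoc] at e0 e1 ⊢
      rw [← has]
      simp only [Category.assoc]
      rw [e0, e1, h])
    have hlift : H.lift (z₁ ≫ Sδ) z₀ (by rw [Category.assoc, hSD, hSDz]) ≫ σs = z₁ := by
      apply ext
      · exact (move z₀ z₁ hSDz).2
      · rw [act _ (k ≫ x₀) (k ≫ x₁) (by simp only [Category.assoc, h]) (k ≫ v ≫ V.ι)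
            (by rw [← hv]; simp only [Category.assoc])
            (by rw [H.lift_snd, reassoc_of% h0])
            (by rw [H.lift_fst, ← hxx1, Category.assoc z₁ Sδ, show Sδ ≫ g = _ from ha.w.symm]
                simp only [Category.assoc]),
          ← comp_phi k x₀ x₁ h (v ≫ V.ι) hv, ← hv', reassoc_of% h1]
    have hfin : z₁ ≫ π = z₀ ≫ π :=
      ((congrArg (· ≫ π) hlift).symm.trans (move z₀ z₁ hSDz).1)
    change pullback.fst (pullback.fst v a ≫ v') a ≫ pullback.fst v a ≫ v ≫ πV =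
      pullback.fst (pullback.fst v a ≫ v') a ≫ pullback.fst v a ≫ v' ≫ πV
    rw [← hπV, reassoc_of% h0, reassoc_of% h1] at hfin
    simpa only [k, Category.assoc] using hfin.symm

end Groth.Agent.SchDescent
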