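import Groth.Agent.SchDescent.Core
import Groth.Agent.SchDescent.Affine
import Mathlib.AlgebraicGeometry.Morphisms.Flat
import Mathlib.AlgebraicGeometry.QuasiAffine
import Mathlib.AlgebraicGeometry.Morphisms.UniversallyOpen
import Mathlib.AlgebraicGeometry.Morphisms.FlatDescent

/-! # quotient of an action on a quasi-affine chart -/

universe u

open CategoryTheory CategoryTheory.Limits AlgebraicGeometry TensorProduct

namespace Groth.Agent.SchDescent

/-- `j : P ⟶ Spec K` is the affinisation of `P` -/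
def Hull {P : Scheme.{u}} {K : CommRingCat.{u}} (j : P ⟶ Spec K) : Prop :=
  ∃ e : Spec Γ(P, ⊤) ≅ Spec K, P.toSpecΓ ≫ e.hom = j

lemma toSpecΓ_cancel {P : Scheme.{u}} {R : CommRingCat.{u}} {m m' : Spec Γ(P, ⊤) ⟶ Spec R}
    (h : P.toSpecΓ ≫ m = P.toSpecΓ ≫ m') : m = m' := by
  refine ext_of_isAffine ?_
  have := congrArg Scheme.Hom.appTop h
  simp only [Scheme.Hom.comp_appTop, Scheme.toSpecΓ_appTop] at this
  exact (cancel_mono _).mp this

lemma Hull.ext {P : Scheme.{u}} {K R : CommRingCat.{u}} {j : P ⟶ Spec K} (hj : Hull j)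
    {m m' : Spec K ⟶ Spec R} (h : j ≫ m = j ≫ m') : m = m' := by
  obtain ⟨e, rfl⟩ := hj
  exact (cancel_epi e.hom).mp (toSpecΓ_cancel (by simpa only [Category.assoc] using h))

lemma Hull.exists_fac {P : Scheme.{u}} {K R : CommRingCat.{u}} {j : P ⟶ Spec K} (hj : Hull j)
    (f : P ⟶ Spec R) : ∃ m : Spec K ⟶ Spec R, j ≫ m = f := by
  obtain ⟨e, rfl⟩ := hj
  refine ⟨e.inv ≫ Spec.map f.appTop ≫ (Spec R).isoSpec.inv, ?_⟩
  rw [Category.assoc, Iso.hom_inv_id_assoc, ← Scheme.toSpecΓ_naturality_assoc]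
  simp [Scheme.isoSpec]

set_option backward.isDefEq.respectTransparency false in
/-- affinisation commutes with flat base change -/
theorem Hull.baseChange {A B K : Type u} [CommRing A] [CommRing B] [CommRing K] [Algebra A B]
    [Algebra A K] [Module.Flat A B] {P : Scheme.{u}} [CompactSpace P] [QuasiSeparatedSpace P]
    (j : P ⟶ Spec (.of K)) (hj : Hull j) (sP : P ⟶ Spec (.of A))
    (hjs : j ≫ Spec.map (CommRingCat.ofHom (algebraMap A K)) = sP)
    (j' : pullback (Spec.map (CommRingCat.ofHom (algebraMap A B))) sP ⟶ Spec (.of (B ⊗[A] K)))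
    (h₁ : j' ≫ Spec.map (CommRingCat.ofHom
      (Algebra.TensorProduct.includeLeft : B →ₐ[A] B ⊗[A] K).toRingHom) = pullback.fst _ _)
    (h₂ : j' ≫ Spec.map (CommRingCat.ofHom
      (Algebra.TensorProduct.includeRight : K →ₐ[A] B ⊗[A] K).toRingHom) = pullback.snd _ _ ≫ j) :
    Hull j' := by
  let SB := Spec.map (CommRingCat.ofHom (algebraMap A B))
  let SK := Spec.map (CommRingCat.ofHom (algebraMap A K))
  let p₁ := Spec.map (CommRingCat.ofHom
    (Algebra.TensorProduct.includeLeft : B →ₐ[A] B ⊗[A] K).toRingHom)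
  let p₂ := Spec.map (CommRingCat.ofHom
    (Algebra.TensorProduct.includeRight : K →ₐ[A] B ⊗[A] K).toRingHom)
  have H : IsPullback p₁ p₂ SB SK := by
    refine IsPullback.of_iso_pullback ⟨?_⟩ (pullbackSpecIso A B K).symm
      (pullbackSpecIso_inv_fst A B K) (pullbackSpecIso_inv_snd A B K)
    simp only [p₁, p₂, SB, SK, ← Spec.map_comp, ← CommRingCat.ofHom_comp]
    congr 2
    exact (Algebra.TensorProduct.includeLeft : B →ₐ[A] B ⊗[A] K).comp_algebraMap.trans
      (Algebra.TensorProduct.includeRight : K →ₐ[A] B ⊗[A] K).comp_algebraMap.symm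
  obtain ⟨e, he⟩ := hj
  have : Flat SB := (HasRingHomProperty.Spec_iff (P := @Flat)).mpr
    (RingHom.flat_algebraMap_iff.mpr ‹_›)
  let fs := pullback.snd SB sP
  let ff := pullback.fst SB sP
  have Hc : IsPullback fs ff sP SB := (IsPullback.of_hasPullback SB sP).flip
  have hpo : IsPushout sP.appTop SB.appTop fs.appTop ff.appTop := by
    have h := (isIso_pushoutSection_iff Hc (US := ⊤) (UT := ⊤) (UX := ⊤) (UY := ⊤) (by simp) (by simp)
      (by simp)).mp (isIso_pushoutSection_of_isQuasiSeparated_of_flat_right Hc (by simp) (by simp)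
        (by simp) (isAffineOpen_top _) (isAffineOpen_top _) isCompact_univ isQuasiSeparated_univ)
    have hle : ∀ {X Y : Scheme.{u}} (f : X ⟶ Y) (e : (⊤ : X.Opens) ≤ f ⁻¹ᵁ ⊤),
        f.appLE ⊤ ⊤ e = f.appTop := fun f e ↦ by simp [Scheme.Hom.appLE]
    simpa only [hle] using h
  have hsp := isPullback_SpecMap_of_isPushout _ _ _ _ hpo
  let fA := (Spec (CommRingCat.of A)).isoSpec
  let fB := (Spec (CommRingCat.of B)).isoSpec
  have hA : Spec.map sP.appTop ≫ fA.inv = e.hom ≫ SK := by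
    apply toSpecΓ_cancel
    rw [← Scheme.toSpecΓ_naturality_assoc, reassoc_of% he, hjs]
    simp [fA, Scheme.isoSpec]
  have hB : Spec.map SB.appTop ≫ fA.inv = fB.inv ≫ SB := by
    rw [Iso.eq_inv_comp]
    simp [fA, fB, Scheme.isoSpec, ← Scheme.toSpecΓ_naturality_assoc]
  have hsp' : IsPullback (Spec.map ff.appTop ≫ fB.inv) (Spec.map fs.appTop ≫ e.hom) SB SK :=
    hsp.flip.of_iso (Iso.refl _) fB.symm e fA.symm (by simp) (by simp)
      (by simpa using hB) (by simpa using hA)
  refine ⟨hsp'.isoIsPullback _ _ H, H.hom_ext ?_ ?_⟩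
  · rw [Category.assoc, IsPullback.isoIsPullback_hom_fst, h₁, ← Scheme.toSpecΓ_naturality_assoc]
    simp [fB, Scheme.isoSpec, ff]
    rfl
  · rw [Category.assoc, IsPullback.isoIsPullback_hom_snd, h₂, ← Scheme.toSpecΓ_naturality_assoc, he]

set_option maxHeartbeats 1000000 in
/-- An action on a quasi-affine scheme over `Spec B` has a quotient over `Spec A`. -/
theorem exists_quotient_of_quasiAffine {A B : Type u} [CommRing A] [CommRing B] [Algebra A B]
    [Module.Flat A B] {E : Scheme.{u}} [Scheme.IsQuasiAffine E]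
    [Surjective (Spec.map (CommRingCat.ofHom (algebraMap A B)))]
    (q : E ⟶ Spec (.of B))
    (σs : pullback (Spec.map (CommRingCat.ofHom (algebraMap A B)))
      (q ≫ Spec.map (CommRingCat.ofHom (algebraMap A B))) ⟶ E)
    (hσq : σs ≫ q = pullback.fst _ _)
    (hid' : ∀ {T : Scheme.{u}} (z : T ⟶ E) (h : (z ≫ q) ≫ Spec.map (CommRingCat.ofHom (algebraMap A B)) =
        z ≫ q ≫ Spec.map (CommRingCat.ofHom (algebraMap A B))),
      pullback.lift (z ≫ q) z h ≫ σs = z)
    (hassoc' : ∀ {T : Scheme.{u}} (b b' : T ⟶ Spec (.of B)) (z : T ⟶ E)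
      (h₁ : b ≫ Spec.map (CommRingCat.ofHom (algebraMap A B)) =
        z ≫ q ≫ Spec.map (CommRingCat.ofHom (algebraMap A B)))
      (h₂ : b' ≫ Spec.map (CommRingCat.ofHom (algebraMap A B)) =
        (pullback.lift b z h₁ ≫ σs) ≫ q ≫ Spec.map (CommRingCat.ofHom (algebraMap A B)))
      (h₃ : b' ≫ Spec.map (CommRingCat.ofHom (algebraMap A B)) =
        z ≫ q ≫ Spec.map (CommRingCat.ofHom (algebraMap A B))),
      pullback.lift b' (pullback.lift b z h₁ ≫ σs) h₂ ≫ σs = pullback.lift b' z h₃ ≫ σs) :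
    ∃ (UA : Scheme.{u}) (SC : UA ⟶ Spec (.of A)) (π : E ⟶ UA),
      IsPullback q π (Spec.map (CommRingCat.ofHom (algebraMap A B))) SC ∧
        σs ≫ π = pullback.snd _ _ ≫ π := by
  let D₀ := Γ(E, ⊤)
  let jE : E ⟶ Spec (.of D₀) := E.toSpecΓ
  have hHE : Hull jE := ⟨Iso.refl _, Category.comp_id _⟩
  obtain ⟨dS, hdS⟩ := hHE.exists_fac q
  let d : CommRingCat.of B ⟶ CommRingCat.of D₀ := Spec.preimage dS
  algebraize [d.hom.comp (algebraMap A B)]
  let δ : B →ₐ[A] D₀ := { d.hom with commutes' := fun _ ↦ rfl }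
  let Sδ := Spec.map (CommRingCat.ofHom δ.toRingHom)
  have hq : jE ≫ Sδ = q := by
    rw [show Sδ = dS from Spec.map_preimage dS]
    exact hdS
  let SB := Spec.map (CommRingCat.ofHom (algebraMap A B))
  let SD := Spec.map (CommRingCat.ofHom (algebraMap A D₀))
  have hSD : Sδ ≫ SB = SD := by
    simp only [Sδ, SB, SD, ← Spec.map_comp, ← CommRingCat.ofHom_comp]
  have hsE : jE ≫ SD = q ≫ SB := by rw [← hSD, reassoc_of% hq]
  let p₁ := Spec.map (CommRingCat.ofHom
    (Algebra.TensorProduct.includeLeft : B →ₐ[A] B ⊗[A] D₀).toRingHom)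
  let p₂ := Spec.map (CommRingCat.ofHom
    (Algebra.TensorProduct.includeRight : D₀ →ₐ[A] B ⊗[A] D₀).toRingHom)
  have H : IsPullback p₁ p₂ SB SD := by
    refine IsPullback.of_iso_pullback ⟨?_⟩ (pullbackSpecIso A B D₀).symm
      (pullbackSpecIso_inv_fst A B D₀) (pullbackSpecIso_inv_snd A B D₀)
    simp only [p₁, p₂, SB, SD, ← Spec.map_comp, ← CommRingCat.ofHom_comp]
    congr 2
    exact (Algebra.TensorProduct.includeLeft : B →ₐ[A] B ⊗[A] D₀).comp_algebraMap.trans
      (Algebra.TensorProduct.includeRight : D₀ →ₐ[A] B ⊗[A] D₀).comp_algebraMap.symm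
  let P := pullback SB (q ≫ SB)
  let fP : P ⟶ Spec (.of B) := pullback.fst SB (q ≫ SB)
  let sE : P ⟶ E := pullback.snd SB (q ≫ SB)
  let jP : P ⟶ Spec (.of (B ⊗[A] D₀)) :=
    H.lift fP (sE ≫ jE) (by rw [Category.assoc, hsE]; exact pullback.condition)
  have hjP₁ : jP ≫ p₁ = fP := H.lift_fst _ _ _
  have hjP₂ : jP ≫ p₂ = sE ≫ jE := H.lift_snd _ _ _
  have : QuasiSeparatedSpace E := inferInstance
  have hHP : Hull jP := hHE.baseChange jE (q ≫ SB) hsE jP hjP₁ hjP₂
  obtain ⟨σS, hσS'⟩ := hHP.exists_fac (σs ≫ jE)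
  have hσδ : σS ≫ Sδ = p₁ := hHP.ext (by rw [reassoc_of% hσS', hq, hσq, hjP₁])
  -- the ring map
  let σr : D₀ →+* B ⊗[A] D₀ := (Spec.preimage σS).hom
  have hσr : Spec.map (CommRingCat.ofHom σr) = σS := Spec.map_preimage σS
  have hlin' : σr.comp δ.toRingHom =
      (Algebra.TensorProduct.includeLeft : B →ₐ[A] B ⊗[A] D₀).toRingHom := by
    refine congrArg CommRingCat.Hom.hom (Spec.map_injective (?_ :
      Spec.map (CommRingCat.ofHom (σr.comp δ.toRingHom)) = p₁))
    rw [CommRingCat.ofHom_comp, Spec.map_comp, hσr]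
    exact hσδ
  let σ : D₀ →ₐ[A] B ⊗[A] D₀ :=
    { σr with
      commutes' := fun x ↦ by
        have := RingHom.congr_fun hlin' (algebraMap A B x)
        simp only [RingHom.comp_apply, AlgHom.toRingHom_eq_coe, RingHom.coe_coe, δ.commutes,
          AlgHom.commutes] at this
        exact this }
  have hσS : Spec.map (CommRingCat.ofHom σ.toRingHom) = σS := hσr
  have hpt : ∀ {T : Type u} [CommRing T] [Algebra A T] (m : B ⊗[A] D₀ →ₐ[A] T),
      Spec.map (CommRingCat.ofHom m.toRingHom) ≫ p₁ =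
        Spec.map (CommRingCat.ofHom (m.comp Algebra.TensorProduct.includeLeft).toRingHom) ∧
      Spec.map (CommRingCat.ofHom m.toRingHom) ≫ p₂ =
        Spec.map (CommRingCat.ofHom (m.comp Algebra.TensorProduct.includeRight).toRingHom) :=
    fun m ↦ ⟨(Spec.map_comp _ _).symm, (Spec.map_comp _ _).symm⟩
  have hid : (Algebra.TensorProduct.lift δ (AlgHom.id A D₀) fun _ _ ↦ Commute.all _ _).comp σ =
      AlgHom.id A D₀ := by
    let m₀ : B ⊗[A] D₀ →ₐ[A] D₀ :=
      Algebra.TensorProduct.lift δ (AlgHom.id A D₀) fun _ _ ↦ Commute.all _ _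
    refine AlgHom.coe_ringHom_injective (congrArg CommRingCat.Hom.hom (Spec.map_injective (?_ :
      Spec.map (CommRingCat.ofHom (m₀.comp σ).toRingHom) = Spec.map (𝟙 (CommRingCat.of D₀)))))
    rw [Spec.map_id, show CommRingCat.ofHom (m₀.comp σ).toRingHom =
      CommRingCat.ofHom σ.toRingHom ≫ CommRingCat.ofHom m₀.toRingHom from rfl, Spec.map_comp, hσS]
    have e₁ : Spec.map (CommRingCat.ofHom m₀.toRingHom) ≫ p₁ = Sδ := by
      rw [(hpt m₀).1, Algebra.TensorProduct.lift_comp_includeLeft]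
    have e₂ : Spec.map (CommRingCat.ofHom m₀.toRingHom) ≫ p₂ = 𝟙 _ := by
      rw [(hpt m₀).2, show m₀.comp Algebra.TensorProduct.includeRight = AlgHom.id A D₀ from
        Algebra.TensorProduct.lift_comp_includeRight _ _ (fun _ _ ↦ Commute.all _ _)]
      exact Spec.map_id _
    have hq2 : ((𝟙 E ≫ q) ≫ SB) = 𝟙 E ≫ q ≫ SB := Category.assoc _ _ _
    have hm : jE ≫ Spec.map (CommRingCat.ofHom m₀.toRingHom) =
        pullback.lift (𝟙 E ≫ q) (𝟙 E) hq2 ≫ jP := by
      apply H.hom_ext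
      · rw [Category.assoc, e₁, hq, Category.assoc, hjP₁, pullback.lift_fst, Category.id_comp]
      · rw [Category.assoc, e₂, Category.assoc, hjP₂, pullback.lift_snd_assoc]
        simp
    apply hHE.ext
    rw [reassoc_of% hm, hσS', reassoc_of% (hid' (𝟙 E) hq2), Category.comp_id]
  have hassoc : (Algebra.TensorProduct.map (AlgHom.id A B) σ).comp σ =
      (Algebra.TensorProduct.map (AlgHom.id A B) Algebra.TensorProduct.includeRight).comp σ := by
    let M : B ⊗[A] D₀ →ₐ[A] B ⊗[A] (B ⊗[A] D₀) := Algebra.TensorProduct.map (AlgHom.id A B) σ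
    let N : B ⊗[A] D₀ →ₐ[A] B ⊗[A] (B ⊗[A] D₀) :=
      Algebra.TensorProduct.map (AlgHom.id A B) Algebra.TensorProduct.includeRight
    refine AlgHom.coe_ringHom_injective (congrArg CommRingCat.Hom.hom (Spec.map_injective (?_ :
      Spec.map (CommRingCat.ofHom (M.comp σ).toRingHom) =
        Spec.map (CommRingCat.ofHom (N.comp σ).toRingHom))))
    rw [show CommRingCat.ofHom (M.comp σ).toRingHom =
        CommRingCat.ofHom σ.toRingHom ≫ CommRingCat.ofHom M.toRingHom from rfl,
      show CommRingCat.ofHom (N.comp σ).toRingHom =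
        CommRingCat.ofHom σ.toRingHom ≫ CommRingCat.ofHom N.toRingHom from rfl,
      Spec.map_comp, Spec.map_comp, hσS]
    let r := Spec.map (CommRingCat.ofHom (Algebra.TensorProduct.includeRight :
      B ⊗[A] D₀ →ₐ[A] B ⊗[A] (B ⊗[A] D₀)).toRingHom)
    let w' := Spec.map (CommRingCat.ofHom (Algebra.TensorProduct.includeLeft :
      B →ₐ[A] B ⊗[A] (B ⊗[A] D₀)).toRingHom)
    have hM₁ : Spec.map (CommRingCat.ofHom M.toRingHom) ≫ p₁ = w' := by
      rw [(hpt M).1, show M.comp Algebra.TensorProduct.includeLeft = Algebra.TensorProduct.includeLeft from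
        AlgHom.ext fun b ↦ by simp [M]]
    have hN₁ : Spec.map (CommRingCat.ofHom N.toRingHom) ≫ p₁ = w' := by
      rw [(hpt N).1, show N.comp Algebra.TensorProduct.includeLeft = Algebra.TensorProduct.includeLeft from
        AlgHom.ext fun b ↦ by simp [N, Algebra.TensorProduct.one_def]]
    have hM₂ : Spec.map (CommRingCat.ofHom M.toRingHom) ≫ p₂ = r ≫ σS := by
      rw [(hpt M).2, ← hσS, show M.comp Algebra.TensorProduct.includeRight =
        (Algebra.TensorProduct.includeRight : B ⊗[A] D₀ →ₐ[A] B ⊗[A] (B ⊗[A] D₀)).comp σ from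
        AlgHom.ext fun d ↦ by simp [M]]
      exact Spec.map_comp _ _
    have hN₂ : Spec.map (CommRingCat.ofHom N.toRingHom) ≫ p₂ = r ≫ p₂ := by
      rw [(hpt N).2, show N.comp Algebra.TensorProduct.includeRight =
        (Algebra.TensorProduct.includeRight : B ⊗[A] D₀ →ₐ[A] B ⊗[A] (B ⊗[A] D₀)).comp
          Algebra.TensorProduct.includeRight from AlgHom.ext fun d ↦ by simp [N]]
      simp only [r, p₂, ← Spec.map_comp]
      rfl
    let q₁ := Spec.map (CommRingCat.ofHom (Algebra.TensorProduct.includeLeft :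
      B →ₐ[A] B ⊗[A] (B ⊗[A] D₀)).toRingHom)
    have H₂ : IsPullback w' r SB (p₂ ≫ SD) := by
      refine IsPullback.of_iso_pullback ⟨?_⟩ ((pullbackSpecIso A B (B ⊗[A] D₀)).symm ≪≫
        pullback.congrHom rfl ?_) ?_ ?_
      · simp only [p₂, SD, w', r, SB, ← Spec.map_comp, ← CommRingCat.ofHom_comp]
        congr 2
        refine RingHom.ext fun x ↦ ?_
        simp [Algebra.TensorProduct.one_def, Algebra.algebraMap_eq_smul_one, smul_tmul]
      · simp only [p₂, SD, ← Spec.map_comp, ← CommRingCat.ofHom_comp]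
        congr 2
        exact (Algebra.TensorProduct.includeRight : D₀ →ₐ[A] B ⊗[A] D₀).comp_algebraMap.symm
      · rw [Iso.trans_hom, Iso.symm_hom, pullback.congrHom_hom, Category.assoc, pullback.lift_fst,
          Category.comp_id]
        exact pullbackSpecIso_inv_fst A B (B ⊗[A] D₀)
      · rw [Iso.trans_hom, Iso.symm_hom, pullback.congrHom_hom, Category.assoc, pullback.lift_snd,
          Category.comp_id]
        exact pullbackSpecIso_inv_snd A B (B ⊗[A] D₀)
    have hsP : jP ≫ Spec.map (CommRingCat.ofHom (algebraMap A (B ⊗[A] D₀))) = sE ≫ q ≫ SB := by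
      rw [← hsE, ← reassoc_of% hjP₂]
      simp only [p₂, SD, ← Spec.map_comp, ← CommRingCat.ofHom_comp]
      congr 3
      exact (Algebra.TensorProduct.includeRight : D₀ →ₐ[A] B ⊗[A] D₀).comp_algebraMap.symm
    let f₂ := pullback.fst SB (sE ≫ q ≫ SB)
    let s₂ := pullback.snd SB (sE ≫ q ≫ SB)
    let j₂ := H₂.lift f₂ (s₂ ≫ jP) (by
      rw [Category.assoc, reassoc_of% hjP₂, hsE]; exact pullback.condition)
    have hj₂₁ : j₂ ≫ w' = f₂ := H₂.lift_fst _ _ _
    have hj₂₂ : j₂ ≫ r = s₂ ≫ jP := H₂.lift_snd _ _ _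
    have : CompactSpace (P : Scheme.{u}) := QuasiCompact.compactSpace_of_compactSpace sE
    have : QuasiSeparatedSpace (P : Scheme.{u}) := quasiSeparatedSpace_of_quasiSeparated sE
    have hH₂ : Hull j₂ := hHP.baseChange jP (sE ≫ q ≫ SB) hsP j₂ hj₂₁ hj₂₂
    have hc₁ : (s₂ ≫ σs) ≫ q ≫ SB = s₂ ≫ sE ≫ q ≫ SB := by
      rw [Category.assoc, reassoc_of% hσq]
      exact congrArg (s₂ ≫ ·) pullback.condition
    let mM : pullback SB (sE ≫ q ≫ SB) ⟶ P :=
      pullback.lift f₂ (s₂ ≫ σs) (pullback.condition.trans hc₁.symm)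
    let mN : pullback SB (sE ≫ q ≫ SB) ⟶ P :=
      pullback.lift f₂ (s₂ ≫ sE) (pullback.condition.trans (Category.assoc _ _ _).symm)
    have hjM : j₂ ≫ Spec.map (CommRingCat.ofHom M.toRingHom) = mM ≫ jP := by
      apply H.hom_ext
      · rw [Category.assoc, hM₁, hj₂₁, Category.assoc, hjP₁]
        exact (pullback.lift_fst _ _ _).symm
      · rw [Category.assoc, hM₂, reassoc_of% hj₂₂, hσS', Category.assoc, hjP₂]
        exact (Category.assoc _ _ _).symm.trans (pullback.lift_snd_assoc _ _ _ _).symm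
    have hjN : j₂ ≫ Spec.map (CommRingCat.ofHom N.toRingHom) = mN ≫ jP := by
      apply H.hom_ext
      · rw [Category.assoc, hN₁, hj₂₁, Category.assoc, hjP₁]
        exact (pullback.lift_fst _ _ _).symm
      · rw [Category.assoc, hN₂, reassoc_of% hj₂₂, hjP₂, Category.assoc, hjP₂]
        exact (Category.assoc _ _ _).symm.trans (pullback.lift_snd_assoc _ _ _ _).symm
    have hMN : mM ≫ σs = mN ≫ σs := by
      have hl : pullback.lift (s₂ ≫ fP) (s₂ ≫ sE)
          (by simp only [Category.assoc]; exact congrArg (s₂ ≫ ·) pullback.condition) = s₂ :=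
        pullback.hom_ext (pullback.lift_fst _ _ _) (pullback.lift_snd _ _ _)
      have h1 : (s₂ ≫ fP) ≫ SB = (s₂ ≫ sE) ≫ q ≫ SB := by
        simp only [Category.assoc]; exact congrArg (s₂ ≫ ·) pullback.condition
      have := hassoc' (s₂ ≫ fP) f₂ (s₂ ≫ sE) h1
        (by rw [hl, hc₁]; exact pullback.condition)
        (pullback.condition.trans (Category.assoc _ _ _).symm)
      refine Eq.trans ?_ this
      congr 1
      exact pullback.hom_ext ((pullback.lift_fst _ _ _).trans (pullback.lift_fst _ _ _).symm)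
        ((pullback.lift_snd _ _ _).trans ((congrArg (· ≫ σs) hl).symm.trans
          (pullback.lift_snd _ _ _).symm))
    apply hH₂.ext
    rw [reassoc_of% hjM, reassoc_of% hjN, hσS', reassoc_of% hMN]
  have hlin : σ.comp δ = Algebra.TensorProduct.includeLeft := AlgHom.coe_ringHom_injective hlin'
  have hbij := bijective_comparison δ σ hid hlin hassoc
  let C := descSubalgebra σ
  let SC := Spec.map (CommRingCat.ofHom (algebraMap A C))
  let π := Spec.map (CommRingCat.ofHom C.val.toRingHom)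
  have hσπ : σS ≫ π = p₂ ≫ π := by
    rw [← hσS]
    simp only [π, p₂, ← Spec.map_comp, ← CommRingCat.ofHom_comp]
    exact congrArg _ (congrArg _ (RingHom.ext fun c : C ↦ c.2))
  have hsq : IsPullback Sδ π SB SC := by
    let κ := AlgEquiv.ofBijective (comparison δ σ) hbij
    have h₁ : (comparison δ σ).comp Algebra.TensorProduct.includeLeft = δ :=
      Algebra.TensorProduct.lift_comp_includeLeft _ _ (fun _ _ ↦ Commute.all _ _)
    have h₂ : (comparison δ σ).comp Algebra.TensorProduct.includeRight = C.val :=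
      Algebra.TensorProduct.lift_comp_includeRight _ _ (fun _ _ ↦ Commute.all _ _)
    refine IsPullback.of_iso_pullback ⟨?_⟩
      (Scheme.Spec.mapIso κ.toRingEquiv.toCommRingCatIso.op ≪≫ (pullbackSpecIso A B C).symm) ?_ ?_
    · simp only [Sδ, π, SB, SC, ← Spec.map_comp, ← CommRingCat.ofHom_comp]
      congr 2
    · rw [Iso.trans_hom, Category.assoc, Iso.symm_hom, pullbackSpecIso_inv_fst]
      refine (Spec.map_comp _ _).symm.trans (congrArg (fun f : B →ₐ[A] D₀ ↦
        Spec.map (CommRingCat.ofHom f.toRingHom)) h₁)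
    · rw [Iso.trans_hom, Category.assoc, Iso.symm_hom, pullbackSpecIso_inv_snd]
      refine (Spec.map_comp _ _).symm.trans (congrArg (fun f : C →ₐ[A] D₀ ↦
        Spec.map (CommRingCat.ofHom f.toRingHom)) h₂)
  have : Flat SB := (HasRingHomProperty.Spec_iff (P := @Flat)).mpr
    (RingHom.flat_algebraMap_iff.mpr ‹_›)
  have : Surjective SB := ‹_›
  have : Surjective π := MorphismProperty.of_isPullback (P := @Surjective) hsq ‹_›
  have : Flat π := MorphismProperty.of_isPullback (P := @Flat) hsq ‹_›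
  have hqm : Topology.IsQuotientMap π.base := Flat.isQuotientMap_of_surjective _
  -- saturation of the range of `jE`
  have hPB : IsPullback jP sE p₂ jE := by
    refine IsPullback.of_right ?_ hjP₂ H
    rw [hjP₁, hsE]
    exact IsPullback.of_hasPullback _ _
  have hsat : π.base ⁻¹' (π.base '' Set.range jE) = Set.range jE := by
    refine Set.Subset.antisymm ?_ (Set.subset_preimage_image _ _)
    rintro z₂ ⟨_, ⟨e₁, rfl⟩, he⟩
    obtain ⟨t, ht₁, ht₂⟩ := Scheme.Pullback.exists_preimage_pullback (f := π) (g := π) _ _ he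
    let z := pullback.fst π π
    let z' := pullback.snd π π
    have hz : z ≫ π = z' ≫ π := pullback.condition
    have hπs : π ≫ SC = SD := by rw [← hsq.w, hSD]
    have hzc : (z' ≫ Sδ) ≫ SB = z ≫ SD := by
      rw [Category.assoc, hSD, ← hπs, reassoc_of% hz]
    let m := H.lift (z' ≫ Sδ) z hzc
    have hm : m ≫ σS = z' := hsq.hom_ext (by rw [Category.assoc, hσδ, H.lift_fst])
      (by rw [Category.assoc, hσπ, H.lift_snd_assoc, hz])
    have hpt' : p₂ (m t) = jE e₁ := by
      rw [← Scheme.Hom.comp_apply, H.lift_snd]; exact ht₁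
    have : m t ∈ Set.range jP := by
      obtain ⟨w, hw, -⟩ := Scheme.exists_preimage_of_isPullback hPB (m t) e₁ hpt'
      exact ⟨w, hw⟩
    obtain ⟨w, hw⟩ := this
    refine ⟨σs w, ?_⟩
    rw [← ht₂]
    change jE (σs w) = z' t
    rw [← hm, Scheme.Hom.comp_apply, ← hw, ← Scheme.Hom.comp_apply,
      ← Scheme.Hom.comp_apply, hσS']
  let O : (Spec (CommRingCat.of C)).Opens := ⟨π.base '' Set.range jE,
    hqm.isOpen_preimage.mp (hsat.symm ▸ jE.opensRange.isOpen)⟩
  let πE : E ⟶ O.toScheme := IsOpenImmersion.lift O.ι (jE ≫ π) (by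
    rw [Scheme.Opens.range_ι]
    rintro _ ⟨x, rfl⟩
    exact ⟨jE x, ⟨x, rfl⟩, rfl⟩)
  have hπE : πE ≫ O.ι = jE ≫ π := IsOpenImmersion.lift_fac _ _ _
  have hpO : IsPullback πE jE O.ι π := IsOpenImmersion.isPullback πE jE O.ι π hπE.symm (by
    rw [Scheme.Opens.opensRange_ι]
    exact TopologicalSpace.Opens.ext hsat)
  refine ⟨O.toScheme, O.ι ≫ SC, πE, ?_, ?_⟩
  · have := hpO.flip.paste_horiz hsq
    rwa [hq] at this
  · rw [← cancel_mono O.ι, Category.assoc, Category.assoc, hπE, ← reassoc_of% hσS', hσπ,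
      reassoc_of% hjP₂]

end Groth.Agent.SchDescent
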