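import Groth.Agent.SchDescent.AffineOpen
import Groth.Agent.SchDescent.Action
import Groth.Agent.SchDescent.QAQuot
import Groth.Agent.SchDescent.Effective
import Groth.Agent.QA.Basic

/-! # effective descent of quasi-affine schemes -/

universe u

open CategoryTheory CategoryTheory.Limits AlgebraicGeometry

namespace Groth.Agent.SchDescent

variable {X S : Scheme.{u}} {p : X ⟶ S} {D : Desc.SchDD p}

set_option backward.isDefEq.respectTransparency.types false in
/-- A stable open which is quasi-affine over an affine open of the base descends. -/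
theorem exists_isDescent_of_quasiAffineOpen [Surjective p] [Flat p] [QuasiCompact p]
    {V : D.obj.left.Opens} (hV : IsStableOpen D V) {U0 : S.Opens} (hU : IsAffineOpen U0)
    (l : V.toScheme ⟶ pullback hU.fromSpec p)
    (hl : l ≫ pullback.snd hU.fromSpec p = V.ι ≫ D.obj.hom)
    (hqa : ∀ (T : Scheme.{u}) [IsAffine T] (t : T ⟶ pullback hU.fromSpec p),
      Scheme.IsQuasiAffine (pullback l t)) :
    ∃ (U : Over S) (π : V.toScheme ⟶ U.left), IsDescent D V U π := by
  let s := hU.fromSpec
  have : CompactSpace (pullback s p : Scheme.{u}) :=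
    QuasiCompact.compactSpace_of_compactSpace (pullback.fst s p)
  have : MorphismProperty.ContainsIdentities (@IsLocalIso : MorphismProperty Scheme.{u}) :=
    IsLocalIso.instIsMultiplicativeScheme.toContainsIdentities
  have : MorphismProperty.ContainsIdentities (@Flat : MorphismProperty Scheme.{u}) :=
    Flat.instIsMultiplicativeScheme.toContainsIdentities
  have : MorphismProperty.ContainsIdentities
      (@LocallyOfFinitePresentation : MorphismProperty Scheme.{u}) :=
    ⟨fun T ↦ (inferInstance : LocallyOfFinitePresentation (𝟙 T))⟩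
  obtain ⟨Y, q, hq₁, hq₂, hY⟩ :=
    (pullback s p).exists_hom_isAffine_of_isZariskiLocalAtSource (@IsLocalIso : MorphismProperty Scheme.{u})
  let g' : Spec (.of Γ(Y, ⊤)) ⟶ pullback s p := Y.isoSpec.inv ≫ q
  have hloc : IsLocalIso g' :=
    MorphismProperty.RespectsIso.precomp (P := @IsLocalIso) Y.isoSpec.inv q hq₂
  have : Surjective g' := MorphismProperty.RespectsIso.precomp (P := @Surjective) Y.isoSpec.inv q hq₁
  have : Flat g' := IsLocalIso.le_of_isZariskiLocalAtSource @Flat _ _ _ hloc
  have : LocallyOfFinitePresentation g' :=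
    IsLocalIso.le_of_isZariskiLocalAtSource @LocallyOfFinitePresentation _ _ _ hloc
  have hg : Presieve.singleton g' ∈ Scheme.fpqcPrecoverage (pullback s p) :=
    Scheme.fppfPrecoverage_le_fpqcPrecoverage _ g'.singleton_mem_fppfPrecoverage
  let φ : Γ(S, U0) ⟶ Γ(Y, ⊤) := Spec.preimage (g' ≫ pullback.fst s p)
  have hφ : Spec.map φ = g' ≫ pullback.fst s p := Spec.map_preimage _
  have hflat : φ.hom.Flat := by
    have : Flat (Spec.map φ) := by rw [hφ]; infer_instance
    exact (HasRingHomProperty.Spec_iff (P := @Flat)).mp this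
  have hsurj : Surjective (Spec.map φ) := by rw [hφ]; infer_instance
  have : Flat (Spec.map φ) := (HasRingHomProperty.Spec_iff (P := @Flat)).mpr hflat
  have hsing : Presieve.singleton (Spec.map φ) ∈ Scheme.fpqcPrecoverage (Spec Γ(S, U0)) :=
    (Spec.map φ).singleton_mem_fpqcPrecoverage
  algebraize [φ.hom]
  let W := pullback l g'
  have : Scheme.IsQuasiAffine W := hqa _ g'
  refine exists_isDescent_of_action hV (Spec.map φ) s g' hsing hφ.symm l hl (pullback.fst l g')
    (pullback.snd l g') ?_ ?_
  · have h2 := isPullback_comp_mono (pullback.snd s p) (IsPullback.of_hasPullback l g')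
    rw [hl] at h2
    exact h2
  · intro σ h₁ h₂ h₃
    have : Surjective (Spec.map (CommRingCat.ofHom (algebraMap Γ(S, U0) Γ(Y, ⊤)))) := hsurj
    exact exists_quotient_of_quasiAffine (A := Γ(S, U0)) (B := Γ(Y, ⊤)) (pullback.snd l g') σ h₁ h₂ h₃

theorem effective_of_isQuasiAffine [Surjective p] [Flat p] [QuasiCompact p] (D : Desc.SchDD p)
    (hD : Mor2.IsQuasiAffine D.obj.hom) :
    ∃ U : Over S, Nonempty ((Desc.toDD p).obj U ≅ D) := by
  refine effective_of_good_cover D fun z ↦ ?_
  obtain ⟨U0, hU, hz, -⟩ := exists_isAffineOpen_mem_and_subset (U := ⊤)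
    (show p (D.obj.hom z) ∈ (⊤ : S.Opens) from trivial)
  let V := D.obj.hom ⁻¹ᵁ (p ⁻¹ᵁ U0)
  let l := IsOpenImmersion.lift (pullback.snd hU.fromSpec p) (V.ι ≫ D.obj.hom)
    (range_subset_snd D hU le_rfl)
  have hl : l ≫ pullback.snd hU.fromSpec p = V.ι ≫ D.obj.hom := IsOpenImmersion.lift_fac _ _ _
  have hpb : IsPullback l V.ι (pullback.snd hU.fromSpec p) D.obj.hom :=
    IsOpenImmersion.isPullback l V.ι (pullback.snd hU.fromSpec p) D.obj.hom hl.symm (by
      rw [Scheme.Opens.opensRange_ι]
      ext x
      change D.obj.hom x ∈ Set.range (pullback.snd hU.fromSpec p) ↔ x ∈ V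
      rw [IsOpenImmersion.range_pullbackSnd, hU.opensRange_fromSpec]
      rfl)
  refine ⟨⟨V, isStableOpen_preimage D U0,
    exists_isDescent_of_quasiAffineOpen (isStableOpen_preimage D U0) hU l hl fun T _ t ↦ ?_⟩, hz⟩
  let e := ((IsPullback.of_hasPullback l t).paste_horiz hpb.flip).isoPullback
  have := QA.isQuasiAffine_pullback hD (t ≫ pullback.snd hU.fromSpec p)
  exact .of_isAffineHom e.hom

end Groth.Agent.SchDescent
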