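import Mathlib.AlgebraicGeometry.Morphisms.Flat
import Mathlib.AlgebraicGeometry.Pullbacks
import Mathlib.AlgebraicGeometry.Morphisms.UniversallyOpen
import Mathlib.AlgebraicGeometry.Morphisms.FlatDescent
import Mathlib.RingTheory.Flat.Basic

/-! # sections cut out by equations, after a flat affine base change -/

set_option backward.isDefEq.respectTransparency false

universe u

open CategoryTheory CategoryTheory.Limits AlgebraicGeometry TensorProduct

namespace Groth.Agent.SchDescent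

variable {S X : Scheme.{u}} (p : X ⟶ S) [IsAffine S] [IsAffine X] [Flat p]

theorem bijective_sections {P : Scheme.{u}} [CompactSpace P] [QuasiSeparatedSpace P] (sP : P ⟶ S)
    [Algebra Γ(S, ⊤) Γ(X, ⊤)] [Algebra Γ(S, ⊤) Γ(P, ⊤)]
    (hX : algebraMap Γ(S, ⊤) Γ(X, ⊤) = p.appTop.hom)
    (hP : algebraMap Γ(S, ⊤) Γ(P, ⊤) = sP.appTop.hom) :
    ∃ θ : Γ(X, ⊤) ⊗[Γ(S, ⊤)] Γ(P, ⊤) →+* Γ(pullback p sP, ⊤), Function.Bijective θ ∧
      ∀ b c, θ (b ⊗ₜ c) = (pullback.fst p sP).appTop b * (pullback.snd p sP).appTop c := by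
  have Hc : IsPullback (pullback.snd p sP) (pullback.fst p sP) sP p :=
    (IsPullback.of_hasPullback p sP).flip
  have hpo : IsPushout p.appTop sP.appTop (pullback.fst p sP).appTop (pullback.snd p sP).appTop := by
    have h := (isIso_pushoutSection_iff Hc (US := ⊤) (UT := ⊤) (UX := ⊤) (UY := ⊤) (by simp) (by simp)
      (by simp)).mp (isIso_pushoutSection_of_isQuasiSeparated_of_flat_right Hc (by simp) (by simp)
        (by simp) (isAffineOpen_top _) (isAffineOpen_top _) isCompact_univ isQuasiSeparated_univ)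
    have hle : ∀ {X Y : Scheme.{u}} (f : X ⟶ Y) (e : (⊤ : X.Opens) ≤ f ⁻¹ᵁ ⊤),
        f.appLE ⊤ ⊤ e = f.appTop := fun f e ↦ by simp [Scheme.Hom.appLE]
    simpa only [hle] using h.flip
  have hte := CommRingCat.isPushout_tensorProduct Γ(S, ⊤) Γ(X, ⊤) Γ(P, ⊤)
  rw [show CommRingCat.ofHom (algebraMap Γ(S, ⊤) Γ(X, ⊤)) = p.appTop from
      CommRingCat.hom_ext hX,
    show CommRingCat.ofHom (algebraMap Γ(S, ⊤) Γ(P, ⊤)) = sP.appTop from
      CommRingCat.hom_ext hP] at hte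
  refine ⟨(hte.isoIsPushout _ _ hpo).hom.hom,
    ConcreteCategory.bijective_of_isIso (hte.isoIsPushout _ _ hpo).hom, fun b c ↦ ?_⟩
  have h1 := congr($(IsPushout.inl_isoIsPushout_hom _ _ hte hpo) b)
  have h2 := congr($(IsPushout.inr_isoIsPushout_hom _ _ hte hpo) c)
  rw [← h1, ← h2]
  simp only [CommRingCat.hom_comp, RingHom.comp_apply, ← map_mul]
  congr 1
  simp

/-- If `y` on `X ×_S P` satisfies the equations `a = b` and `t = 0` after base change to `X`,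
it is in the ideal generated by the sections on `P` which satisfy them. -/
theorem mem_span_of_flat {P Q Q' : Scheme.{u}} [CompactSpace P] [QuasiSeparatedSpace P]
    [CompactSpace Q] [QuasiSeparatedSpace Q] [CompactSpace Q'] [QuasiSeparatedSpace Q']
    (sP : P ⟶ S) (a b : Q ⟶ P) (hab : a ≫ sP = b ≫ sP) (t : Q' ⟶ P)
    (y : Γ(pullback p sP, ⊤))
    (at' bt : pullback p (a ≫ sP) ⟶ pullback p sP) (tt : pullback p (t ≫ sP) ⟶ pullback p sP)
    (ha₁ : at' ≫ pullback.fst p sP = pullback.fst _ _)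
    (ha₂ : at' ≫ pullback.snd p sP = pullback.snd _ _ ≫ a)
    (hb₁ : bt ≫ pullback.fst p sP = pullback.fst _ _)
    (hb₂ : bt ≫ pullback.snd p sP = pullback.snd _ _ ≫ b)
    (ht₁ : tt ≫ pullback.fst p sP = pullback.fst _ _)
    (ht₂ : tt ≫ pullback.snd p sP = pullback.snd _ _ ≫ t)
    (hy₁ : at'.appTop y = bt.appTop y) (hy₂ : tt.appTop y = 0) :
    y ∈ Ideal.span ((pullback.snd p sP).appTop ''
      {c : Γ(P, ⊤) | a.appTop c = b.appTop c ∧ t.appTop c = 0}) := by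
  let : Algebra Γ(S, ⊤) Γ(X, ⊤) := p.appTop.hom.toAlgebra
  let : Algebra Γ(S, ⊤) Γ(P, ⊤) := sP.appTop.hom.toAlgebra
  let : Algebra Γ(S, ⊤) Γ(Q, ⊤) := (a ≫ sP).appTop.hom.toAlgebra
  let : Algebra Γ(S, ⊤) Γ(Q', ⊤) := (t ≫ sP).appTop.hom.toAlgebra
  have : Module.Flat Γ(S, ⊤) Γ(X, ⊤) :=
    RingHom.flat_algebraMap_iff.mp ((HasRingHomProperty.iff_of_isAffine (P := @Flat)).mp ‹_›)
  obtain ⟨θ, hθ, hθt⟩ := bijective_sections p sP rfl rfl
  obtain ⟨θ₁, hθ₁, hθ₁t⟩ := bijective_sections p (a ≫ sP) rfl rfl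
  obtain ⟨θ₂, hθ₂, hθ₂t⟩ := bijective_sections p (t ≫ sP) rfl rfl
  let al : Γ(P, ⊤) →ₗ[Γ(S, ⊤)] Γ(Q, ⊤) :=
    { toFun := a.appTop, map_add' := map_add _
      map_smul' := fun r x ↦ by
        show a.appTop (sP.appTop r * x) = (a ≫ sP).appTop r * a.appTop x
        rw [map_mul, Scheme.Hom.comp_appTop]; rfl }
  let bl : Γ(P, ⊤) →ₗ[Γ(S, ⊤)] Γ(Q, ⊤) :=
    { toFun := b.appTop, map_add' := map_add _
      map_smul' := fun r x ↦ by
        show b.appTop (sP.appTop r * x) = (a ≫ sP).appTop r * b.appTop x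
        rw [map_mul, hab, Scheme.Hom.comp_appTop]; rfl }
  let tl : Γ(P, ⊤) →ₗ[Γ(S, ⊤)] Γ(Q', ⊤) :=
    { toFun := t.appTop, map_add' := map_add _
      map_smul' := fun r x ↦ by
        show t.appTop (sP.appTop r * x) = (t ≫ sP).appTop r * t.appTop x
        rw [map_mul, Scheme.Hom.comp_appTop]; rfl }
  have nat : ∀ {Z : Scheme.{u}} (sZ : Z ⟶ S) (m : Z ⟶ P) (mt : pullback p sZ ⟶ pullback p sP)
      (_ : mt ≫ pullback.fst p sP = pullback.fst _ _)
      (_ : mt ≫ pullback.snd p sP = pullback.snd _ _ ≫ m) (x : Γ(X, ⊤)) (c : Γ(P, ⊤)),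
      mt.appTop (θ (x ⊗ₜ c)) =
        (pullback.fst p sZ).appTop x * (pullback.snd p sZ).appTop (m.appTop c) := by
    intro Z sZ m mt h₁ h₂ x c
    rw [hθt, map_mul, ← h₁, Scheme.Hom.comp_appTop, ← CommRingCat.comp_apply (pullback.snd p sP).appTop,
      ← Scheme.Hom.comp_appTop, h₂, Scheme.Hom.comp_appTop]
    rfl
  obtain ⟨z, rfl⟩ := hθ.2 y
  have e₁ : ∀ z, θ₁ (al.lTensor Γ(X, ⊤) z) = at'.appTop (θ z) := fun z ↦ by
    induction z using TensorProduct.induction_on with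
    | zero => simp
    | tmul x c => rw [LinearMap.lTensor_tmul, nat _ a at' ha₁ ha₂, hθ₁t]; rfl
    | add x y hx hy => simp only [map_add, hx, hy]
  have e₁' : ∀ z, θ₁ (bl.lTensor Γ(X, ⊤) z) = bt.appTop (θ z) := fun z ↦ by
    induction z using TensorProduct.induction_on with
    | zero => simp
    | tmul x c => rw [LinearMap.lTensor_tmul, nat _ b bt hb₁ hb₂, hθ₁t]; rfl
    | add x y hx hy => simp only [map_add, hx, hy]
  have e₂ : ∀ z, θ₂ (tl.lTensor Γ(X, ⊤) z) = tt.appTop (θ z) := fun z ↦ by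
    induction z using TensorProduct.induction_on with
    | zero => simp
    | tmul x c => rw [LinearMap.lTensor_tmul, nat _ t tt ht₁ ht₂, hθ₂t]; rfl
    | add x y hx hy => simp only [map_add, hx, hy]
  let K := LinearMap.ker (al - bl)
  let K' := LinearMap.ker (tl ∘ₗ K.subtype)
  obtain ⟨z₁, rfl⟩ := ((Module.Flat.lTensor_exact Γ(X, ⊤)
    (LinearMap.exact_subtype_ker_map (al - bl))) z).mp (hθ₁.1 (by
      rw [map_zero, LinearMap.lTensor_sub, LinearMap.sub_apply, map_sub, e₁, e₁', hy₁, sub_self]))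
  let d : ↥K →ₗ[Γ(S, ⊤)] Γ(Q', ⊤) := tl ∘ₗ K.subtype
  have hz₁ : d.lTensor Γ(X, ⊤) z₁ = 0 := hθ₂.1 (by
    rw [map_zero, show d.lTensor Γ(X, ⊤) z₁ = tl.lTensor Γ(X, ⊤) (K.subtype.lTensor Γ(X, ⊤) z₁) from
      by rw [← LinearMap.comp_apply, ← LinearMap.lTensor_comp], e₂, hy₂])
  obtain ⟨z₂, rfl⟩ := ((Module.Flat.lTensor_exact Γ(X, ⊤) (N := ↥(LinearMap.ker d))
    (N' := ↥K) (N'' := ↥Γ(Q', ⊤)) (LinearMap.exact_subtype_ker_map d)) z₁).mp hz₁
  clear hy₁ hy₂ hz₁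
  induction z₂ using TensorProduct.induction_on with
  | zero => simp
  | tmul x c =>
    rw [LinearMap.lTensor_tmul, LinearMap.lTensor_tmul, hθt]
    refine Ideal.mul_mem_left _ _ (Ideal.subset_span ⟨c.1.1, ⟨?_, c.2⟩, rfl⟩)
    exact sub_eq_zero.mp (show (al - bl) c.1.1 = 0 from c.1.2)
  | add x y hx hy =>
    simp only [map_add]
    exact add_mem hx hy

end Groth.Agent.SchDescent
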