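import Groth.Agent.SchDescent.IsDesc
import Groth.Agent.SchDescent.FlatKer
import Groth.Agent.QA.Basic
import Groth.Prelude.Def_MoreMor
import Mathlib.AlgebraicGeometry.IdealSheaf.Subscheme

/-! # stable quasi-affine opens of a descent datum on an ind-quasi-affine scheme -/

set_option backward.isDefEq.respectTransparency false

universe u

open CategoryTheory CategoryTheory.Limits AlgebraicGeometry TopologicalSpace

namespace Groth.Agent.SchDescent

variable {X S : Scheme.{u}} {p : X ⟶ S} (D : Desc.SchDD p)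

/-- transport of a point to another chart -/
def tr {T : Scheme.{u}} (x : T ⟶ X) (v : T ⟶ D.obj.left)
    (h : (v ≫ D.obj.hom) ≫ p = x ≫ p) : T ⟶ D.obj.left :=
  (D.φ (v ≫ D.obj.hom) x h ⟨v, rfl⟩).1

lemma tr_over {T : Scheme.{u}} (x : T ⟶ X) (v : T ⟶ D.obj.left)
    (h : (v ≫ D.obj.hom) ≫ p = x ≫ p) : tr D x v h ≫ D.obj.hom = x :=
  (D.φ (v ≫ D.obj.hom) x h ⟨v, rfl⟩).2

lemma comp_tr {T T' : Scheme.{u}} (g : T' ⟶ T) {x : T ⟶ X} {v : T ⟶ D.obj.left}
    {h : (v ≫ D.obj.hom) ≫ p = x ≫ p} {x' : T' ⟶ X} {v' : T' ⟶ D.obj.left}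
    {h' : (v' ≫ D.obj.hom) ≫ p = x' ≫ p} (hx : g ≫ x = x') (hv : g ≫ v = v') :
    g ≫ tr D x v h = tr D x' v' h' := by
  subst hx hv
  rw [tr, comp_phi]
  exact phi_congr (Category.assoc _ _ _).symm rfl _ _ _ _ rfl

lemma tr_self {T : Scheme.{u}} {x : T ⟶ X} {v : T ⟶ D.obj.left}
    {h : (v ≫ D.obj.hom) ≫ p = x ≫ p} (hx : v ≫ D.obj.hom = x) : tr D x v h = v :=
  phi_self hx _ _ _

lemma tr_tr {T : Scheme.{u}} (x x' : T ⟶ X) (v : T ⟶ D.obj.left)
    (h : (v ≫ D.obj.hom) ≫ p = x' ≫ p) (h' : (tr D x' v h ≫ D.obj.hom) ≫ p = x ≫ p) :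
    tr D x (tr D x' v h) h' = tr D x v (h.trans ((congrArg (· ≫ p) (tr_over D x' v h)).symm.trans h')) := by
  refine Eq.trans ?_ (congrArg Subtype.val (D.φ_comp _ _ x h
    ((congrArg (· ≫ p) (tr_over D x' v h)).symm.trans h') ⟨v, rfl⟩))
  exact phi_congr (tr_over D x' v h) rfl _ _ _ _ rfl

/-- the points related to a subset -/
def sat (A : Set D.obj.left) : Set D.obj.left :=
  tr D (pullback.fst p (D.obj.hom ≫ p)) (pullback.snd p (D.obj.hom ≫ p))
    (by rw [Category.assoc, pullback.condition]) ''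
      ((pullback.snd p (D.obj.hom ≫ p)) ⁻¹' A)

lemma apply_mem_sat {A : Set D.obj.left} {T : Scheme.{u}} (x : T ⟶ X) (v : T ⟶ D.obj.left)
    (h : (v ≫ D.obj.hom) ≫ p = x ≫ p) (t : T) (ht : v t ∈ A) : tr D x v h t ∈ sat D A := by
  have hl : x ≫ p = v ≫ D.obj.hom ≫ p := by rw [← h, Category.assoc]
  refine ⟨pullback.lift x v hl t, ?_, ?_⟩
  · show pullback.snd p (D.obj.hom ≫ p) (pullback.lift x v hl t) ∈ A
    rw [← Scheme.Hom.comp_apply, pullback.lift_snd]
    exact ht
  · rw [← Scheme.Hom.comp_apply]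
    exact congr($(comp_tr D (pullback.lift x v hl) (h' := h) (pullback.lift_fst _ _ _)
      (pullback.lift_snd _ _ _)) t)

lemma exists_qc_open {A : Set D.obj.left} (hA : IsCompact A) [QuasiCompact p] :
    ∃ W : D.obj.left.Opens, IsCompact (W : Set D.obj.left) ∧ A ⊆ W ∧ sat D A ⊆ W := by
  obtain ⟨K, hK, hoK, hAK, -⟩ := PrespectralSpace.exists_isCompact_and_isOpen_between hA
    isOpen_univ (Set.subset_univ _)
  have h1 : IsCompact (sat D K) := ((QuasiCompact.isCompact_preimage (f := pullback.snd p _) K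
    hoK hK)).image (Scheme.Hom.continuous _)
  obtain ⟨W, hW, hoW, hKW, -⟩ := PrespectralSpace.exists_isCompact_and_isOpen_between
    (hK.union h1) isOpen_univ (Set.subset_univ _)
  exact ⟨⟨W, hoW⟩, hW, hAK.trans (Set.subset_union_left.trans hKW),
    (Set.image_mono (Set.preimage_mono hAK)).trans (Set.subset_union_right.trans hKW)⟩

set_option maxHeartbeats 1000000 in
/-- every point lies in a stable quasi-affine open -/
theorem exists_stable_quasiAffine [IsAffine X] [IsAffine S] [Flat p]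
    (hE : MoreMor.IsIndQuasiAffine D.obj.left) (e : D.obj.left) :
    ∃ V : D.obj.left.Opens, e ∈ V ∧ IsStableOpen D V ∧ Scheme.IsQuasiAffine V.toScheme := by
  obtain ⟨O, hO, he, -⟩ := exists_isAffineOpen_mem_and_subset (U := ⊤)
    (show e ∈ (⊤ : D.obj.left.Opens) from trivial)
  obtain ⟨W1, hW1, hOW1, hsatO⟩ := exists_qc_open D hO.isCompact
  obtain ⟨W2, hW2, h12, hsat1⟩ := exists_qc_open D hW1
  obtain ⟨W, hW, h2W, hsat2⟩ := exists_qc_open D hW2
  have := hE W1 hW1
  have := hE W2 hW2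
  have := hE W hW
  obtain ⟨_, ⟨_, ⟨g, -, rfl⟩, rfl⟩, heg, hgO⟩ :=
    (Scheme.IsQuasiAffine.isBasis_basicOpen W.toScheme).exists_subset_of_mem_open
      (show (⟨e, h2W (h12 (hOW1 he))⟩ : W) ∈ W.ι ⁻¹ᵁ O from he) (W.ι ⁻¹ᵁ O).2
  let sP : W2.toScheme ⟶ S := W2.ι ≫ D.obj.hom ≫ p
  let R2 := pullback p sP
  have hc : ∀ {Z : Scheme.{u}} (sZ : Z ⟶ S) (j : Z ⟶ D.obj.left), sZ = j ≫ D.obj.hom ≫ p →
      ((pullback.snd p sZ ≫ j) ≫ D.obj.hom) ≫ p = pullback.fst p sZ ≫ p := by
    intro Z sZ j hj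
    rw [pullback.condition, hj]
    simp only [Category.assoc]
  let σ2 : R2 ⟶ W.toScheme := IsOpenImmersion.lift W.ι
    (tr D (pullback.fst p sP) (pullback.snd p sP ≫ W2.ι) (hc sP W2.ι rfl)) (by
      rintro _ ⟨r, rfl⟩
      rw [Scheme.Opens.range_ι]
      exact hsat2 (apply_mem_sat D _ _ _ r (pullback.snd p sP r).2))
  have hσ2 : σ2 ≫ W.ι = tr D _ _ _ := IsOpenImmersion.lift_fac _ _ _
  let y0 := σ2.appTop g
  -- the two maps
  let Q := pullback p (W1.ι ≫ D.obj.hom ≫ p)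
  let a : Q ⟶ W2.toScheme := IsOpenImmersion.lift W2.ι
    (tr D (pullback.fst p _) (pullback.snd p _ ≫ W1.ι) (hc _ W1.ι rfl)) (by
      rintro _ ⟨r, rfl⟩
      rw [Scheme.Opens.range_ι]
      exact hsat1 (apply_mem_sat D _ _ _ r (pullback.snd p _ r).2))
  have ha : a ≫ W2.ι = tr D _ _ _ := IsOpenImmersion.lift_fac _ _ _
  let b : Q ⟶ W2.toScheme := pullback.snd p _ ≫ D.obj.left.homOfLE h12
  have hb : b ≫ W2.ι = pullback.snd p (W1.ι ≫ D.obj.hom ≫ p) ≫ W1.ι := by
    simp only [b, Category.assoc, Scheme.homOfLE_ι]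
  have hab : a ≫ sP = b ≫ sP := by
    show a ≫ W2.ι ≫ D.obj.hom ≫ p = b ≫ W2.ι ≫ D.obj.hom ≫ p
    rw [reassoc_of% ha, reassoc_of% hb, reassoc_of% (tr_over D (pullback.fst p _) _ _)]
    exact pullback.condition
  have : CompactSpace W1.toScheme := isCompact_iff_compactSpace.mp hW1
  have : CompactSpace W2.toScheme := isCompact_iff_compactSpace.mp hW2
  have : CompactSpace (Q : Scheme.{u}) :=
    QuasiCompact.compactSpace_of_compactSpace (pullback.snd p (W1.ι ≫ D.obj.hom ≫ p))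
  have : QuasiSeparatedSpace (Q : Scheme.{u}) :=
    quasiSeparatedSpace_of_quasiSeparated (pullback.snd p (W1.ι ≫ D.obj.hom ≫ p))
  -- the complement of `W1` in `W2`
  let Z : Closeds W2.toScheme := ⟨((W2.ι ⁻¹ᵁ W1 : W2.toScheme.Opens) : Set W2.toScheme)ᶜ,
    (W2.ι ⁻¹ᵁ W1).2.isClosed_compl⟩
  let I := Scheme.IdealSheafData.vanishingIdeal Z
  let t := I.subschemeι
  have : CompactSpace (I.subscheme : Scheme.{u}) := QuasiCompact.compactSpace_of_compactSpace t
  have : QuasiSeparatedSpace (I.subscheme : Scheme.{u}) := quasiSeparatedSpace_of_quasiSeparated t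
  have hrt : ∀ z, (t z).1 ∉ W1 := fun z ↦ by
    have : t z ∈ Set.range t := ⟨z, rfl⟩
    rw [Scheme.IdealSheafData.range_subschemeι, Scheme.IdealSheafData.coe_support_vanishingIdeal]
      at this
    exact this
  let tt : pullback p (t ≫ sP) ⟶ R2 :=
    pullback.lift (pullback.fst _ _) (pullback.snd _ _ ≫ t)
      (by rw [pullback.condition, Category.assoc])
  have : CompactSpace (pullback p (t ≫ sP) : Scheme.{u}) :=
    QuasiCompact.compactSpace_of_compactSpace (pullback.snd p (t ≫ sP))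
  obtain ⟨N, hN⟩ : IsNilpotent (tt.appTop y0) := by
    rw [Scheme.isNilpotent_iff_basicOpen_eq_bot]
    refine eq_bot_iff.mpr fun z hz ↦ ?_
    rw [← Scheme.preimage_basicOpen_top, ← Scheme.preimage_basicOpen_top] at hz
    have ho : (σ2 (tt z)).1 ∈ (O : Set D.obj.left) := hgO hz
    let v := pullback.snd p (t ≫ sP) ≫ t ≫ W2.ι
    have hv : (v ≫ D.obj.hom) ≫ p = pullback.fst p (t ≫ sP) ≫ p := by
      simp only [v, sP, pullback.condition, Category.assoc]
    have e1 : tt ≫ σ2 ≫ W.ι = tr D (pullback.fst p (t ≫ sP)) v hv := by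
      rw [hσ2]
      exact comp_tr D tt (pullback.lift_fst _ _ _) (by
        simp only [v, ← Category.assoc, tt, pullback.lift_snd])
    have hback : ((tr D (pullback.fst p (t ≫ sP)) v hv ≫ D.obj.hom) ≫ p) = (v ≫ D.obj.hom) ≫ p := by
      rw [tr_over, hv]
    have e2 : tr D (v ≫ D.obj.hom) (tr D (pullback.fst p (t ≫ sP)) v hv) hback = v :=
      (tr_tr D _ _ v hv hback).trans (tr_self D rfl)
    have := hsatO (apply_mem_sat D (v ≫ D.obj.hom) _ hback z
      (by rw [← congr($e1 z)]; exact ho))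
    rw [congr($e2 z)] at this
    exact hrt _ this
  have hab1 : (y0 ^ (N + 1)) ∈ Ideal.span ((pullback.snd p sP).appTop ''
      {c | a.appTop c = b.appTop c ∧ t.appTop c = 0}) := by
    let at' : pullback p (a ≫ sP) ⟶ R2 :=
      pullback.lift (pullback.fst _ _) (pullback.snd _ _ ≫ a)
        (by rw [pullback.condition, Category.assoc])
    let bt : pullback p (a ≫ sP) ⟶ R2 :=
      pullback.lift (pullback.fst _ _) (pullback.snd _ _ ≫ b)
        (by rw [pullback.condition, Category.assoc, hab])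
    refine mem_span_of_flat p sP a b hab t _ at' bt tt (pullback.lift_fst _ _ _)
      (pullback.lift_snd _ _ _) (pullback.lift_fst _ _ _) (pullback.lift_snd _ _ _)
      (pullback.lift_fst _ _ _) (pullback.lift_snd _ _ _) ?_ (by
        rw [map_pow, pow_succ, hN, zero_mul])
    have : at' ≫ σ2 = bt ≫ σ2 := by
      rw [← cancel_mono W.ι, Category.assoc, Category.assoc, hσ2]
      let x := pullback.fst p (a ≫ sP)
      let x' := pullback.snd p (a ≫ sP) ≫ pullback.fst p (W1.ι ≫ D.obj.hom ≫ p)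
      let v := pullback.snd p (a ≫ sP) ≫ pullback.snd p (W1.ι ≫ D.obj.hom ≫ p) ≫ W1.ι
      have hv : (v ≫ D.obj.hom) ≫ p = x' ≫ p := by
        simp only [v, x', pullback.condition, Category.assoc]
      have ea : at' ≫ pullback.snd p sP ≫ W2.ι = tr D x' v hv := by
        rw [pullback.lift_snd_assoc, Category.assoc, ha]
        exact comp_tr D _ rfl rfl
      have eb : bt ≫ pullback.snd p sP ≫ W2.ι = v := by
        rw [pullback.lift_snd_assoc, Category.assoc, hb]
      have h0 : a ≫ sP = pullback.snd p (W1.ι ≫ D.obj.hom ≫ p) ≫ W1.ι ≫ D.obj.hom ≫ p := by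
        rw [hab, ← Category.assoc, hb, Category.assoc]
      have hv2 : (v ≫ D.obj.hom) ≫ p = x ≫ p := by
        simp only [v, x, pullback.condition, h0, Category.assoc]
      have ht2 : (tr D x' v hv ≫ D.obj.hom) ≫ p = x ≫ p := by
        rw [tr_over, ← hv, hv2]
      rw [comp_tr D at' (pullback.lift_fst _ _ _) ea (h' := ht2),
        comp_tr D bt (pullback.lift_fst _ _ _) eb (h' := hv2), tr_tr]
    rw [map_pow, map_pow]
    congr 1
    show (σ2.appTop ≫ at'.appTop) g = (σ2.appTop ≫ bt.appTop) g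
    rw [← Scheme.Hom.comp_appTop, ← Scheme.Hom.comp_appTop, this]
  -- a point over `e`
  let Δ : W2.toScheme ⟶ R2 := pullback.lift (W2.ι ≫ D.obj.hom) (𝟙 _) (by simp [sP])
  let e2 : W2 := ⟨e, h12 (hOW1 he)⟩
  have hr : Δ e2 ∈ R2.basicOpen (y0 ^ (N + 1)) := by
    rw [Scheme.mem_basicOpen_top, map_pow, isUnit_pow_iff (Nat.succ_ne_zero N), ← Scheme.mem_basicOpen_top,
      ← Scheme.preimage_basicOpen_top]
    show σ2 (Δ e2) ∈ W.toScheme.basicOpen g
    have : Δ ≫ σ2 ≫ W.ι = W2.ι := by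
      rw [hσ2]
      refine (comp_tr D Δ (h' := ?_) (pullback.lift_fst _ _ _) (v' := W2.ι) ?_).trans (tr_self D rfl)
      · simp
      · rw [pullback.lift_snd_assoc, Category.id_comp]
    rw [show σ2 (Δ e2) = ⟨e, h2W (h12 (hOW1 he))⟩ from Subtype.ext congr($this e2)]
    exact heg
  obtain ⟨c, ⟨hc1, hc2⟩, hce⟩ : ∃ c, (a.appTop c = b.appTop c ∧ t.appTop c = 0) ∧
      e2 ∈ W2.toScheme.basicOpen c := by
    by_contra hcon
    push Not at hcon
    rw [Scheme.mem_basicOpen_top] at hr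
    let ev := (R2.presheaf.germ ⊤ (Δ e2) trivial).hom
    have : Ideal.span ((pullback.snd p sP).appTop ''
        {c | a.appTop c = b.appTop c ∧ t.appTop c = 0}) ≤
        (IsLocalRing.maximalIdeal _).comap ev := by
      refine Ideal.span_le.mpr ?_
      rintro _ ⟨c, hc', rfl⟩
      refine Ideal.mem_comap.mpr ?_
      rw [IsLocalRing.mem_maximalIdeal]
      intro hu
      refine hcon c hc' ?_
      have h3 : Δ e2 ∈ R2.basicOpen ((pullback.snd p sP).appTop c) :=
        (Scheme.mem_basicOpen_top _ _ _).mpr hu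
      rw [← Scheme.preimage_basicOpen_top] at h3
      rwa [show e2 = pullback.snd p sP (Δ e2) from congr($((pullback.lift_snd _ _ _ :
        Δ ≫ pullback.snd p sP = 𝟙 _)) e2).symm]
    exact (IsLocalRing.mem_maximalIdeal _).mp (this hab1) hr
  let V : D.obj.left.Opens := W2.ι ''ᵁ W2.toScheme.basicOpen c
  have hVW1 : ∀ w : W2, w ∈ W2.toScheme.basicOpen c → w.1 ∈ W1 := by
    intro w hw
    by_contra hn
    obtain ⟨z, hz⟩ : ∃ z, t z = w := by
      show w ∈ Set.range t.base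
      rw [Scheme.IdealSheafData.range_subschemeι, Scheme.IdealSheafData.coe_support_vanishingIdeal]
      exact hn
    have : z ∈ I.subscheme.basicOpen (t.appTop c) := by
      rw [← Scheme.preimage_basicOpen_top]
      show t z ∈ W2.toScheme.basicOpen c
      rwa [hz]
    rw [hc2, Scheme.basicOpen_zero] at this
    exact this
  refine ⟨V, ⟨e2, hce, rfl⟩, ?_, ?_⟩
  · intro T x₀ x₁ h v hv
    rintro _ ⟨s, rfl⟩
    have hr1 : Set.range v.1 ⊆ Set.range W1.ι := by
      rw [Scheme.Opens.range_ι]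
      rintro _ ⟨s, rfl⟩
      obtain ⟨w, hw, hw'⟩ := hv ⟨s, rfl⟩
      rw [← hw']
      exact hVW1 w hw
    let v1 := IsOpenImmersion.lift W1.ι v.1 hr1
    have hv1 : v1 ≫ W1.ι = v.1 := IsOpenImmersion.lift_fac _ _ _
    have hh : (v.1 ≫ D.obj.hom) ≫ p = x₁ ≫ p := by rw [v.2, h]
    let m : T ⟶ Q := pullback.lift x₁ v1 (by
      rw [← hh, ← hv1]; simp only [Category.assoc])
    have hma : m ≫ a ≫ W2.ι = (D.φ x₀ x₁ h v).1 := by
      rw [ha]
      exact (comp_tr D m (h' := hh) (pullback.lift_fst _ _ _) (by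
        rw [pullback.lift_snd_assoc, hv1])).trans (phi_congr v.2 rfl _ _ _ _ rfl)
    have hmb : m ≫ b ≫ W2.ι = v.1 := by rw [hb, pullback.lift_snd_assoc, hv1]
    refine ⟨a (m s), ?_, congr($hma s)⟩
    have hbm : b (m s) ∈ W2.toScheme.basicOpen c := by
      obtain ⟨w, hw, hw'⟩ := hv ⟨s, rfl⟩
      rwa [show b (m s) = w from W2.ι.injective ((congr($hmb s)).trans hw'.symm)]
    have : m s ∈ b ⁻¹ᵁ W2.toScheme.basicOpen c := hbm
    rw [Scheme.preimage_basicOpen_top, ← hc1, ← Scheme.preimage_basicOpen_top] at this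
    exact this
  · have hsub : V ≤ W := by
      rintro _ ⟨w, -, rfl⟩
      exact h2W w.2
    have : CompactSpace V.toScheme := isCompact_iff_compactSpace.mp (by
      have hc' : IsCompact (W2.toScheme.basicOpen c : Set W2.toScheme) :=
        isRetrocompact_basicOpen c |>.isCompact
      exact hc'.image W2.ι.continuous)
    exact .of_isImmersion (D.obj.left.homOfLE hsub)

end Groth.Agent.SchDescent
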