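import Groth.Agent.SchDescent.Family
import Groth.Agent.SchDescent.QuasiAffine
import Groth.Agent.SchDescent.StableOpen
import Groth.Agent.QA.IndQA

/-! # effective descent of ind-quasi-affine morphisms -/

set_option backward.isDefEq.respectTransparency false

universe u

open CategoryTheory CategoryTheory.Limits AlgebraicGeometry

namespace Groth.Agent.SchDescent

theorem effective_of_indQA_affine {X S : Scheme.{u}} (p : X ⟶ S) [IsAffine X] [IsAffine S] [Flat p]
    [Surjective p] (D : Desc.SchDD p) (h : MoreMor.IsIndQuasiAffineHom D.obj.hom) :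
    ∃ U : Over S, Nonempty ((Desc.toDD p).obj U ≅ D) := by
  refine effective_of_good_cover D fun z ↦ ?_
  obtain ⟨V, hz, hV, hqa⟩ := exists_stable_quasiAffine D (QA.IndQA.of_top h) z
  have hU : IsAffineOpen (⊤ : S.Opens) := isAffineOpen_top S
  let l := IsOpenImmersion.lift (pullback.snd hU.fromSpec p) (V.ι ≫ D.obj.hom)
    (range_subset_snd D hU (fun _ _ ↦ trivial))
  have hl : l ≫ pullback.snd hU.fromSpec p = V.ι ≫ D.obj.hom := IsOpenImmersion.lift_fac _ _ _
  refine ⟨⟨V, hV, exists_isDescent_of_quasiAffineOpen hV hU l hl fun T _ t ↦ ?_⟩, hz⟩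
  have : IsAffine (pullback hU.fromSpec p) := isAffine_of_isAffineHom (pullback.fst hU.fromSpec p)
  have : IsAffineHom (pullback.fst l t) := MorphismProperty.pullback_fst _ _ inferInstance
  exact .of_isAffineHom (pullback.fst l t)

theorem effective_of_indQA {ι : Type u} {S : Scheme.{u}} {X : ι → Scheme.{u}} (f : ∀ i, X i ⟶ S)
    (hf : Presieve.ofArrows X f ∈ Scheme.fpqcPrecoverage S) (D : Desc.SchDDFam f)
    (hD : ∀ i, MoreMor.IsIndQuasiAffineHom (D.obj i).hom) : D.IsEffective := by
  let P : MorphismProperty Scheme.{u} := fun _ _ q ↦ MoreMor.IsIndQuasiAffineHom q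
  have : P.IsStableUnderBaseChange := ⟨fun hc h ↦ QA.IndQA.baseChange hc h⟩
  exact effective_of_family P (fun m Y V q h ↦ QA.IndQA.sigmaMap q h)
    (fun X S p _ _ _ _ D h ↦ effective_of_indQA_affine p D h) hf D hD

end Groth.Agent.SchDescent
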