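import Mathlib.RingTheory.Flat.FaithfullyFlat.Algebra
import Mathlib.RingTheory.TensorProduct.Maps

/-! # the Amitsur complex in degree zero -/

universe u

open TensorProduct

namespace Groth.Agent.SchDescent

theorem mem_range_of_amitsur (R A : Type u) [CommRing R] [CommRing A] [Algebra R A]
    [Module.FaithfullyFlat R A] (M : Type u) [AddCommGroup M] [Module R M] (x : A ⊗[R] M)
    (hx : TensorProduct.mk R A (A ⊗[R] M) 1 x = LinearMap.lTensor A (TensorProduct.mk R A M 1) x) :
    x ∈ LinearMap.range (TensorProduct.mk R A M 1) := by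
  let ι : M →ₗ[R] A ⊗[R] M := TensorProduct.mk R A M 1
  let d : A ⊗[R] M →ₗ[R] A ⊗[R] (A ⊗[R] M) :=
    TensorProduct.mk R A (A ⊗[R] M) 1 - LinearMap.lTensor A ι
  let μ : ∀ (N : Type u) [AddCommGroup N] [Module R N], A ⊗[R] (A ⊗[R] N) →ₗ[R] A ⊗[R] N :=
    fun N _ _ ↦ (LinearMap.rTensor N (LinearMap.mul' R A)) ∘ₗ
      (TensorProduct.assoc R A A N).symm.toLinearMap
  have hex : Function.Exact (ι.lTensor A) (d.lTensor A) := by
    intro z
    constructor
    · intro hz
      refine ⟨μ M z, ?_⟩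
      have key : μ (A ⊗[R] M) ∘ₗ d.lTensor A = LinearMap.id - ι.lTensor A ∘ₗ μ M := by
        ext b a m
        simp [μ, d, ι, TensorProduct.tmul_sub]
      have := LinearMap.congr_fun key z
      simp only [LinearMap.comp_apply, hz, map_zero, LinearMap.sub_apply, LinearMap.id_apply] at this
      exact (sub_eq_zero.mp this.symm).symm
    · rintro ⟨w, rfl⟩
      have : d ∘ₗ ι = 0 := by
        ext m
        simp [d, ι]
      rw [← LinearMap.comp_apply, ← LinearMap.lTensor_comp, this, LinearMap.lTensor_zero,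
        LinearMap.zero_apply]
  exact ((Module.FaithfullyFlat.lTensor_reflects_exact R A ι d hex) x).mp
    (by simp only [d, LinearMap.sub_apply, sub_eq_zero]; exact hx)

theorem existsUnique_baseChange_eq (A A' : Type u) [CommRing A] [CommRing A'] [Algebra A A']
    [Module.FaithfullyFlat A A'] (M N : Type u) [AddCommGroup M] [Module A M] [AddCommGroup N]
    [Module A N] (f : A' ⊗[A] M →ₗ[A'] A' ⊗[A] N)
    (hf : ∀ m : M, LinearMap.rTensor N
        (Algebra.TensorProduct.includeLeft : A' →ₐ[A] A' ⊗[A] A').toLinearMap (f (1 ⊗ₜ[A] m)) =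
      LinearMap.rTensor N
        (Algebra.TensorProduct.includeRight : A' →ₐ[A] A' ⊗[A] A').toLinearMap (f (1 ⊗ₜ[A] m))) :
    ∃! h : M →ₗ[A] N, h.baseChange A' = f := by
  let ι : N →ₗ[A] A' ⊗[A] N := TensorProduct.mk A A' N 1
  have hι : Function.Injective ι := Module.FaithfullyFlat.tensorProduct_mk_injective N
  have hL : (TensorProduct.assoc A A' A' N).toLinearMap ∘ₗ LinearMap.rTensor N
      (Algebra.TensorProduct.includeLeft : A' →ₐ[A] A' ⊗[A] A').toLinearMap =
      LinearMap.lTensor A' ι := by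
    ext a n
    simp [ι]
  have hR : (TensorProduct.assoc A A' A' N).toLinearMap ∘ₗ LinearMap.rTensor N
      (Algebra.TensorProduct.includeRight : A' →ₐ[A] A' ⊗[A] A').toLinearMap =
      TensorProduct.mk A A' (A' ⊗[A] N) 1 := by
    ext a n
    simp
  have hmem : ∀ m : M, f (1 ⊗ₜ[A] m) ∈ LinearMap.range ι := fun m ↦ by
    refine mem_range_of_amitsur A A' N _ ?_
    have := congrArg (TensorProduct.assoc A A' A' N) (hf m)
    rw [show LinearMap.lTensor A' (TensorProduct.mk A A' N 1) = LinearMap.lTensor A' ι from rfl,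
      ← hL, ← hR]
    exact this.symm
  let g : M →ₗ[A] A' ⊗[A] N := f.restrictScalars A ∘ₗ TensorProduct.mk A A' M 1
  let h : M →ₗ[A] N :=
    (LinearEquiv.ofInjective ι hι).symm.toLinearMap ∘ₗ g.codRestrict (LinearMap.range ι) hmem
  have hh : ∀ m, ι (h m) = f (1 ⊗ₜ[A] m) := fun m ↦ by
    have := (LinearEquiv.ofInjective ι hι).apply_symm_apply (g.codRestrict (LinearMap.range ι) hmem m)
    exact congrArg Subtype.val this
  refine ⟨h, ?_, fun k hk ↦ LinearMap.ext fun m ↦ hι ?_⟩
  · ext m
    simpa [ι] using hh m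
  · rw [hh m, ← hk]
    simp [ι]

end Groth.Agent.SchDescent
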