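import Groth.Agent.SchDescent.QAQuot
import Groth.Agent.QA.Props
import Mathlib.AlgebraicGeometry.Morphisms.Descent
import Mathlib.AlgebraicGeometry.Morphisms.FlatDescent

/-! # affine morphisms descend -/

set_option backward.isDefEq.respectTransparency false

universe u

open CategoryTheory CategoryTheory.Limits AlgebraicGeometry TensorProduct

namespace Groth.Agent.SchDescent

theorem isAffine_of_flat_cover {A B : Type u} [CommRing A] [CommRing B] [Algebra A B] [Module.Flat A B]
    [Surjective (Spec.map (CommRingCat.ofHom (algebraMap A B)))] {W : Scheme.{u}}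
    [Scheme.IsQuasiAffine W] (sW : W ⟶ Spec (.of A))
    [IsAffine (pullback (Spec.map (CommRingCat.ofHom (algebraMap A B))) sW)] : IsAffine W := by
  let j := W.toSpecΓ
  have hHW : Hull j := ⟨Iso.refl _, Category.comp_id _⟩
  obtain ⟨sK, hsK⟩ := hHW.exists_fac sW
  let d : CommRingCat.of A ⟶ Γ(W, ⊤) := Spec.preimage sK
  algebraize [d.hom]
  let SB := Spec.map (CommRingCat.ofHom (algebraMap A B))
  let SK := Spec.map (CommRingCat.ofHom (algebraMap A Γ(W, ⊤)))
  have hjs : j ≫ SK = sW := by rw [show SK = sK from Spec.map_preimage sK]; exact hsK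
  let p₁ := Spec.map (CommRingCat.ofHom
    (Algebra.TensorProduct.includeLeft : B →ₐ[A] B ⊗[A] Γ(W, ⊤)).toRingHom)
  let p₂ := Spec.map (CommRingCat.ofHom
    (Algebra.TensorProduct.includeRight : Γ(W, ⊤) →ₐ[A] B ⊗[A] Γ(W, ⊤)).toRingHom)
  have H : IsPullback p₁ p₂ SB SK := by
    refine IsPullback.of_iso_pullback ⟨?_⟩ (pullbackSpecIso A B Γ(W, ⊤)).symm
      (pullbackSpecIso_inv_fst A B Γ(W, ⊤)) (pullbackSpecIso_inv_snd A B Γ(W, ⊤))
    simp only [p₁, p₂, SB, SK, ← Spec.map_comp, ← CommRingCat.ofHom_comp]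
    congr 2
    exact (Algebra.TensorProduct.includeLeft : B →ₐ[A] B ⊗[A] Γ(W, ⊤)).comp_algebraMap.trans
      (Algebra.TensorProduct.includeRight : Γ(W, ⊤) →ₐ[A] B ⊗[A] Γ(W, ⊤)).comp_algebraMap.symm
  let P := pullback SB sW
  let jP : P ⟶ Spec (.of (B ⊗[A] Γ(W, ⊤))) :=
    H.lift (pullback.fst SB sW) (pullback.snd SB sW ≫ j)
      (by rw [Category.assoc, hjs]; exact pullback.condition)
  have : QuasiSeparatedSpace W := inferInstance
  obtain ⟨e, he⟩ := hHW.baseChange j sW hjs jP (H.lift_fst _ _ _) (H.lift_snd _ _ _)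
  have hiso : IsIso jP := by rw [← he]; infer_instance
  have : Surjective p₂ := MorphismProperty.of_isPullback (P := @Surjective) H ‹_›
  have hsurj : j.opensRange = ⊤ := by
    refine eq_top_iff.mpr fun z _ ↦ ?_
    obtain ⟨x, rfl⟩ := p₂.surjective z
    obtain ⟨w, rfl⟩ := jP.surjective x
    exact ⟨pullback.snd SB sW w, congr($(H.lift_snd (pullback.fst SB sW) (pullback.snd SB sW ≫ j)
      (by rw [Category.assoc, hjs]; exact pullback.condition)) w).symm⟩
  have : IsIso j := isIso_of_isOpenImmersion_of_opensRange_eq_top j hsurj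
  exact .of_isIso j

theorem descendsAlong_isAffineHom : MorphismProperty.DescendsAlong @IsAffineHom
    (@Surjective ⊓ @Flat ⊓ @QuasiCompact : MorphismProperty Scheme.{u}) := by
  refine IsZariskiLocalAtTarget.descendsAlong_inf_quasiCompact (P := @IsAffineHom) (@Surjective ⊓ @Flat)
    (fun _ _ f hf ↦ ⟨hf.2, IsLocalIso.le_of_isZariskiLocalAtSource @Flat _ _ _ hf.1⟩) ?_
  intro R S Y φ g hφ hfst
  obtain ⟨_, _⟩ := hφ
  have hq : (@Surjective ⊓ @Flat ⊓ @QuasiCompact : MorphismProperty Scheme.{u}) (Spec.map φ) :=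
    ⟨⟨‹_›, ‹_›⟩, inferInstance⟩
  have hqa : Mor2.IsQuasiAffine g := QA.descendsAlong.of_isPullback
    (IsPullback.of_hasPullback (Spec.map φ) g) hq
    ⟨inferInstance, fun V hV ↦
      have : IsAffine V.toScheme := hV
      have : IsAffine (pullback.fst (Spec.map φ) g ⁻¹ᵁ V).toScheme := hV.preimage _
      inferInstance⟩
  have := hqa.2 ⊤ (isAffineOpen_top _)
  have : Scheme.IsQuasiAffine Y := .of_isAffineHom (Y.topIso.inv ≫
    (Y.isoOfEq (show (⊤ : Y.Opens) = g ⁻¹ᵁ ⊤ from rfl)).hom)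
  have hflat : φ.hom.Flat := (HasRingHomProperty.Spec_iff (P := @Flat)).mp ‹_›
  algebraize [φ.hom]
  have : Surjective (Spec.map (CommRingCat.ofHom (algebraMap R S))) := ‹Surjective (Spec.map φ)›
  have : IsAffine (pullback (Spec.map (CommRingCat.ofHom (algebraMap R S))) g) :=
    isAffine_of_isAffineHom (pullback.fst (Spec.map φ) g)
  have := isAffine_of_flat_cover (A := R) (B := S) g
  infer_instance

end Groth.Agent.SchDescent
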