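import Groth.Agent.SchDescent.Affine
import Mathlib.AlgebraicGeometry.Morphisms.Descent
import Mathlib.AlgebraicGeometry.Morphisms.LocalIso
import Mathlib.AlgebraicGeometry.Morphisms.Affine
import Mathlib.AlgebraicGeometry.Morphisms.FlatDescent

/-! # effective descent of a stable open which is affine over an affine open of the base -/

universe u

open CategoryTheory CategoryTheory.Limits AlgebraicGeometry

namespace Groth.Agent.SchDescent

lemma isPullback_comp_mono {W Y Y' Z Z' : Scheme.{u}} {fst : W ⟶ Y} {snd : W ⟶ Y'} {l : Y ⟶ Z'}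
    {r : Y' ⟶ Z'} (j : Z' ⟶ Z) [Mono j] (H : IsPullback fst snd l r) :
    IsPullback fst snd (l ≫ j) (r ≫ j) := by
  refine IsPullback.of_isLimit (PullbackCone.IsLimit.mk (by rw [H.w_assoc])
    (fun c ↦ H.lift c.fst c.snd ((cancel_mono j).mp (by simp only [Category.assoc]; exact c.condition)))
    (fun c ↦ H.lift_fst _ _ _)
    (fun c ↦ H.lift_snd _ _ _) fun c m h₁ h₂ ↦ H.hom_ext (h₁.trans (H.lift_fst _ _ _).symm)
      (h₂.trans (H.lift_snd _ _ _).symm))

variable {X S : Scheme.{u}} {p : X ⟶ S} {D : Desc.SchDD p}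

set_option backward.isDefEq.respectTransparency.types false in
/-- A stable open which is affine over the inverse image of an affine open of the base descends. -/
theorem exists_isDescent_of_affineOpen [Surjective p] [Flat p] [QuasiCompact p]
    {V : D.obj.left.Opens} (hV : IsStableOpen D V) {U0 : S.Opens} (hU : IsAffineOpen U0)
    (l : V.toScheme ⟶ pullback hU.fromSpec p)
    (hl : l ≫ pullback.snd hU.fromSpec p = V.ι ≫ D.obj.hom) [IsAffineHom l] :
    ∃ (U : Over S) (π : V.toScheme ⟶ U.left), IsDescent D V U π := by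
  let s := hU.fromSpec
  have : CompactSpace (pullback s p : Scheme.{u}) :=
    QuasiCompact.compactSpace_of_compactSpace (pullback.fst s p)
  have : MorphismProperty.ContainsIdentities (@IsLocalIso : MorphismProperty Scheme.{u}) :=
    IsLocalIso.instIsMultiplicativeScheme.toContainsIdentities
  have : MorphismProperty.ContainsIdentities (@Flat : MorphismProperty Scheme.{u}) :=
    Flat.instIsMultiplicativeScheme.toContainsIdentities
  have : MorphismProperty.ContainsIdentities
      (@LocallyOfFinitePresentation : MorphismProperty Scheme.{u}) :=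
    ⟨fun T ↦ (inferInstance : LocallyOfFinitePresentation (𝟙 T))⟩
  obtain ⟨Y, q, hq₁, hq₂, hY⟩ :=
    (pullback s p).exists_hom_isAffine_of_isZariskiLocalAtSource (@IsLocalIso : MorphismProperty Scheme.{u})
  let g' : Spec (.of Γ(Y, ⊤)) ⟶ pullback s p := Y.isoSpec.inv ≫ q
  have hloc : IsLocalIso g' :=
    MorphismProperty.RespectsIso.precomp (P := @IsLocalIso) Y.isoSpec.inv q hq₂
  have : Surjective g' := MorphismProperty.RespectsIso.precomp (P := @Surjective) Y.isoSpec.inv q hq₁
  have : Flat g' := IsLocalIso.le_of_isZariskiLocalAtSource @Flat _ _ _ hloc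
  have : LocallyOfFinitePresentation g' :=
    IsLocalIso.le_of_isZariskiLocalAtSource @LocallyOfFinitePresentation _ _ _ hloc
  have hg : Presieve.singleton g' ∈ Scheme.fpqcPrecoverage (pullback s p) :=
    Scheme.fppfPrecoverage_le_fpqcPrecoverage _ g'.singleton_mem_fppfPrecoverage
  let φ : Γ(S, U0) ⟶ Γ(Y, ⊤) := Spec.preimage (g' ≫ pullback.fst s p)
  have hφ : Spec.map φ = g' ≫ pullback.fst s p := Spec.map_preimage _
  have hflat : φ.hom.Flat := by
    have : Flat (Spec.map φ) := by rw [hφ]; infer_instance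
    exact (HasRingHomProperty.Spec_iff (P := @Flat)).mp this
  let W := pullback l g'
  have : IsAffine W := isAffine_of_isAffineHom (pullback.snd l g')
  let a : Spec (.of Γ(W, ⊤)) ⟶ V.toScheme := W.isoSpec.inv ≫ pullback.fst l g'
  let d : Γ(Y, ⊤) ⟶ Γ(W, ⊤) := Spec.preimage (W.isoSpec.inv ≫ pullback.snd l g')
  have hd : Spec.map d = W.isoSpec.inv ≫ pullback.snd l g' := Spec.map_preimage _
  algebraize [φ.hom, d.hom.comp φ.hom]
  let δ : Γ(Y, ⊤) →ₐ[Γ(S, U0)] Γ(W, ⊤) := { d.hom with commutes' := fun _ ↦ rfl }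
  refine exists_isDescent_of_affine hV δ s g' hg hφ.symm l hl a ?_
  have h1 : IsPullback a (W.isoSpec.inv ≫ pullback.snd l g') l g' :=
    (IsPullback.of_hasPullback l g').of_iso W.isoSpec (Iso.refl _) (Iso.refl _) (Iso.refl _)
      (by simp [a]) (by simp) (by simp) (by simp)
  have h2 := isPullback_comp_mono (pullback.snd s p) h1
  rw [← hd, hl] at h2
  exact h2

end Groth.Agent.SchDescent
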