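import Groth.Agent.SchDescent.SheafDesc
import Groth.Agent.SchDescent.AffineDesc
import Groth.Agent.SchDescent.AffineOpen
import Groth.Agent.QA.IndQA

/-! # descent of fppf sheaves represented by affine schemes over a cover -/

set_option backward.isDefEq.respectTransparency false

universe u

open CategoryTheory CategoryTheory.Limits AlgebraicGeometry TopologicalSpace

namespace Groth.Agent.SchDescent.SheafDesc

theorem isAffineHom_sigmaMap {m : ℕ} {A B : Fin m → Scheme.{u}} (q : ∀ j, A j ⟶ B j)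
    (h : ∀ j, IsAffineHom (q j)) : IsAffineHom (Limits.Sigma.map q) :=
  (IsZariskiLocalAtTarget.iff_of_openCover (P := @IsAffineHom) (sigmaOpenCover B)).mpr fun j ↦ by
    show IsAffineHom (pullback.snd (Limits.Sigma.map q) (Sigma.ι B j))
    rw [← (QA.IndQA.isPullback_sigmaMap q j).isoPullback_inv_snd]
    have := h j
    infer_instance

variable {X S : Scheme.{u}} (f : X ⟶ S) [Flat f] [Surjective f] [LocallyOfFinitePresentation f]

theorem effective_fppf (D : Desc.SchDD f) [IsAffineHom D.obj.hom] :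
    ∃ U : Over S, IsAffineHom U.hom ∧ Nonempty ((Desc.toDD f).obj U ≅ D) := by
  have hp : Presieve.ofArrows (fun _ : PUnit.{u + 1} ↦ X) (fun _ ↦ f) ∈ Scheme.fpqcPrecoverage S := by
    rw [Presieve.ofArrows_pUnit]
    exact Scheme.fppfPrecoverage_le_fpqcPrecoverage _ f.singleton_mem_fppfPrecoverage
  obtain ⟨U, ⟨e'⟩⟩ := effective_of_family (u' := fun _ : PUnit.{u + 1} ↦ f) @IsAffineHom
    (fun _ _ _ q h ↦ isAffineHom_sigmaMap q h)
    (fun X' S' p _ _ _ _ D' h ↦ have : IsAffineHom D'.obj.hom := h; effective_of_isAffineHom D')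
    hp ((Desc.SchDDFam.ofSchDD f).obj D) (fun _ ↦ ‹IsAffineHom D.obj.hom›)
  let e : (Desc.toDD f).obj U ≅ D := (Desc.SchDDFam.toSchDD f).mapIso e'
  refine ⟨U, ?_, ⟨e⟩⟩
  let el : pullback f U.hom ⟶ D.obj.left := Over.Hom.left (Desc.SchDD.Hom.hom e.hom)
  have : IsIso el := ⟨Over.Hom.left (Desc.SchDD.Hom.hom e.inv), congrArg
    (fun k : (Desc.toDD f).obj U ⟶ (Desc.toDD f).obj U ↦ k.hom.left) e.hom_inv_id,
    congrArg (fun k : D ⟶ D ↦ k.hom.left) e.inv_hom_id⟩
  have hfst : IsAffineHom (pullback.fst f U.hom) := by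
    rw [← show el ≫ D.obj.hom = pullback.fst f U.hom from Over.w e.hom.hom]
    infer_instance
  have key : ∀ y : S, ∃ V : S.Opens, y ∈ V ∧ IsAffineHom (U.hom ∣_ V) := fun y ↦ by
    obtain ⟨x, rfl⟩ := f.surjective y
    obtain ⟨V₀, hV₀, hy, -⟩ := exists_isAffineOpen_mem_and_subset (U := ⊤)
      (show f x ∈ (⊤ : S.Opens) from trivial)
    obtain ⟨W, hW, hx, hWV⟩ := exists_isAffineOpen_mem_and_subset (U := f ⁻¹ᵁ V₀) (show x ∈ f ⁻¹ᵁ V₀ from hy)
    let V : S.Opens := ⟨f '' W, f.isOpenMap W W.2⟩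
    have hVV : V ≤ V₀ := by rintro _ ⟨z, hz, rfl⟩; exact hWV hz
    refine ⟨V, ⟨x, hx, rfl⟩, ?_⟩
    let r : W.toScheme ⟶ V.toScheme := IsOpenImmersion.lift V.ι (W.ι ≫ f) (by
      rw [Scheme.Opens.range_ι]; rintro _ ⟨z, rfl⟩; exact ⟨z.1, z.2, rfl⟩)
    have hr : r ≫ V.ι = W.ι ≫ f := IsOpenImmersion.lift_fac _ _ _
    have : IsAffine W.toScheme := hW
    have : IsAffine V₀.toScheme := hV₀
    have : QuasiCompact (r ≫ S.homOfLE hVV) := inferInstance
    have : QuasiCompact r := QuasiCompact.of_comp r (S.homOfLE hVV)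
    have : Surjective r := ⟨fun z ↦ by
      obtain ⟨w, hw, hwz⟩ := z.2
      exact ⟨⟨w, hw⟩, V.ι.injective ((congr($hr ⟨w, hw⟩)).trans hwz)⟩⟩
    have : Flat r := by
      have : Flat (r ≫ V.ι) := by rw [hr]; infer_instance
      exact MorphismProperty.of_isPullback (P := @Flat)
        (IsOpenImmersion.isPullback r (𝟙 W.toScheme) V.ι (r ≫ V.ι) (by simp) (by
          ext z
          simp)).flip this
    let b : pullback r (U.hom ∣_ V) ⟶ pullback f U.hom := pullback.lift (pullback.fst _ _ ≫ W.ι)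
      (pullback.snd _ _ ≫ (U.hom ⁻¹ᵁ V).ι)
      (by rw [Category.assoc, ← hr, pullback.condition_assoc, morphismRestrict_ι, Category.assoc])
    have hb : IsPullback b (pullback.fst r (U.hom ∣_ V)) (pullback.fst f U.hom) W.ι := by
      refine IsPullback.of_right ?_ (pullback.lift_fst _ _ _) (IsPullback.of_hasPullback f U.hom).flip
      rw [pullback.lift_snd, ← hr]
      exact (IsPullback.of_hasPullback r (U.hom ∣_ V)).flip.paste_horiz (isPullback_morphismRestrict U.hom V).flip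
    exact descendsAlong_isAffineHom.of_isPullback (IsPullback.of_hasPullback r (U.hom ∣_ V))
      ⟨⟨‹_›, ‹_›⟩, ‹_›⟩ (MorphismProperty.of_isPullback hb hfst)
  choose V hV hA using key
  exact IsZariskiLocalAtTarget.of_iSup_eq_top V
    (eq_top_iff.mpr fun y _ ↦ Opens.mem_iSup.mpr ⟨y, hV y⟩) hA

end Groth.Agent.SchDescent.SheafDesc
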