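import Groth.Agent.SchDescent.IsDesc
import Mathlib.AlgebraicGeometry.Pullbacks

/-! # quotient of an action from effectivity of the associated descent datum -/

universe u

open CategoryTheory CategoryTheory.Limits AlgebraicGeometry

namespace Groth.Agent.SchDescent

variable {A T E : Scheme.{u}} {SB : T ⟶ A} {q : E ⟶ T} (σ : pullback SB (q ≫ SB) ⟶ E)

/-- the transport of points given by an action -/
noncomputable def moveHom (hσ : σ ≫ q = pullback.fst SB (q ≫ SB)) {T' : Scheme.{u}}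
    (x₀ x₁ : T' ⟶ T) (h : x₀ ≫ SB = x₁ ≫ SB) (v : Desc.Lifts (Over.mk q) x₀) :
    Desc.Lifts (Over.mk q) x₁ :=
  ⟨pullback.lift x₁ v.1 (by
      have hv : v.1 ≫ q = x₀ := v.2
      exact h.symm.trans ((congrArg (· ≫ SB) hv).symm.trans (Category.assoc _ _ _))) ≫ σ, by
    show (_ ≫ σ) ≫ q = x₁
    rw [Category.assoc, hσ, pullback.lift_fst]⟩

/-- the descent datum attached to an action -/
noncomputable def ofAction (hσ : σ ≫ q = pullback.fst SB (q ≫ SB))
    (h1 : ∀ {T' : Scheme.{u}} (z : T' ⟶ E) (h : (z ≫ q) ≫ SB = z ≫ q ≫ SB),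
      pullback.lift (z ≫ q) z h ≫ σ = z)
    (h2 : ∀ {T' : Scheme.{u}} (b b' : T' ⟶ T) (z : T' ⟶ E) (h₁ : b ≫ SB = z ≫ q ≫ SB)
      (h₂ : b' ≫ SB = (pullback.lift b z h₁ ≫ σ) ≫ q ≫ SB) (h₃ : b' ≫ SB = z ≫ q ≫ SB),
      pullback.lift b' (pullback.lift b z h₁ ≫ σ) h₂ ≫ σ = pullback.lift b' z h₃ ≫ σ) :
    Desc.SchDD SB where
  obj := Over.mk q
  φ T' x₀ x₁ h :=
    { toFun := moveHom σ hσ x₀ x₁ h
      invFun := moveHom σ hσ x₁ x₀ h.symm
      left_inv := fun ⟨v, hv⟩ ↦ by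
        change T' ⟶ E at v
        change v ≫ q = x₀ at hv
        subst hv
        exact Subtype.ext ((h2 x₁ (v ≫ q) v _ _ (Category.assoc _ _ _)).trans (h1 v _))
      right_inv := fun ⟨v, hv⟩ ↦ by
        change T' ⟶ E at v
        change v ≫ q = x₁ at hv
        subst hv
        exact Subtype.ext ((h2 x₀ (v ≫ q) v _ _ (Category.assoc _ _ _)).trans (h1 v _)) }
  φ_natural T' T'' g x₀ x₁ h h' v v' hv' := by
    show pullback.lift (g ≫ x₁) v'.1 _ ≫ σ = g ≫ pullback.lift x₁ v.1 _ ≫ σ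
    rw [← Category.assoc g]
    congr 1
    apply pullback.hom_ext
    · rw [pullback.lift_fst, Category.assoc, pullback.lift_fst]
    · rw [pullback.lift_snd, Category.assoc, pullback.lift_snd, hv']
  φ_self T' x v := by
    obtain ⟨v, hv⟩ := v
    change T' ⟶ E at v
    change v ≫ q = x at hv
    subst hv
    exact Subtype.ext (h1 v _)
  φ_comp T' x₀ x₁ x₂ h h' v := Subtype.ext (h2 x₁ x₂ v.1 _ _ _)

/-- the quotient from effectivity of the datum of the action -/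
theorem exists_quotient_of_effective (hσ : σ ≫ q = pullback.fst SB (q ≫ SB))
    (h1 : ∀ {T' : Scheme.{u}} (z : T' ⟶ E) (h : (z ≫ q) ≫ SB = z ≫ q ≫ SB),
      pullback.lift (z ≫ q) z h ≫ σ = z)
    (h2 : ∀ {T' : Scheme.{u}} (b b' : T' ⟶ T) (z : T' ⟶ E) (h₁ : b ≫ SB = z ≫ q ≫ SB)
      (h₂ : b' ≫ SB = (pullback.lift b z h₁ ≫ σ) ≫ q ≫ SB) (h₃ : b' ≫ SB = z ≫ q ≫ SB),
      pullback.lift b' (pullback.lift b z h₁ ≫ σ) h₂ ≫ σ = pullback.lift b' z h₃ ≫ σ)
    (heff : ∃ U : Over A, Nonempty ((Desc.toDD SB).obj U ≅ ofAction σ hσ h1 h2)) :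
    ∃ (UA : Scheme.{u}) (SC : UA ⟶ A) (π : E ⟶ UA),
      IsPullback q π SB SC ∧ σ ≫ π = pullback.snd SB (q ≫ SB) ≫ π := by
  obtain ⟨U, ⟨i⟩⟩ := heff
  have : IsIso i.hom.hom := ⟨i.inv.hom, congrArg (fun f ↦ Desc.SchDD.Hom.hom f) i.hom_inv_id,
    congrArg (fun f ↦ Desc.SchDD.Hom.hom f) i.inv_hom_id⟩
  let e : pullback SB U.hom ⟶ E := i.hom.hom.left
  have hiso : IsIso e := inferInstanceAs (IsIso ((Over.forget _).map i.hom.hom))
  have he : e ≫ q = pullback.fst SB U.hom := Over.w i.hom.hom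
  have he' : inv e ≫ pullback.fst SB U.hom = q := by rw [← he, IsIso.inv_hom_id_assoc]
  refine ⟨U.left, U.hom, inv e ≫ pullback.snd SB U.hom, ?_, ?_⟩
  · exact (IsPullback.of_hasPullback SB U.hom).of_iso (asIso e) (Iso.refl _) (Iso.refl _)
      (Iso.refl _) (by simp [he]) (by simp) (by simp) (by simp)
  · let x₀ := pullback.snd SB (q ≫ SB) ≫ q
    let x₁ := pullback.fst SB (q ≫ SB)
    have hx : x₀ ≫ SB = x₁ ≫ SB := by
      simp only [x₀, x₁, Category.assoc, pullback.condition]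
    let ei : E ⟶ pullback SB U.hom := inv e
    let v : Desc.Lifts ((Desc.toDD SB).obj U).obj x₀ :=
      ⟨pullback.snd SB (q ≫ SB) ≫ ei, by
        show (_ ≫ ei) ≫ pullback.fst SB U.hom = _
        rw [Category.assoc, he']⟩
    let w : Desc.Lifts (Over.mk q) x₀ := ⟨pullback.snd SB (q ≫ SB), rfl⟩
    have key := i.hom.comm x₀ x₁ hx v w (by
      show pullback.snd SB (q ≫ SB) = (pullback.snd SB (q ≫ SB) ≫ ei) ≫ e
      rw [Category.assoc, IsIso.inv_hom_id, Category.comp_id])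
    have hw : (moveHom σ hσ x₀ x₁ hx w).1 = σ := by
      show pullback.lift x₁ (pullback.snd SB (q ≫ SB)) _ ≫ σ = σ
      rw [show pullback.lift x₁ (pullback.snd SB (q ≫ SB)) _ = 𝟙 _ from
        pullback.hom_ext (by rw [pullback.lift_fst, Category.id_comp])
          (by rw [pullback.lift_snd, Category.id_comp]), Category.id_comp]
    have key' : σ = (((Desc.toDD SB).obj U).φ x₀ x₁ hx v).1 ≫ e := hw.symm.trans key
    have hsnd : (((Desc.toDD SB).obj U).φ x₀ x₁ hx v).1 ≫ pullback.snd SB U.hom =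
        v.1 ≫ pullback.snd SB U.hom := pullback.lift_snd _ _ _
    conv_lhs => rw [key']
    refine ((Category.assoc _ _ _).trans (congrArg (_ ≫ ·) (IsIso.hom_inv_id_assoc e _))).trans
      (hsnd.trans ?_)
    exact Category.assoc (pullback.snd SB (q ≫ SB)) ei (pullback.snd SB U.hom)

end Groth.Agent.SchDescent
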