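import Groth.Agent.SchDescent.Effective

/-! # effective descent when the covering morphism has sections locally on the base -/

set_option backward.isDefEq.respectTransparency false

universe u

open CategoryTheory CategoryTheory.Limits AlgebraicGeometry TopologicalSpace

namespace Groth.Agent.SchDescent

variable {X S : Scheme.{u}} {p : X ⟶ S}

theorem effective_of_locally_section [Fact (Presieve.singleton p ∈ Scheme.fpqcPrecoverage S)]
    (D : Desc.SchDD p)
    (H : ∀ y : S, ∃ (U0 : S.Opens) (s : U0.toScheme ⟶ X), y ∈ U0 ∧ s ≫ p = U0.ι) :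
    ∃ U : Over S, Nonempty ((Desc.toDD p).obj U ≅ D) := by
  refine effective_of_good_cover D fun z ↦ ?_
  obtain ⟨U0, s, hy, hs⟩ := H (p (D.obj.hom z))
  let V := D.obj.hom ⁻¹ᵁ (p ⁻¹ᵁ U0)
  refine ⟨⟨V, isStableOpen_preimage D U0, ?_⟩, hy⟩
  let r : V.toScheme ⟶ U0.toScheme := IsOpenImmersion.lift U0.ι (V.ι ≫ D.obj.hom ≫ p) (by
    rw [Scheme.Opens.range_ι]; rintro _ ⟨v, rfl⟩; exact v.2)
  have hr : r ≫ U0.ι = V.ι ≫ D.obj.hom ≫ p := IsOpenImmersion.lift_fac _ _ _
  have h01 : (V.ι ≫ D.obj.hom) ≫ p = (r ≫ s) ≫ p := by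
    rw [Category.assoc, Category.assoc, hs, hr]
  let m := D.φ (V.ι ≫ D.obj.hom) (r ≫ s) h01 ⟨V.ι, rfl⟩
  let π : V.toScheme ⟶ pullback D.obj.hom s := pullback.lift m.1 r m.2
  have hnat : ∀ {T : Scheme.{u}} (v : T ⟶ V.toScheme),
      v ≫ m.1 = (D.φ ((v ≫ V.ι) ≫ D.obj.hom) ((v ≫ r) ≫ s)
        (by simp only [Category.assoc, hs, hr]) ⟨v ≫ V.ι, rfl⟩).1 := fun v ↦
    (comp_phi v _ _ h01 V.ι rfl).trans
      (phi_congr (Category.assoc _ _ _).symm (Category.assoc _ _ _).symm _ _ _ _ rfl)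
  refine ⟨Over.mk (pullback.snd D.obj.hom s ≫ U0.ι), π, ?_, ?_⟩
  · have hh : ∀ (c : PullbackCone (pullback.snd D.obj.hom s ≫ U0.ι) p),
        ((c.fst ≫ pullback.snd D.obj.hom s) ≫ s) ≫ p = c.snd ≫ p := fun c ↦ by
      refine Eq.trans ?_ c.condition
      simp only [Category.assoc, hs]
    let k : ∀ (c : PullbackCone (pullback.snd D.obj.hom s ≫ U0.ι) p), Desc.Lifts D.obj c.snd :=
      fun c ↦ D.φ _ _ (hh c)
        ⟨c.fst ≫ pullback.fst D.obj.hom s, by rw [Category.assoc, pullback.condition, Category.assoc]⟩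
    have hk : ∀ c, Set.range (k c).1 ⊆ Set.range V.ι := fun c ↦ by
      rw [Scheme.Opens.range_ι]
      rintro _ ⟨t, rfl⟩
      change p (D.obj.hom _) ∈ U0
      have e1 : ((k c).1 ≫ D.obj.hom) ≫ p = (c.fst ≫ pullback.snd D.obj.hom s) ≫ U0.ι := by
        rw [(k c).2]
        exact c.condition.symm.trans (Category.assoc _ _ _).symm
      rw [show p (D.obj.hom ((k c).1 t)) = U0.ι ((c.fst ≫ pullback.snd D.obj.hom s) t) from congr($e1 t)]
      exact ((c.fst ≫ pullback.snd D.obj.hom s) t).2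
    refine IsPullback.of_isLimit' ⟨by
      change π ≫ pullback.snd _ _ ≫ U0.ι = (V.ι ≫ D.obj.hom) ≫ p
      rw [pullback.lift_snd_assoc, hr, Category.assoc]⟩
      (PullbackCone.IsLimit.mk _ (fun c ↦ IsOpenImmersion.lift V.ι (k c).1 (hk c)) ?_ ?_ ?_)
    · intro c
      let l := IsOpenImmersion.lift V.ι (k c).1 (hk c)
      have hlι : l ≫ V.ι = (k c).1 := IsOpenImmersion.lift_fac _ _ _
      have hl2 : (l ≫ V.ι) ≫ D.obj.hom = c.snd := by rw [hlι]; exact (k c).2
      have hlr : l ≫ r = c.fst ≫ pullback.snd D.obj.hom s := by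
        rw [← cancel_mono U0.ι, Category.assoc, hr, ← reassoc_of% hl2.symm]
        exact c.condition.symm.trans (Category.assoc _ _ _).symm
      change l ≫ π = c.fst
      apply pullback.hom_ext
      · rw [Category.assoc, pullback.lift_fst, hnat]
        refine (phi_congr hl2 (congrArg (· ≫ s) hlr) _ _ _ _ hlι).trans ?_
        exact (congrArg Subtype.val (D.φ_comp _ _ _ (hh c) (hh c).symm _)).trans
          (congrArg Subtype.val (D.φ_self _ _))
      · rw [Category.assoc, pullback.lift_snd, hlr]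
    · intro c
      exact (IsOpenImmersion.lift_fac_assoc _ _ _ _).trans (k c).2
    · intro c l h1 h2
      change l ≫ π = c.fst at h1
      rw [← cancel_mono V.ι, IsOpenImmersion.lift_fac]
      have hlr : l ≫ r = c.fst ≫ pullback.snd D.obj.hom s := by rw [← h1, Category.assoc, pullback.lift_snd]
      have hh' : ((l ≫ V.ι) ≫ D.obj.hom) ≫ p = ((l ≫ r) ≫ s) ≫ p := by
        simp only [Category.assoc, hs, hr]
      have hm : c.fst ≫ pullback.fst D.obj.hom s = (D.φ _ _ hh' ⟨l ≫ V.ι, rfl⟩).1 := by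
        rw [← hnat l, ← h1, Category.assoc, pullback.lift_fst]
      symm
      refine (phi_congr (congrArg (· ≫ s) hlr.symm) ((Category.assoc _ _ _).trans h2).symm _ _ _ _ hm).trans ?_
      exact (congrArg Subtype.val (D.φ_comp _ _ _ hh' hh'.symm _)).trans (congrArg Subtype.val (D.φ_self _ _))
  · intro T x₀ x₁ h v v' hv hv'
    have hvr : v ≫ r = v' ≫ r := by
      have hx1 : (v' ≫ V.ι) ≫ D.obj.hom = x₁ := by rw [hv']; exact (D.φ x₀ x₁ h ⟨v ≫ V.ι, hv⟩).2
      have := h
      rw [← hv, ← hx1] at this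
      rw [← cancel_mono U0.ι, Category.assoc, Category.assoc, hr]
      simpa only [Category.assoc] using this
    apply pullback.hom_ext
    · rw [Category.assoc, Category.assoc, pullback.lift_fst, hnat, hnat]
      have hx1 : (v' ≫ V.ι) ≫ D.obj.hom = x₁ := by rw [hv']; exact (D.φ x₀ x₁ h ⟨v ≫ V.ι, hv⟩).2
      refine Eq.trans ?_ (phi_congr hx1.symm (congrArg (· ≫ s) hvr) (by
        rw [Category.assoc (v ≫ r), hs, hvr, Category.assoc, hr, ← hx1]; simp only [Category.assoc]) _ (D.φ x₀ x₁ h ⟨v ≫ V.ι, hv⟩).2 _ hv'.symm)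
      exact (phi_congr hv rfl _ _ _ _ rfl).trans (congrArg Subtype.val (D.φ_comp x₀ x₁ _ h _ _)).symm
    · rw [Category.assoc, Category.assoc, pullback.lift_snd, hvr]

end Groth.Agent.SchDescent
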