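import Groth.Agent.SchDescent.StableOpen
import Groth.Agent.SchDescent.IndQAEff
import Mathlib.AlgebraicGeometry.Morphisms.Finite
import Mathlib.AlgebraicGeometry.Morphisms.Proper

/-! # effective descent when finite orbits lie in affine opens -/

set_option backward.isDefEq.respectTransparency false

universe u

open CategoryTheory CategoryTheory.Limits AlgebraicGeometry TopologicalSpace

namespace Groth.Agent.SchDescent

variable {X S : Scheme.{u}} {p : X ⟶ S} {D : Desc.SchDD p}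

/-- the map on points of a stable open -/
noncomputable def restrictMap {V : D.obj.left.Opens} (hV : IsStableOpen D V) {T : Scheme.{u}}
    (x₀ x₁ : T ⟶ X) (h : x₀ ≫ p = x₁ ≫ p) (v : Desc.Lifts (Over.mk (V.ι ≫ D.obj.hom)) x₀) :
    Desc.Lifts (Over.mk (V.ι ≫ D.obj.hom)) x₁ :=
  ⟨IsOpenImmersion.lift V.ι (D.φ x₀ x₁ h ⟨v.1 ≫ V.ι, (Category.assoc _ _ _).trans v.2⟩).1 (by
      refine (hV x₀ x₁ h _ ?_).trans (Scheme.Opens.range_ι V).superset
      rintro _ ⟨t, rfl⟩
      exact (v.1 t).2),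
    (IsOpenImmersion.lift_fac_assoc _ _ _ _).trans (D.φ x₀ x₁ h _).2⟩

lemma restrictMap_ι {V : D.obj.left.Opens} (hV : IsStableOpen D V) {T : Scheme.{u}}
    (x₀ x₁ : T ⟶ X) (h : x₀ ≫ p = x₁ ≫ p) (v : Desc.Lifts (Over.mk (V.ι ≫ D.obj.hom)) x₀) :
    (restrictMap hV x₀ x₁ h v).1 ≫ V.ι =
      (D.φ x₀ x₁ h ⟨v.1 ≫ V.ι, (Category.assoc _ _ _).trans v.2⟩).1 :=
  IsOpenImmersion.lift_fac _ _ _

/-- the datum on a stable open -/
noncomputable def restrict (V : D.obj.left.Opens) (hV : IsStableOpen D V) : Desc.SchDD p where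
  obj := Over.mk (V.ι ≫ D.obj.hom)
  φ T x₀ x₁ h :=
    { toFun := restrictMap hV x₀ x₁ h
      invFun := restrictMap hV x₁ x₀ h.symm
      left_inv := fun v ↦ by
        apply Subtype.ext
        refine (cancel_mono V.ι).mp ((restrictMap_ι hV _ _ _ _).trans ?_)
        refine (phi_congr rfl rfl _ _ _ _ (restrictMap_ι hV _ _ _ _)).trans ?_
        exact (congrArg Subtype.val (D.φ_comp x₀ x₁ x₀ h h.symm _)).trans
          (congrArg Subtype.val (D.φ_self x₀ _))
      right_inv := fun v ↦ by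
        apply Subtype.ext
        refine (cancel_mono V.ι).mp ((restrictMap_ι hV _ _ _ _).trans ?_)
        refine (phi_congr rfl rfl _ _ _ _ (restrictMap_ι hV _ _ _ _)).trans ?_
        exact (congrArg Subtype.val (D.φ_comp x₁ x₀ x₁ h.symm h _)).trans
          (congrArg Subtype.val (D.φ_self x₁ _)) }
  φ_natural T T' g x₀ x₁ h h' v v' hv' := by
    show (restrictMap hV _ _ _ v').1 = g ≫ (restrictMap hV _ _ _ v).1
    refine (cancel_mono V.ι).mp ((restrictMap_ι hV _ _ _ _).trans ?_)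
    refine Eq.trans ?_ ((congrArg (g ≫ ·) (restrictMap_ι hV x₀ x₁ h v)).symm.trans
      (Category.assoc _ _ _).symm)
    exact D.φ_natural g x₀ x₁ h h' _ _ ((congrArg (· ≫ V.ι) hv').trans (Category.assoc _ _ _))
  φ_self T x v := by
    apply Subtype.ext
    refine (cancel_mono V.ι).mp ((restrictMap_ι hV _ _ _ _).trans ?_)
    exact congrArg Subtype.val (D.φ_self x _)
  φ_comp T x₀ x₁ x₂ h₀₁ h₁₂ v := by
    apply Subtype.ext
    refine (cancel_mono V.ι).mp ((restrictMap_ι hV x₁ x₂ h₁₂ (restrictMap hV x₀ x₁ h₀₁ v)).trans ?_)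
    refine Eq.trans ?_ (restrictMap_ι hV x₀ x₂ (h₀₁.trans h₁₂) v).symm
    exact (phi_congr rfl rfl h₁₂ _ _ _ (restrictMap_ι hV x₀ x₁ h₀₁ v)).trans
      (congrArg Subtype.val (D.φ_comp x₀ x₁ x₂ h₀₁ h₁₂ _))

/-- the inclusion of the restricted datum -/
noncomputable def restrictHom (V : D.obj.left.Opens) (hV : IsStableOpen D V) : restrict V hV ⟶ D :=
  ⟨Over.homMk V.ι rfl, fun T x₀ x₁ h v w hw ↦ by
    refine Eq.trans ?_ (restrictMap_ι hV x₀ x₁ h v).symm
    exact phi_congr rfl rfl h _ _ _ hw⟩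

/-- effectivity from a cover by stable ind-quasi-affine opens -/
theorem effective_of_stable_indQA_cover [Surjective p] [Flat p] [QuasiCompact p]
    (H : ∀ z : D.obj.left, ∃ V : D.obj.left.Opens, z ∈ V ∧ IsStableOpen D V ∧
      MoreMor.IsIndQuasiAffine V.toScheme) :
    ∃ U : Over S, Nonempty ((Desc.toDD p).obj U ≅ D) := by
  refine effective_of_effective_cover D fun z ↦ ?_
  obtain ⟨V, hz, hV, hqa⟩ := H z
  refine ⟨restrict V hV, restrictHom V hV, inferInstanceAs (IsOpenImmersion V.ι),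
    ⟨⟨z, hz⟩, rfl⟩, ?_⟩
  have hp : Presieve.ofArrows (fun _ : PUnit.{u + 1} ↦ X) (fun _ ↦ p) ∈ Scheme.fpqcPrecoverage S := by
    rw [Presieve.ofArrows_pUnit]
    exact singleton_mem_fpqc
  obtain ⟨U, ⟨e⟩⟩ := effective_of_indQA (fun _ : PUnit.{u + 1} ↦ p) hp
    ((Desc.SchDDFam.ofSchDD p).obj (restrict V hV)) (fun _ ↦ QA.IndQA.hom_of_source hqa)
  exact ⟨U, ⟨(Desc.SchDDFam.toSchDD p).mapIso e⟩⟩

variable (D) in
lemma isClosedMap_move [UniversallyClosed p] :
    IsClosedMap (tr D (pullback.fst p (D.obj.hom ≫ p)) (pullback.snd p (D.obj.hom ≫ p))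
      (by rw [Category.assoc, pullback.condition])).base := by
  let fst := pullback.fst p (D.obj.hom ≫ p)
  let snd := pullback.snd p (D.obj.hom ≫ p)
  have h0 : (snd ≫ D.obj.hom) ≫ p = fst ≫ p := by rw [Category.assoc, pullback.condition]
  let σ := tr D fst snd h0
  have hσ : σ ≫ D.obj.hom = fst := tr_over D _ _ _
  let inv : pullback p (D.obj.hom ≫ p) ⟶ pullback p (D.obj.hom ≫ p) :=
    pullback.lift (snd ≫ D.obj.hom) σ (by rw [reassoc_of% hσ, h0])
  have hi₁ : inv ≫ fst = snd ≫ D.obj.hom := pullback.lift_fst _ _ _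
  have hi₂ : inv ≫ snd = σ := pullback.lift_snd _ _ _
  have hb : (σ ≫ D.obj.hom) ≫ p = (snd ≫ D.obj.hom) ≫ p := by rw [hσ, h0]
  have hii : inv ≫ inv = 𝟙 _ := by
    apply pullback.hom_ext
    · rw [Category.assoc, hi₁, reassoc_of% hi₂, hσ, Category.id_comp]
    · rw [Category.assoc, hi₂, Category.id_comp,
        comp_tr D inv hi₁ hi₂ (h' := hb), tr_tr, tr_self D rfl]
  have : IsIso inv := ⟨inv, hii, hii⟩
  have : UniversallyClosed σ := by rw [← hi₂]; infer_instance
  exact σ.isClosedMap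

theorem exists_stable_indQA_of_orbit [UniversallyClosed p] {O : D.obj.left.Opens} (hO : IsAffineOpen O)
    (e : D.obj.left) (he : ∀ r : ↑(pullback p (D.obj.hom ≫ p)),
      pullback.snd p (D.obj.hom ≫ p) r = e →
        tr D (pullback.fst p (D.obj.hom ≫ p)) (pullback.snd p (D.obj.hom ≫ p))
          (by rw [Category.assoc, pullback.condition]) r ∈ O) :
    ∃ V : D.obj.left.Opens, e ∈ V ∧ IsStableOpen D V ∧ MoreMor.IsIndQuasiAffine V.toScheme := by
  let fst := pullback.fst p (D.obj.hom ≫ p)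
  let snd := pullback.snd p (D.obj.hom ≫ p)
  have h0 : (snd ≫ D.obj.hom) ≫ p = fst ≫ p := by rw [Category.assoc, pullback.condition]
  let σ := tr D fst snd h0
  let C : Set D.obj.left := snd '' (σ ⁻¹' (O : Set D.obj.left)ᶜ)
  have hC : IsClosed C := snd.isClosedMap _ (O.2.isClosed_compl.preimage σ.continuous)
  let V : D.obj.left.Opens := ⟨Cᶜ, hC.isOpen_compl⟩
  have hVO : V ≤ O := fun z hz ↦ by
    by_contra hn
    refine hz ?_
    let Δ : D.obj.left ⟶ pullback p (D.obj.hom ≫ p) := pullback.lift D.obj.hom (𝟙 _) (by simp)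
    refine ⟨Δ z, ?_, congr($(pullback.lift_snd D.obj.hom (𝟙 D.obj.left) (by simp)) z)⟩
    show σ (Δ z) ∉ O
    have : Δ ≫ σ = 𝟙 _ :=
      (comp_tr D Δ (pullback.lift_fst _ _ _) (pullback.lift_snd _ _ _) (h' := by simp)).trans
        (tr_self D (Category.id_comp _))
    rwa [show σ (Δ z) = z from congr($this z)]
  refine ⟨V, ?_, ?_, ?_⟩
  · rintro ⟨r, hr, hre⟩
    exact hr (he r hre)
  · intro T x₀ x₁ h v hv
    rintro _ ⟨s, rfl⟩ ⟨r, hr, hrs⟩
    let w : T ⟶ D.obj.left := (D.φ x₀ x₁ h v).1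
    obtain ⟨q, hq₁, hq₂⟩ := Scheme.Pullback.exists_preimage_pullback (f := w) (g := snd) s r hrs.symm
    let a := pullback.fst w snd
    let b := pullback.snd w snd
    have hab : a ≫ w = b ≫ snd := pullback.condition
    let x := b ≫ fst
    let v' := a ≫ v.1
    have hw : w ≫ D.obj.hom = x₁ := (D.φ x₀ x₁ h v).2
    have hh1 : (v' ≫ D.obj.hom) ≫ p = (a ≫ x₁) ≫ p := by
      simp only [v', Category.assoc, reassoc_of% v.2, h]
    have hab' : ((a ≫ w) ≫ D.obj.hom) ≫ p = x ≫ p := by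
      rw [hab, Category.assoc b, Category.assoc b, h0]; exact (Category.assoc _ _ _).symm
    have hh2 : (v' ≫ D.obj.hom) ≫ p = x ≫ p := by
      rw [hh1, ← hab', Category.assoc a w, hw]
    have e1 : a ≫ w = tr D (a ≫ x₁) v' hh1 :=
      (congrArg (a ≫ ·) (phi_congr v.2.symm rfl h v.1 v.2 v.1 rfl)).trans
        (comp_tr D a (h := by rw [v.2, h]) rfl rfl)
    have e2 : b ≫ σ = tr D x v' hh2 := by
      refine (comp_tr D b rfl (hab.symm.trans e1) (h' := by rw [tr_over, ← hh1, hh2])).trans ?_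
      exact tr_tr D _ _ _ _ _
    have : v.1 s ∈ C := by
      refine ⟨pullback.lift x v' (by rw [← hh2, Category.assoc]) q, ?_, ?_⟩
      · show σ _ ∉ O
        rw [show σ (pullback.lift x v' (by rw [← hh2, Category.assoc]) q) = tr D x v' hh2 q from
          congr($(comp_tr D _ (pullback.lift_fst _ _ _) (pullback.lift_snd _ _ _)) q),
          ← congr($e2 q)]
        show σ (b q) ∉ O
        rw [hq₂]
        exact hr
      · exact (congr($(pullback.lift_snd x v' (by rw [← hh2, Category.assoc])) q)).trans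
          (congrArg v.1 hq₁)
    exact hv ⟨s, rfl⟩ this
  · intro U hU
    have : IsAffine O.toScheme := hO
    have : CompactSpace U.toScheme := isCompact_iff_compactSpace.mp hU
    exact Scheme.IsQuasiAffine.of_isImmersion (U.ι ≫ D.obj.left.homOfLE hVO)

/-- finite flat covers: finite orbits in affine opens -/
theorem effective_of_finite_flat [Surjective p] [Flat p] [IsFinite p]
    (hV : ∀ e : D.obj.left, ∃ O : D.obj.left.Opens, IsAffineOpen O ∧
      ∀ r : ↑(pullback p (D.obj.hom ≫ p)), pullback.snd p (D.obj.hom ≫ p) r = e →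
        tr D (pullback.fst p (D.obj.hom ≫ p)) (pullback.snd p (D.obj.hom ≫ p))
          (by rw [Category.assoc, pullback.condition]) r ∈ O) :
    ∃ U : Over S, Nonempty ((Desc.toDD p).obj U ≅ D) := by
  refine effective_of_stable_indQA_cover fun e ↦ ?_
  obtain ⟨O, hO, he⟩ := hV e
  exact exists_stable_indQA_of_orbit hO e he

variable (D) in
/-- orbit points lie over the same point of the base -/
lemma orbit_over (e : D.obj.left) (r : ↑(pullback p (D.obj.hom ≫ p)))
    (hr : pullback.snd p (D.obj.hom ≫ p) r = e) :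
    p (D.obj.hom (tr D (pullback.fst p (D.obj.hom ≫ p)) (pullback.snd p (D.obj.hom ≫ p))
      (by rw [Category.assoc, pullback.condition]) r)) = p (D.obj.hom e) := by
  subst hr
  have h1 : ∀ h, (tr D (pullback.fst p (D.obj.hom ≫ p)) (pullback.snd p (D.obj.hom ≫ p)) h ≫ D.obj.hom) ≫ p =
      pullback.snd p (D.obj.hom ≫ p) ≫ D.obj.hom ≫ p := fun h ↦ by
    rw [tr_over, pullback.condition]
  exact congr($(h1 (by rw [Category.assoc, pullback.condition])) r)

end Groth.Agent.SchDescent
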