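import Groth.Prelude.Def_DescFam
import Mathlib.AlgebraicGeometry.Limits

/-! # the descent datum on a coproduct attached to a descent datum for a family -/

set_option backward.isDefEq.respectTransparency false
set_option backward.isDefEq.respectTransparency.types false

universe u

open CategoryTheory CategoryTheory.Limits AlgebraicGeometry

namespace Groth.Agent.SchDescent.Coprod

variable {ι : Type u} {S : Scheme.{u}} {X : ι → Scheme.{u}} {f : ∀ i, X i ⟶ S}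
  (D : Desc.SchDDFam f)

/-- the coproduct of the schemes of the datum -/
noncomputable abbrev tot : Scheme.{u} := ∐ fun i ↦ (D.obj i).left

/-- its map to the coproduct of the bases -/
noncomputable abbrev hh : tot D ⟶ ∐ X := Limits.Sigma.map fun i ↦ (D.obj i).hom

/-- the inclusion of a member -/
noncomputable abbrev inj (i : ι) : (D.obj i).left ⟶ tot D := Sigma.ι (fun i ↦ (D.obj i).left) i

lemma eq_of_ι_eq {Z : ι → Scheme.{u}} {i j : ι} {x : Z i} {y : Z j}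
    (h : Sigma.ι Z i x = Sigma.ι Z j y) : i = j := by
  rw [← sigmaMk_mk Z i x, ← sigmaMk_mk Z j y] at h
  exact congrArg Sigma.fst ((sigmaMk Z).injective h)

lemma inj_hh (i : ι) : inj D i ≫ hh D = (D.obj i).hom ≫ Sigma.ι X i :=
  Limits.Sigma.ι_map _ i

theorem isPullback_inj (i : ι) : IsPullback (inj D i) (D.obj i).hom (hh D) (Sigma.ι X i) := by
  refine (IsOpenImmersion.isPullback (D.obj i).hom (inj D i) (Sigma.ι X i) (hh D)
    (inj_hh D i) ?_).flip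
  ext z
  constructor
  · rintro ⟨w, hw⟩
    obtain ⟨⟨k, y⟩, rfl⟩ := (sigmaMk fun i ↦ (D.obj i).left).surjective z
    rw [sigmaMk_mk] at hw ⊢
    have h1 : hh D (inj D k y) = Sigma.ι X k ((D.obj k).hom y) := congr($(inj_hh D k) y)
    obtain rfl := eq_of_ι_eq (hw.trans h1)
    exact ⟨y, rfl⟩
  · rintro ⟨w, rfl⟩
    exact ⟨(D.obj i).hom w, congr($(inj_hh D i) w).symm⟩

lemma hom_ext_of_isEmpty {T Z : Scheme.{u}} (a b : T ⟶ Z) [IsEmpty T] : a = b :=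
  (isInitialOfIsEmpty (X := T)).hom_ext a b

/-- `w` corresponds to `v` under the bijections of the datum -/
def Rel {T : Scheme.{u}} (x₀ x₁ : T ⟶ ∐ X) (v w : T ⟶ tot D) : Prop :=
  ∀ ⦃T' : Scheme.{u}⦄ (k : T' ⟶ T) ⦃i j : ι⦄ (y₀ : T' ⟶ X i) (y₁ : T' ⟶ X j),
    y₀ ≫ Sigma.ι X i = k ≫ x₀ → y₁ ≫ Sigma.ι X j = k ≫ x₁ →
    ∀ (h : y₀ ≫ f i = y₁ ≫ f j) (a : Desc.Lifts (D.obj i) y₀), a.1 ≫ inj D i = k ≫ v →
      k ≫ w = (D.φ y₀ y₁ h a).1 ≫ inj D j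

variable {D}

lemma compat {T' : Scheme.{u}} {i j : ι} {y₀ : T' ⟶ X i} {y₁ : T' ⟶ X j} {T : Scheme.{u}}
    {x₀ x₁ : T ⟶ ∐ X} {k : T' ⟶ T} (h₀ : y₀ ≫ Sigma.ι X i = k ≫ x₀)
    (h₁ : y₁ ≫ Sigma.ι X j = k ≫ x₁) (h : x₀ ≫ Sigma.desc f = x₁ ≫ Sigma.desc f) :
    y₀ ≫ f i = y₁ ≫ f j := by
  rw [← Sigma.ι_desc f i, ← Sigma.ι_desc f j, ← Category.assoc, ← Category.assoc, h₀, h₁,
    Category.assoc, Category.assoc, h]

lemma exists_piece {T : Scheme.{u}} (x₀ x₁ : T ⟶ ∐ X) (v : T ⟶ tot D) (hv : v ≫ hh D = x₀)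
    (t : T) :
    ∃ (O : T.Opens) (i j : ι) (y₀ : O.toScheme ⟶ X i) (y₁ : O.toScheme ⟶ X j)
      (a : Desc.Lifts (D.obj i) y₀), t ∈ O ∧ y₀ ≫ Sigma.ι X i = O.ι ≫ x₀ ∧
      y₁ ≫ Sigma.ι X j = O.ι ≫ x₁ ∧ a.1 ≫ inj D i = O.ι ≫ v := by
  obtain ⟨⟨i, a⟩, ha⟩ := (sigmaMk X).surjective (x₀ t)
  obtain ⟨⟨j, b⟩, hb⟩ := (sigmaMk X).surjective (x₁ t)
  rw [sigmaMk_mk] at ha hb
  let O : T.Opens := x₀ ⁻¹ᵁ (Sigma.ι X i).opensRange ⊓ x₁ ⁻¹ᵁ (Sigma.ι X j).opensRange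
  have hr₀ : Set.range (O.ι ≫ x₀) ⊆ Set.range (Sigma.ι X i) := by
    rintro _ ⟨s, rfl⟩; exact s.2.1
  have hr₁ : Set.range (O.ι ≫ x₁) ⊆ Set.range (Sigma.ι X j) := by
    rintro _ ⟨s, rfl⟩; exact s.2.2
  let y₀ := IsOpenImmersion.lift (Sigma.ι X i) (O.ι ≫ x₀) hr₀
  have hy₀ : y₀ ≫ Sigma.ι X i = O.ι ≫ x₀ := IsOpenImmersion.lift_fac _ _ _
  refine ⟨O, i, j, y₀, IsOpenImmersion.lift (Sigma.ι X j) (O.ι ≫ x₁) hr₁,
    ⟨(isPullback_inj D i).lift (O.ι ≫ v) y₀ (by rw [Category.assoc, hv, hy₀]),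
      (isPullback_inj D i).lift_snd _ _ _⟩, ⟨⟨a, ha⟩, ⟨b, hb⟩⟩, hy₀,
    IsOpenImmersion.lift_fac _ _ _, (isPullback_inj D i).lift_fst _ _ _⟩

lemma Rel.unique {T : Scheme.{u}} {x₀ x₁ : T ⟶ ∐ X} (h : x₀ ≫ Sigma.desc f = x₁ ≫ Sigma.desc f)
    {v w w' : T ⟶ tot D} (hv : v ≫ hh D = x₀) (h₁ : Rel D x₀ x₁ v w) (h₂ : Rel D x₀ x₁ v w') :
    w = w' := by
  refine Scheme.hom_ext_of_forall _ _ fun t ↦ ?_
  obtain ⟨O, i, j, y₀, y₁, a, ht, e₀, e₁, ea⟩ := exists_piece x₀ x₁ v hv t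
  exact ⟨O, ht, (h₁ O.ι y₀ y₁ e₀ e₁ (compat e₀ e₁ h) a ea).trans
    (h₂ O.ι y₀ y₁ e₀ e₁ (compat e₀ e₁ h) a ea).symm⟩

lemma exists_rel {T : Scheme.{u}} (x₀ x₁ : T ⟶ ∐ X) (h : x₀ ≫ Sigma.desc f = x₁ ≫ Sigma.desc f)
    (v : T ⟶ tot D) (hv : v ≫ hh D = x₀) :
    ∃ w : T ⟶ tot D, w ≫ hh D = x₁ ∧ Rel D x₀ x₁ v w := by
  choose O I J y₀ y₁ a ht e₀ e₁ ea using exists_piece x₀ x₁ v hv
  let 𝒰 : T.OpenCover := {
    I₀ := T, X t := (O t).toScheme, f t := (O t).ι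
    mem₀ := by
      rw [Scheme.presieve₀_mem_precoverage_iff]
      exact ⟨fun t ↦ ⟨t, by simpa using ht t⟩, inferInstance⟩ }
  have hP : ∀ {T' : Scheme.{u}} (k : T' ⟶ T) (s : T) (k' : T' ⟶ (O s).toScheme)
      (_ : k' ≫ (O s).ι = k) {i j : ι} (z₀ : T' ⟶ X i) (z₁ : T' ⟶ X j)
      (_ : z₀ ≫ Sigma.ι X i = k ≫ x₀) (_ : z₁ ≫ Sigma.ι X j = k ≫ x₁)
      (hz : z₀ ≫ f i = z₁ ≫ f j) (b : Desc.Lifts (D.obj i) z₀), b.1 ≫ inj D i = k ≫ v →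
      k' ≫ (D.φ (y₀ s) (y₁ s) (compat (e₀ s) (e₁ s) h) (a s)).1 ≫ inj D (J s) =
        (D.φ z₀ z₁ hz b).1 ≫ inj D j := by
    intro T' k s k' hk i j z₀ z₁ hz₀ hz₁ hz b hb
    rcases isEmpty_or_nonempty T' with hT | ⟨⟨q⟩⟩
    · exact hom_ext_of_isEmpty _ _
    have h0 : (k' ≫ y₀ s) ≫ Sigma.ι X (I s) = z₀ ≫ Sigma.ι X i := by
      rw [Category.assoc, e₀, reassoc_of% hk, hz₀]
    have h1 : (k' ≫ y₁ s) ≫ Sigma.ι X (J s) = z₁ ≫ Sigma.ι X j := by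
      rw [Category.assoc, e₁, reassoc_of% hk, hz₁]
    obtain rfl := eq_of_ι_eq congr($h0 q)
    obtain rfl := eq_of_ι_eq congr($h1 q)
    rw [cancel_mono] at h0 h1
    rw [← Category.assoc]
    congr 1
    refine (D.φ_natural k' (y₀ s) (y₁ s) (compat (e₀ s) (e₁ s) h) z₀ z₁ h0 h1 hz (a s) b ?_).symm
    rw [← cancel_mono (inj D (I s)), hb, Category.assoc, ea, reassoc_of% hk]
  let w := 𝒰.glueMorphisms
    (fun t ↦ (D.φ (y₀ t) (y₁ t) (compat (e₀ t) (e₁ t) h) (a t)).1 ≫ inj D (J t)) (by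
    intro s t
    let ks := pullback.fst (O s).ι (O t).ι
    let kt := pullback.snd (O s).ι (O t).ι
    have hk : ks ≫ (O s).ι = kt ≫ (O t).ι := pullback.condition
    let b : Desc.Lifts (D.obj (I t)) (kt ≫ y₀ t) :=
      ⟨kt ≫ (a t).1, by rw [Category.assoc, (a t).2]⟩
    have hb : b.1 ≫ inj D (I t) = (kt ≫ (O t).ι) ≫ v := by
      rw [Category.assoc, Category.assoc, ea]
    have hz₀ : (kt ≫ y₀ t) ≫ Sigma.ι X (I t) = (kt ≫ (O t).ι) ≫ x₀ := by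
      simp only [Category.assoc, e₀]
    have hz₁ : (kt ≫ y₁ t) ≫ Sigma.ι X (J t) = (kt ≫ (O t).ι) ≫ x₁ := by
      simp only [Category.assoc, e₁]
    exact (hP _ s ks hk _ _ hz₀ hz₁ (compat hz₀ hz₁ h) b hb).trans
      (hP _ t kt rfl _ _ hz₀ hz₁ (compat hz₀ hz₁ h) b hb).symm)
  have hw : ∀ t, (O t).ι ≫ w = _ := 𝒰.ι_glueMorphisms _ _
  refine ⟨w, 𝒰.hom_ext _ _ fun t ↦ ?_, fun T' k i j z₀ z₁ hz₀ hz₁ hz b hb ↦ ?_⟩
  · change (O t).ι ≫ w ≫ hh D = (O t).ι ≫ x₁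
    rw [reassoc_of% (hw t), inj_hh, reassoc_of% (D.φ _ _ _ (a t)).2, e₁]
  · refine Scheme.hom_ext_of_forall _ _ fun q ↦ ?_
    refine ⟨k ⁻¹ᵁ O (k q), ht _, ?_⟩
    let k' := k ∣_ O (k q)
    have hk : k' ≫ (O (k q)).ι = (k ⁻¹ᵁ O (k q)).ι ≫ k := morphismRestrict_ι _ _
    let m := (k ⁻¹ᵁ O (k q)).ι
    have hm : (m ≫ z₀) ≫ f i = (m ≫ z₁) ≫ f j := by simp only [Category.assoc, hz]
    rw [← Category.assoc, ← hk, Category.assoc, hw,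
      hP (m ≫ k) (k q) k' hk (m ≫ z₀) (m ≫ z₁) (by simp only [Category.assoc, hz₀])
        (by simp only [Category.assoc, hz₁]) hm ⟨m ≫ b.1, by rw [Category.assoc, b.2]⟩
        (by simp only [Category.assoc, hb]),
      D.φ_natural m z₀ z₁ hz (m ≫ z₀) (m ≫ z₁) rfl rfl hm b _ rfl, Category.assoc]

variable (D) in
/-- the transport map -/
noncomputable def tr {T : Scheme.{u}} (x₀ x₁ : T ⟶ ∐ X)
    (h : x₀ ≫ Sigma.desc f = x₁ ≫ Sigma.desc f) (v : Desc.Lifts (Over.mk (hh D)) x₀) :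
    Desc.Lifts (Over.mk (hh D)) x₁ :=
  ⟨(exists_rel x₀ x₁ h v.1 v.2).choose, (exists_rel x₀ x₁ h v.1 v.2).choose_spec.1⟩

lemma tr_rel {T : Scheme.{u}} (x₀ x₁ : T ⟶ ∐ X) (h : x₀ ≫ Sigma.desc f = x₁ ≫ Sigma.desc f)
    (v : Desc.Lifts (Over.mk (hh D)) x₀) : Rel D x₀ x₁ v.1 (tr D x₀ x₁ h v).1 :=
  (exists_rel x₀ x₁ h v.1 v.2).choose_spec.2

lemma tr_self {T : Scheme.{u}} (x : T ⟶ ∐ X) (v : Desc.Lifts (Over.mk (hh D)) x) :
    tr D x x rfl v = v := by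
  refine Subtype.ext ((tr_rel x x rfl v).unique rfl v.2 fun T' k i j y₀ y₁ h₀ h₁ h a ha ↦ ?_)
  rcases isEmpty_or_nonempty T' with hT | ⟨⟨q⟩⟩
  · exact hom_ext_of_isEmpty _ _
  have e : y₀ ≫ Sigma.ι X i = y₁ ≫ Sigma.ι X j := h₀.trans h₁.symm
  obtain rfl := eq_of_ι_eq congr($e q)
  rw [cancel_mono] at e
  subst e
  rw [D.φ_self, ha]

lemma tr_comp {T : Scheme.{u}} (x₀ x₁ x₂ : T ⟶ ∐ X)
    (h₀₁ : x₀ ≫ Sigma.desc f = x₁ ≫ Sigma.desc f) (h₁₂ : x₁ ≫ Sigma.desc f = x₂ ≫ Sigma.desc f)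
    (v : Desc.Lifts (Over.mk (hh D)) x₀) :
    tr D x₁ x₂ h₁₂ (tr D x₀ x₁ h₀₁ v) = tr D x₀ x₂ (h₀₁.trans h₁₂) v := by
  refine Subtype.ext (Rel.unique (h₀₁.trans h₁₂) v.2 ?_ (tr_rel _ _ _ v))
  intro T' k i l y₀ y₂ e₀ e₂ h a ha
  refine Scheme.hom_ext_of_forall _ _ fun q ↦ ?_
  obtain ⟨⟨j, b⟩, hb⟩ := (sigmaMk X).surjective (x₁ (k q))
  rw [sigmaMk_mk] at hb
  let O : T'.Opens := (k ≫ x₁) ⁻¹ᵁ (Sigma.ι X j).opensRange
  refine ⟨O, ⟨b, hb⟩, ?_⟩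
  let y₁ := IsOpenImmersion.lift (Sigma.ι X j) ((O.ι ≫ k) ≫ x₁) (by
    rintro _ ⟨s, rfl⟩; exact s.2)
  have e₁ : y₁ ≫ Sigma.ι X j = (O.ι ≫ k) ≫ x₁ := IsOpenImmersion.lift_fac _ _ _
  have e₀' : (O.ι ≫ y₀) ≫ Sigma.ι X i = (O.ι ≫ k) ≫ x₀ := by simp only [Category.assoc, e₀]
  have e₂' : (O.ι ≫ y₂) ≫ Sigma.ι X l = (O.ι ≫ k) ≫ x₂ := by simp only [Category.assoc, e₂]
  have h' : (O.ι ≫ y₀) ≫ f i = (O.ι ≫ y₂) ≫ f l := by simp only [Category.assoc, h]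
  let a' : Desc.Lifts (D.obj i) (O.ι ≫ y₀) := ⟨O.ι ≫ a.1, by rw [Category.assoc, a.2]⟩
  have h1 := tr_rel x₀ x₁ h₀₁ v (O.ι ≫ k) _ _ e₀' e₁ (compat e₀' e₁ h₀₁) a'
    (by simp only [a', Category.assoc, ha])
  have h2 := tr_rel x₁ x₂ h₁₂ (tr D x₀ x₁ h₀₁ v) (O.ι ≫ k) _ _ e₁ e₂' (compat e₁ e₂' h₁₂) _ h1.symm
  rw [← Category.assoc, h2, D.φ_comp,
    D.φ_natural O.ι y₀ y₂ h (O.ι ≫ y₀) (O.ι ≫ y₂) rfl rfl h' a a' rfl, Category.assoc]

variable (D) in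
/-- the descent datum on the coproduct -/
noncomputable def datum : Desc.SchDD (Sigma.desc f) where
  obj := Over.mk (hh D)
  φ T x₀ x₁ h :=
    { toFun := tr D x₀ x₁ h
      invFun := tr D x₁ x₀ h.symm
      left_inv := fun v ↦ (tr_comp _ _ _ _ _ v).trans (tr_self _ v)
      right_inv := fun v ↦ (tr_comp _ _ _ _ _ v).trans (tr_self _ v) }
  φ_natural T T' g x₀ x₁ h h' v v' hv' := by
    refine (tr_rel (g ≫ x₀) (g ≫ x₁) h' v').unique h' v'.2 ?_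
    intro T'' k i j y₀ y₁ e₀ e₁ hy a ha
    rw [← Category.assoc]
    exact tr_rel x₀ x₁ h v (k ≫ g) y₀ y₁ (e₀.trans (Category.assoc _ _ _).symm)
      (e₁.trans (Category.assoc _ _ _).symm) hy a
      (by rw [ha, hv']; exact (Category.assoc _ _ _).symm)
  φ_self _ x v := tr_self x v
  φ_comp _ x₀ x₁ x₂ h h' v := tr_comp x₀ x₁ x₂ h h' v

variable (D) in
theorem isEffective_of_datum (h : ∃ U : Over S, Nonempty ((Desc.toDD (Sigma.desc f)).obj U ≅ datum D)) :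
    D.IsEffective := by
  obtain ⟨U, ⟨e⟩⟩ := h
  let c : ∀ i, pullback (f i) U.hom ⟶ pullback (Sigma.desc f) U.hom := fun i ↦
    pullback.map (f i) U.hom (Sigma.desc f) U.hom (Sigma.ι X i) (𝟙 _) (𝟙 _)
      (by rw [Category.comp_id, Sigma.ι_desc]) (by simp)
  let ef : pullback (Sigma.desc f) U.hom ⟶ tot D := e.hom.hom.left
  have hef : ef ≫ hh D = pullback.fst _ _ := Over.w e.hom.hom
  have : IsIso e.hom.hom := ⟨e.inv.hom, congrArg (fun f ↦ Desc.SchDD.Hom.hom f) e.hom_inv_id,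
    congrArg (fun f ↦ Desc.SchDD.Hom.hom f) e.inv_hom_id⟩
  have hiso : IsIso ef := inferInstanceAs (IsIso ((Over.forget _).map e.hom.hom))
  have hpb : ∀ i, IsPullback (c i ≫ ef) (pullback.fst (f i) U.hom) (hh D) (Sigma.ι X i) := by
    intro i
    have h1 : IsPullback (c i) (pullback.fst (f i) U.hom) (pullback.fst (Sigma.desc f) U.hom)
        (Sigma.ι X i) := by
      refine IsPullback.of_right ?_ (pullback.lift_fst _ _ _) (IsPullback.of_hasPullback _ _).flip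
      rw [show c i ≫ pullback.snd (Sigma.desc f) U.hom = pullback.snd (f i) U.hom from
        (pullback.lift_snd _ _ _).trans (Category.comp_id _), Sigma.ι_desc]
      exact (IsPullback.of_hasPullback _ _).flip
    exact h1.of_iso (Iso.refl _) (asIso ef) (Iso.refl _) (Iso.refl _) (by simp) (by simp)
      (by simp [hef]) (by simp)
  let k : ∀ i, pullback (f i) U.hom ≅ (D.obj i).left := fun i ↦
    (hpb i).isoIsPullback _ _ (isPullback_inj D i)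
  have hk : ∀ i, (k i).hom ≫ inj D i = c i ≫ ef := fun i ↦ IsPullback.isoIsPullback_hom_fst _ _ _ _
  have hk' : ∀ i, (k i).hom ≫ (D.obj i).hom = pullback.fst (f i) U.hom :=
    fun i ↦ IsPullback.isoIsPullback_hom_snd _ _ _ _
  let a : (Desc.toDDFam f).obj U ⟶ D :=
    ⟨fun i ↦ Over.homMk (k i).hom (hk' i), fun T i j x₀ x₁ h v w hw ↦ by
      let v' := ((Desc.toDDFam f).obj U).φ x₀ x₁ h v
      have hS : (x₀ ≫ Sigma.ι X i) ≫ Sigma.desc f = (x₁ ≫ Sigma.ι X j) ≫ Sigma.desc f := by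
        simp only [Category.assoc, Sigma.ι_desc, h]
      have hvl : ∀ {i : ι} {x : T ⟶ X i} (v : T ⟶ pullback (f i) U.hom),
          v ≫ pullback.fst (f i) U.hom = x → (v ≫ c i) ≫ pullback.fst _ _ = x ≫ Sigma.ι X i := by
        intro i x v hv
        rw [Category.assoc, pullback.lift_fst, reassoc_of% hv]
      let V : Desc.Lifts ((Desc.toDD (Sigma.desc f)).obj U).obj (x₀ ≫ Sigma.ι X i) :=
        ⟨v.1 ≫ c i, hvl v.1 v.2⟩
      let W : Desc.Lifts (datum D).obj (x₀ ≫ Sigma.ι X i) :=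
        ⟨w.1 ≫ inj D i, by
          show (w.1 ≫ inj D i) ≫ hh D = _
          rw [Category.assoc, inj_hh, reassoc_of% w.2]⟩
      have key := e.hom.comm _ _ hS V W (by
        show w.1 ≫ inj D i = (v.1 ≫ c i) ≫ ef
        rw [hw]
        exact (Category.assoc _ _ _).trans ((congrArg (v.1 ≫ ·) (hk i)).trans (Category.assoc _ _ _).symm))
      have hrel := tr_rel _ _ hS W (𝟙 T) x₀ x₁ (Category.id_comp _).symm (Category.id_comp _).symm h w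
        (Category.id_comp _).symm
      rw [Category.id_comp] at hrel
      have hcan : (((Desc.toDD (Sigma.desc f)).obj U).φ _ _ hS V).1 = v'.1 ≫ c j := by
        apply pullback.hom_ext
        · exact (((Desc.toDD (Sigma.desc f)).obj U).φ _ _ hS V).2.trans (hvl v'.1 v'.2).symm
        · refine (pullback.lift_snd _ _ _).trans ?_
          show (v.1 ≫ c i) ≫ _ = (v'.1 ≫ c j) ≫ _
          rw [Category.assoc, Category.assoc, pullback.lift_snd, pullback.lift_snd,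
            Category.comp_id, Category.comp_id]
          exact (pullback.lift_snd _ _ _).symm
      rw [← cancel_mono (inj D j), ← hrel]
      refine key.trans ?_
      rw [hcan]
      exact (Category.assoc _ _ _).trans ((congrArg (v'.1 ≫ ·) (hk j).symm).trans
        (Category.assoc _ _ _).symm)⟩
  let b : D ⟶ (Desc.toDDFam f).obj U :=
    ⟨fun i ↦ Over.homMk (k i).inv ((Iso.inv_comp_eq _).mpr (hk' i).symm), fun T i j x₀ x₁ h v w hw ↦ by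
      have := a.comm x₀ x₁ h w v (by
        rw [hw]
        exact (((Category.assoc _ _ _).trans (congrArg (v.1 ≫ ·) (k i).inv_hom_id)).trans
          (Category.comp_id _)).symm)
      rw [this]
      exact (((Category.assoc _ _ _).trans (congrArg _ (k j).hom_inv_id)).trans
        (Category.comp_id _)).symm⟩
  exact ⟨U, ⟨⟨a, b, Desc.SchDDFam.hom_ext (funext fun i ↦ Over.OverMorphism.ext (k i).hom_inv_id),
    Desc.SchDDFam.hom_ext (funext fun i ↦ Over.OverMorphism.ext (k i).inv_hom_id)⟩⟩⟩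

end Groth.Agent.SchDescent.Coprod
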