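import Groth.Agent.SchDescent.PullFam
import Groth.Agent.SchDescent.Coprod

/-! # recognising pulled back descent data -/

set_option backward.isDefEq.respectTransparency false
set_option backward.isDefEq.respectTransparency.types false

universe u

open CategoryTheory CategoryTheory.Limits AlgebraicGeometry

namespace Groth.Agent.SchDescent

variable {ι κ : Type u} {S : Scheme.{u}} {U : ι → Scheme.{u}} {V : κ → Scheme.{u}}
  {u : ∀ i, U i ⟶ S} {v : ∀ j, V j ⟶ S} {α : ι → κ} {g : ∀ i, U i ⟶ V (α i)}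
  (w : ∀ i, g i ≫ v (α i) = u i ≫ 𝟙 S)


/-- a datum with natural bijections on points to a datum relative to a coarser family is its pullback -/
theorem nonempty_iso_pull {D : Desc.SchDDFam v} {D' : Desc.SchDDFam u}
    (η : ∀ {T : Scheme.{u}} {i : ι} (t : T ⟶ U i),
      Desc.Lifts (D'.obj i) t ≃ Desc.Lifts (D.obj (α i)) (t ≫ g i))
    (hnat : ∀ {T T' : Scheme.{u}} (s : T' ⟶ T) {i : ι} (t : T ⟶ U i) (t' : T' ⟶ U i) (_ : s ≫ t = t')
      (z : Desc.Lifts (D'.obj i) t) (z' : Desc.Lifts (D'.obj i) t'), z'.1 = s ≫ z.1 →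
      (η t' z').1 = s ≫ (η t z).1)
    (hφ : ∀ {T : Scheme.{u}} {i j : ι} (x₀ : T ⟶ U i) (x₁ : T ⟶ U j) (h : x₀ ≫ u i = x₁ ≫ u j)
      (h' : (x₀ ≫ g i) ≫ v (α i) = (x₁ ≫ g j) ≫ v (α j))
      (z : Desc.Lifts (D'.obj i) x₀), η x₁ (D'.φ x₀ x₁ h z) = D.φ _ _ h' (η x₀ z)) :
    Nonempty ((Desc.pullDDFam (f := v) (f' := u) (α := α) (p := 𝟙 S) (p' := g) w).obj D ≅ D') := by
  let P := (Desc.pullDDFam (f := v) (f' := u) (α := α) (p := 𝟙 S) (p' := g) w).obj D
  let a : ∀ i, (P.obj i).left ⟶ (D'.obj i).left := fun i ↦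
    ((η (pullback.snd (D.obj (α i)).hom (g i))).symm ⟨pullback.fst _ _, pullback.condition⟩).1
  have ha : ∀ i, a i ≫ (D'.obj i).hom = pullback.snd _ _ := fun i ↦
    ((η (pullback.snd (D.obj (α i)).hom (g i))).symm _).2
  have key : ∀ {T : Scheme.{u}} {i : ι} (t : T ⟶ U i) (q : Desc.Lifts (P.obj i) t),
      q.1 ≫ a i = ((η t).symm (Desc.liftsPullbackEquiv (D.obj (α i)) (g i) t q)).1 := by
    intro T i t q
    let z : Desc.Lifts (D'.obj i) t := ⟨q.1 ≫ a i, by rw [Category.assoc, ha]; exact q.2⟩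
    suffices hz : η t z = Desc.liftsPullbackEquiv (D.obj (α i)) (g i) t q by
      rw [← hz, Equiv.symm_apply_apply]
    apply Subtype.ext
    rw [hnat q.1 (pullback.snd (D.obj (α i)).hom (g i)) t q.2
      ((η _).symm ⟨pullback.fst _ _, pullback.condition⟩) z rfl, Equiv.apply_symm_apply]
    rfl
  let b : ∀ i, (D'.obj i).left ⟶ (P.obj i).left := fun i ↦
    ((Desc.liftsPullbackEquiv (D.obj (α i)) (g i) (D'.obj i).hom).symm
      (η (D'.obj i).hom ⟨𝟙 _, Category.id_comp _⟩)).1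
  have hb : ∀ i, b i ≫ (P.obj i).hom = (D'.obj i).hom := fun i ↦ pullback.lift_snd _ _ _
  have hba : ∀ i, b i ≫ a i = 𝟙 _ := fun i ↦ by
    rw [key (D'.obj i).hom ⟨b i, hb i⟩]
    simp [b]
  have hab : ∀ i, a i ≫ b i = 𝟙 _ := fun i ↦ by
    apply pullback.hom_ext
    · rw [Category.assoc, Category.id_comp]
      refine (congrArg (a i ≫ ·) (pullback.lift_fst _ _ _)).trans ?_
      rw [← hnat (a i) (D'.obj i).hom _ (ha i) ⟨𝟙 _, Category.id_comp _⟩
        ((η (pullback.snd (D.obj (α i)).hom (g i))).symm ⟨pullback.fst _ _, pullback.condition⟩)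
        (Category.comp_id _).symm]
      exact congrArg Subtype.val (Equiv.apply_symm_apply _ _)
    · rw [Category.assoc, Category.id_comp]
      exact (congrArg (a i ≫ ·) (hb i)).trans (ha i)
  have hcomm : ∀ {T : Scheme.{u}} {i j : ι} (x₀ : T ⟶ U i) (x₁ : T ⟶ U j)
      (h : x₀ ≫ u i = x₁ ≫ u j) (q : Desc.Lifts (P.obj i) x₀) (z : Desc.Lifts (D'.obj i) x₀),
      z.1 = q.1 ≫ a i → (D'.φ x₀ x₁ h z).1 = (P.φ x₀ x₁ h q).1 ≫ a j := by
    intro T i j x₀ x₁ h q z hz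
    obtain rfl : z = (η x₀).symm (Desc.liftsPullbackEquiv (D.obj (α i)) (g i) x₀ q) :=
      Subtype.ext (hz.trans (key x₀ q))
    rw [key x₁ (P.φ x₀ x₁ h q)]
    congr 1
    apply (η x₁).injective
    rw [hφ x₀ x₁ h (Desc.pull_compat w x₀ x₁ h), Equiv.apply_symm_apply, Equiv.apply_symm_apply]
    exact (Equiv.apply_symm_apply _ _).symm
  let A : P ⟶ D' := ⟨fun i ↦ Over.homMk (a i) (ha i), fun T i j x₀ x₁ h q z hz ↦
    hcomm x₀ x₁ h q z hz⟩
  let B : D' ⟶ P := ⟨fun i ↦ Over.homMk (b i) (hb i), fun T i j x₀ x₁ h z q hq ↦ by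
    have e := hcomm x₀ x₁ h q z (by
      rw [hq]
      exact (((Category.assoc _ _ _).trans (congrArg (z.1 ≫ ·) (hba i))).trans (Category.comp_id _)).symm)
    rw [e]
    exact (((Category.assoc _ _ _).trans (congrArg _ (hab j))).trans (Category.comp_id _)).symm⟩
  exact ⟨⟨A, B, Desc.SchDDFam.hom_ext (funext fun i ↦ Over.OverMorphism.ext (hab i)),
    Desc.SchDDFam.hom_ext (funext fun i ↦ Over.OverMorphism.ext (hba i))⟩⟩

end Groth.Agent.SchDescent

namespace Groth.Agent.SchDescent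

variable {X X' S : Scheme.{u}}

/-- pullback along an endomorphism over the base is the identity -/
theorem nonempty_pull_self_iso (a : X ⟶ S) (f : X ⟶ X) (h : f ≫ a = a)
    (w : ∀ _ : PUnit.{u + 1}, f ≫ a = a ≫ 𝟙 S) :
    Nonempty (Desc.pullDDFam (f := fun _ : PUnit.{u + 1} => a) (f' := fun _ : PUnit.{u + 1} => a)
      (α := fun j => j) (p := 𝟙 S) (p' := fun _ => f) w ≅ 𝟭 (Desc.SchDDFam (fun _ : PUnit.{u + 1} => a))) := by
  let F := Desc.pullDDFam (f := fun _ : PUnit.{u + 1} => a) (f' := fun _ : PUnit.{u + 1} => a)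
    (α := fun j => j) (p := 𝟙 S) (p' := fun _ => f) w
  have hc : ∀ {T : Scheme.{u}} (x : T ⟶ X), (x ≫ f) ≫ a = x ≫ a := fun x ↦ by rw [Category.assoc, h]
  let aD : ∀ (D : Desc.SchDDFam (fun _ : PUnit.{u + 1} => a)) i,
      Desc.Lifts (D.obj i) (pullback.snd (D.obj i).hom f) := fun D i ↦
    D.φ (i := i) (j := i) (pullback.snd (D.obj i).hom f ≫ f) (pullback.snd (D.obj i).hom f) (hc _)
      ⟨pullback.fst (D.obj i).hom f, pullback.condition⟩
  have hv : ∀ (D : Desc.SchDDFam (fun _ : PUnit.{u + 1} => a)) {T : Scheme.{u}} {i : PUnit.{u + 1}} (x : T ⟶ X)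
      (q : Desc.Lifts ((F.obj D).obj i) x),
      q.1 ≫ (aD D i).1 = (D.φ (x ≫ f) x (hc x) (Desc.liftsPullbackEquiv (D.obj i) f x q)).1 := by
    intro D T i x q
    exact (D.φ_natural q.1 (pullback.snd (D.obj i).hom f ≫ f) (pullback.snd (D.obj i).hom f) (hc _)
      (x ≫ f) x ((Category.assoc _ _ _).symm.trans (congrArg (· ≫ f) q.2)) q.2 (hc x)
      ⟨pullback.fst (D.obj i).hom f, pullback.condition⟩ _ rfl).symm
  have hcomm : ∀ (D : Desc.SchDDFam (fun _ : PUnit.{u + 1} => a)) {T : Scheme.{u}} {i j : PUnit.{u + 1}}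
      (x₀ x₁ : T ⟶ X) (hx : x₀ ≫ a = x₁ ≫ a) (q : Desc.Lifts ((F.obj D).obj i) x₀)
      (z : Desc.Lifts (D.obj i) x₀), z.1 = q.1 ≫ (aD D i).1 →
      (D.φ x₀ x₁ hx z).1 = ((F.obj D).φ (i := i) (j := j) x₀ x₁ hx q).1 ≫ (aD D j).1 := by
    intro D T i j x₀ x₁ hx q z hz
    obtain rfl := Subtype.ext (hz.trans (hv D x₀ q))
    rw [hv D x₁]
    change (D.φ x₀ x₁ hx (D.φ (x₀ ≫ f) x₀ (hc x₀) _)).1 =
      (D.φ (x₁ ≫ f) x₁ (hc x₁) (Desc.liftsPullbackEquiv (D.obj j) f x₁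
        ((Desc.liftsPullbackEquiv (D.obj j) f x₁).symm (D.φ (x₀ ≫ f) (x₁ ≫ f) _ _)))).1
    rw [Equiv.apply_symm_apply, D.φ_comp, D.φ_comp]
  have hnat : ∀ {D D' : Desc.SchDDFam (fun _ : PUnit.{u + 1} => a)} (m : D ⟶ D') i,
      ((F.map m).hom i).left ≫ (aD D' i).1 = (aD D i).1 ≫ (m.hom i).left := by
    intro D D' m i
    rw [hv D' (pullback.snd (D.obj i).hom f) ⟨((F.map m).hom i).left, Over.w ((F.map m).hom i)⟩]
    exact m.comm _ _ (hc _) ⟨pullback.fst (D.obj i).hom f, pullback.condition⟩ _ (pullback.lift_fst _ _ _)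
  let A : F ⟶ 𝟭 _ :=
    { app := fun D ↦ ⟨fun i ↦ Over.homMk (aD D i).1 (aD D i).2,
        fun T i j x₀ x₁ hx q z hz ↦ hcomm D x₀ x₁ hx q z hz⟩
      naturality := fun D D' m ↦ Desc.SchDDFam.hom_ext (funext fun i ↦ Over.OverMorphism.ext (hnat m i)) }
  have : ∀ D, IsIso (A.app D) := fun D ↦ by
    let bD : ∀ i, Desc.Lifts ((F.obj D).obj i) (D.obj i).hom := fun i ↦
      (Desc.liftsPullbackEquiv (D.obj i) f (D.obj i).hom).symm
        (D.φ (i := i) (j := i) (D.obj i).hom ((D.obj i).hom ≫ f) (hc _).symm ⟨𝟙 _, Category.id_comp _⟩)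
    have hba : ∀ i, (bD i).1 ≫ (aD D i).1 = 𝟙 _ := fun i ↦ by
      rw [hv D (D.obj i).hom (bD i), Equiv.apply_symm_apply, D.φ_comp, D.φ_self]
    have hab : ∀ i, (aD D i).1 ≫ (bD i).1 = 𝟙 _ := fun i ↦ by
      apply pullback.hom_ext
      · rw [Category.assoc, Category.id_comp]
        refine (congrArg ((aD D i).1 ≫ ·) (pullback.lift_fst _ _ _)).trans ?_
        rw [← D.φ_natural (aD D i).1 (D.obj i).hom ((D.obj i).hom ≫ f) (hc _).symm
          (pullback.snd (D.obj i).hom f) (pullback.snd (D.obj i).hom f ≫ f) (aD D i).2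
          ((Category.assoc _ _ _).symm.trans (congrArg (· ≫ f) (aD D i).2)) (hc _).symm
          ⟨𝟙 _, Category.id_comp _⟩ (aD D i) (Category.comp_id _).symm, D.φ_comp, D.φ_self]
      · rw [Category.assoc, Category.id_comp]
        exact (congrArg ((aD D i).1 ≫ ·) (bD i).2).trans (aD D i).2
    refine ⟨⟨fun i ↦ Over.homMk (bD i).1 (bD i).2, fun T i j x₀ x₁ hx z q hq ↦ ?_⟩, ?_, ?_⟩
    · have e := hcomm D (j := j) x₀ x₁ hx q z (by
        rw [hq]
        exact (((Category.assoc _ _ _).trans (congrArg (z.1 ≫ ·) (hba i))).trans (Category.comp_id _)).symm)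
      change _ = (D.φ x₀ x₁ hx z).1 ≫ (bD j).1
      rw [e]
      exact (((Category.assoc _ _ _).trans (congrArg _ (hab j))).trans (Category.comp_id _)).symm
    · exact Desc.SchDDFam.hom_ext (funext fun i ↦ Over.OverMorphism.ext (hab i))
    · exact Desc.SchDDFam.hom_ext (funext fun i ↦ Over.OverMorphism.ext (hba i))
  have : IsIso A := NatIso.isIso_of_isIso_app A
  exact ⟨asIso A⟩

/-- pullback along a morphism with a retraction up to the base is an equivalence -/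
theorem isEquivalence_pull_of_section (a : X ⟶ S) (a' : X' ⟶ S) (f : X' ⟶ X) (hf : f ≫ a = a')
    (s : X ⟶ X') (hs : s ≫ a' = a) (w : ∀ _ : PUnit.{u + 1}, f ≫ a = a' ≫ 𝟙 S) :
    (Desc.pullDDFam (f := fun _ : PUnit.{u + 1} => a) (f' := fun _ : PUnit.{u + 1} => a')
      (α := fun j => j) (p := 𝟙 S) (p' := fun _ => f) w).IsEquivalence := by
  have hl : LiftsCover (fun _ : PUnit.{u + 1} => a') (fun _ : PUnit.{u + 1} => a) := fun T j x₀ ↦
    ⟨PUnit, fun _ ↦ T, fun _ ↦ 𝟙 T, by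
      rw [Presieve.ofArrows_pUnit]
      exact Scheme.Hom.singleton_mem_fpqcPrecoverage (𝟙 T), fun _ ↦ ⟨⟨⟩, x₀ ≫ s, by rw [Category.id_comp, Category.assoc, hs]⟩⟩
  have := full_pullDDFam (α := fun j => j) (g := fun _ ↦ f) w hl
  have := faithful_pullDDFam (α := fun j => j) (g := fun _ ↦ f) w hl.liftsEpi
  refine { essSurj := ⟨fun D' ↦ ?_⟩ }
  let w' : ∀ _ : PUnit.{u + 1}, s ≫ a' = a ≫ 𝟙 S := fun _ ↦ hs.trans (Category.comp_id _).symm
  let D := (Desc.pullDDFam (f := fun _ : PUnit.{u + 1} => a') (f' := fun _ : PUnit.{u + 1} => a)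
    (α := fun j => j) (p := 𝟙 S) (p' := fun _ => s) w').obj D'
  have hc : ∀ {T : Scheme.{u}} (t : T ⟶ X'), t ≫ a' = ((t ≫ f) ≫ s) ≫ a' := fun t ↦ by
    simp only [Category.assoc, hs, hf]
  refine ⟨D, nonempty_iso_pull w (D := D) (D' := D')
    (fun {T i} t ↦ (D'.φ t ((t ≫ f) ≫ s) (hc t)).trans
      (Desc.liftsPullbackEquiv (D'.obj i) s (t ≫ f)).symm) ?_ ?_⟩
  · intro T T' k i t t' ht z z' hz
    subst ht
    apply pullback.hom_ext
    · refine (pullback.lift_fst _ _ _).trans (Eq.trans ?_ (Category.assoc _ _ _).symm)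
      rw [D'.φ_natural k t ((t ≫ f) ≫ s) (hc t) (k ≫ t) (((k ≫ t) ≫ f) ≫ s) rfl
        (by simp only [Category.assoc]) (hc _) z z' hz]
      exact congrArg (k ≫ ·) (pullback.lift_fst _ _ _).symm
    · exact (pullback.lift_snd _ _ _).trans (Eq.trans
        ((Category.assoc _ _ _).trans (congrArg (k ≫ ·) (pullback.lift_snd _ _ _).symm))
        (Category.assoc _ _ _).symm)
  · intro T i j x₀ x₁ hx h' z
    simp only [Equiv.trans_apply, D, Desc.pullDDFam, Desc.pullDDFamObj, Equiv.apply_symm_apply,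
      D'.φ_comp]

theorem isEquivalence_pull_coprod {ι : Type u} {X : ι → Scheme.{u}} (f : ∀ i, X i ⟶ S)
    (w : ∀ i, Sigma.ι X i ≫ Sigma.desc f = f i ≫ 𝟙 S) :
    (Desc.SchDDFam.ofSchDD.{u, u} (Sigma.desc f) ⋙ Desc.pullDDFam (f := fun _ : PUnit.{u + 1} => Sigma.desc f)
      (f' := f) (α := fun _ => PUnit.unit) (p := 𝟙 S) (p' := fun i => Sigma.ι X i) w).IsEquivalence := by
  let G := Desc.pullDDFam (f := fun _ : PUnit.{u + 1} => Sigma.desc f) (f' := f)
    (α := fun _ => PUnit.unit) (p := 𝟙 S) (p' := fun i => Sigma.ι X i) w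
  have hl : LiftsCover f (fun _ : PUnit.{u + 1} => Sigma.desc f) := by
    intro T j x₀
    refine ⟨ι, fun i ↦ pullback x₀ (Sigma.ι X i), fun i ↦ pullback.fst _ _, ?_,
      fun i ↦ ⟨i, pullback.snd _ _, by
        change _ = (pullback.fst x₀ (Sigma.ι X i) ≫ x₀) ≫ Sigma.desc f
        rw [pullback.condition, Category.assoc, Sigma.ι_desc]⟩⟩
    have h0 : Presieve.ofArrows X (fun i ↦ Sigma.ι X i) ∈ Scheme.fpqcPrecoverage (∐ X) :=
      Scheme.zariskiPrecoverage_le_fpqcPrecoverage _ ((sigmaOpenCover X).mem₀)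
    exact Precoverage.mem_coverings_of_isPullback _ h0 x₀ _ (fun i ↦ pullback.snd x₀ (Sigma.ι X i))
      (fun _ ↦ IsPullback.of_hasPullback _ _)
  have : G.Full := full_pullDDFam (v := fun _ : PUnit.{u + 1} => Sigma.desc f) (α := fun _ => PUnit.unit)
    (g := fun i => Sigma.ι X i) w hl
  have : G.Faithful := faithful_pullDDFam (v := fun _ : PUnit.{u + 1} => Sigma.desc f)
    (α := fun _ => PUnit.unit) (g := fun i => Sigma.ι X i) w hl.liftsEpi
  have : (Desc.SchDDFam.ofSchDD.{u, u} (Sigma.desc f)).IsEquivalence :=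
    (Desc.SchDDFam.oneEquiv.{u, u} (Sigma.desc f)).isEquivalence_inverse
  have : G.EssSurj := ⟨fun D' ↦ by
    refine ⟨(Desc.SchDDFam.ofSchDD.{u, u} (Sigma.desc f)).obj (Coprod.datum D'), nonempty_iso_pull
      (v := fun _ : PUnit.{u + 1} => Sigma.desc f) (α := fun _ => PUnit.unit) (g := fun i => Sigma.ι X i)
      w (D := (Desc.SchDDFam.ofSchDD.{u, u} (Sigma.desc f)).obj (Coprod.datum D')) (D' := D')
      (fun {T i} t ↦ ⟨fun z ↦ ⟨z.1 ≫ Coprod.inj D' i, ?_⟩,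
        fun z ↦ ⟨(Coprod.isPullback_inj D' i).lift z.1 t z.2, (Coprod.isPullback_inj D' i).lift_snd _ _ _⟩,
        fun z ↦ Subtype.ext ((Coprod.isPullback_inj D' i).hom_ext
          ((Coprod.isPullback_inj D' i).lift_fst _ _ _)
          (((Coprod.isPullback_inj D' i).lift_snd _ _ _).trans z.2.symm)),
        fun z ↦ Subtype.ext ((Coprod.isPullback_inj D' i).lift_fst _ _ _)⟩) ?_ ?_⟩
    · show (z.1 ≫ Coprod.inj D' i) ≫ Coprod.hh D' = _
      rw [Category.assoc, Coprod.inj_hh, reassoc_of% z.2]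
    · intro T T' k i t t' _ z z' hz
      show z'.1 ≫ _ = k ≫ z.1 ≫ _
      rw [hz, Category.assoc]
    · intro T i j x₀ x₁ hx h' z
      apply Subtype.ext
      have := Coprod.tr_rel (x₀ ≫ Sigma.ι X i) (x₁ ≫ Sigma.ι X j) h'
        ⟨z.1 ≫ Coprod.inj D' i, by
          show (z.1 ≫ Coprod.inj D' i) ≫ Coprod.hh D' = _
          rw [Category.assoc, Coprod.inj_hh, reassoc_of% z.2]⟩ (𝟙 T) x₀ x₁
        (Category.id_comp _).symm (Category.id_comp _).symm hx z (Category.id_comp _).symm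
      exact this.symm.trans (Category.id_comp _)⟩
  have : G.IsEquivalence := {}
  exact Functor.isEquivalence_trans _ G

end Groth.Agent.SchDescent
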