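import Groth.Agent.SchDescent.Coprod
import Groth.Agent.SchDescent.Gluing
import Groth.Agent.SchDescent.Action
import Groth.Agent.SchDescent.Effective
import Groth.Agent.SchDescent.OfAction
import Groth.Agent.HTopV.Fpqc

/-! # effectivity for fpqc families from the affine case -/

universe u

open CategoryTheory CategoryTheory.Limits AlgebraicGeometry TopologicalSpace

namespace Groth.Agent.SchDescent

/-- the base change of a coproduct of morphisms along a map from a coproduct, one member in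
each piece, is the coproduct of the base changes -/
theorem base_change_sigma {m : ℕ} {E : Scheme.{u}} {Q : Fin m → Scheme.{u}} (q : E ⟶ ∐ Q) :
    IsIso (Sigma.desc fun k ↦ pullback.fst q (Sigma.ι Q k)) ∧
      Limits.Sigma.map (fun k ↦ pullback.snd q (Sigma.ι Q k)) =
        Sigma.desc (fun k ↦ pullback.fst q (Sigma.ι Q k)) ≫ q := by
  refine ⟨?_, Sigma.hom_ext _ _ fun k ↦ ?_⟩
  · have hr : ∀ k, (pullback.fst q (Sigma.ι Q k)).opensRange = q ⁻¹ᵁ (Sigma.ι Q k).opensRange :=
      fun k ↦ Opens.ext (IsOpenImmersion.range_pullbackFst _ _)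
    obtain ⟨h⟩ := nonempty_isColimit_cofanMk_of (fun k ↦ pullback.fst q (Sigma.ι Q k)) (by
      refine eq_top_iff.mpr fun z _ ↦ ?_
      obtain ⟨k, a, ha⟩ := (sigmaOpenCover Q).exists_eq (q z)
      exact Opens.mem_iSup.mpr ⟨k, (hr k).symm ▸ ⟨a, ha⟩⟩) (by
      intro i j hij
      show Disjoint (pullback.fst q (Sigma.ι Q i)).opensRange (pullback.fst q (Sigma.ι Q j)).opensRange
      rw [hr, hr, disjoint_iff]
      refine eq_bot_iff.mpr fun z hz ↦ ?_
      obtain ⟨⟨a, ha⟩, b, hb⟩ := hz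
      exact (disjoint_opensRange_sigmaι Q i j hij).le_bot ⟨⟨a, ha⟩, b, hb⟩)
    exact (Cofan.nonempty_isColimit_iff_isIso_sigmaDesc _).mp ⟨h⟩
  · rw [Limits.Sigma.ι_map, Sigma.ι_desc_assoc, pullback.condition]

variable {ι : Type u} {S : Scheme.{u}} {U : ι → Scheme.{u}} {u' : ∀ i, U i ⟶ S}
  (P : MorphismProperty Scheme.{u}) [P.IsStableUnderBaseChange]

set_option maxHeartbeats 1000000 in
/-- effectivity for a family from effectivity for flat surjective morphisms of affine schemes -/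
theorem effective_of_family
    (h2 : ∀ (m : ℕ) (Y V : Fin m → Scheme.{u}) (q : ∀ j, Y j ⟶ V j),
      (∀ j, P (q j)) → P (Limits.Sigma.map q))
    (h3 : ∀ (X S : Scheme.{u}) (p : X ⟶ S), IsAffine X → IsAffine S → Flat p → Surjective p →
      ∀ D : Desc.SchDD p, P D.obj.hom → ∃ U : Over S, Nonempty ((Desc.toDD p).obj U ≅ D))
    (hu : Presieve.ofArrows U u' ∈ Scheme.fpqcPrecoverage S) (D : Desc.SchDDFam u')
    (hD : ∀ i, P (D.obj i).hom) : D.IsEffective := by
  let Ec : PreZeroHypercover.{u} S := PreZeroHypercover.mk ι U u'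
  have hsing : Presieve.singleton (Sigma.desc u') ∈ Scheme.fpqcPrecoverage S :=
    (HTopV.mem_fpqc_iff_sigmaDesc Ec).mp hu
  obtain ⟨hqc, -, hflat⟩ := (HTopV.mem_fpqc_iff Ec).mp hu
  have : Fact (Presieve.singleton (Sigma.desc u') ∈ Scheme.fpqcPrecoverage S) := ⟨hsing⟩
  refine Coprod.isEffective_of_datum D (effective_of_good_cover (Coprod.datum D) fun z ↦ ?_)
  obtain ⟨U0, hU, hz, -⟩ := exists_isAffineOpen_mem_and_subset (U := ⊤)
    (show Sigma.desc u' (Coprod.hh D z) ∈ (⊤ : S.Opens) from trivial)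
  let DD := Coprod.datum D
  let V : DD.obj.left.Opens := DD.obj.hom ⁻¹ᵁ (Sigma.desc u' ⁻¹ᵁ U0)
  have hV : IsStableOpen DD V := isStableOpen_preimage DD U0
  refine ⟨⟨V, hV, ?_⟩, hz⟩
  obtain ⟨m, c, W, hW, hcov⟩ := QuasiCompactCover.exists_isAffineOpen_of_isCompact Ec hU.isCompact
  let Q : Fin m → Scheme.{u} := fun k ↦ (W k).toScheme
  have : ∀ k, IsAffine (Q k) := hW
  have hmem : ∀ k (x : W k), u' (c k) x.1 ∈ U0 := fun k x ↦ by
    have : Ec.f (c k) x.1 ∈ (U0 : Set S) := hcov ▸ Set.mem_iUnion.mpr ⟨k, x.1, x.2, rfl⟩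
    exact this
  let sb : ∀ k, Q k ⟶ U0.toScheme := fun k ↦ IsOpenImmersion.lift U0.ι ((W k).ι ≫ u' (c k)) (by
    rw [Scheme.Opens.range_ι]
    rintro _ ⟨x, rfl⟩
    exact hmem k x)
  have hsb : ∀ k, sb k ≫ U0.ι = (W k).ι ≫ u' (c k) := fun k ↦ IsOpenImmersion.lift_fac _ _ _
  let SB : (∐ Q) ⟶ U0.toScheme := Sigma.desc sb
  let g : (∐ Q) ⟶ ∐ U := Sigma.desc fun k ↦ (W k).ι ≫ Sigma.ι U (c k)
  have hg : g ≫ Sigma.desc u' = SB ≫ U0.ι := Sigma.hom_ext _ _ fun k ↦ by
    simp only [g, SB, Sigma.ι_desc_assoc, Category.assoc, Sigma.ι_desc, hsb]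
  have : IsAffine U0.toScheme := hU
  have : Flat SB := by
    suffices ∀ k, Flat (sb k) from inferInstanceAs (Flat (Sigma.desc sb))
    intro k
    have : Flat (u' (c k)) := hflat (c k)
    have : Flat (sb k ≫ U0.ι) := by rw [hsb]; infer_instance
    exact MorphismProperty.of_isPullback (P := @Flat)
      (IsOpenImmersion.isPullback (sb k) (𝟙 (Q k)) U0.ι (sb k ≫ U0.ι) (by simp) (by
        ext x
        simp)).flip this
  have : Surjective SB := ⟨fun y ↦ by
    have hy : y.1 ∈ (U0 : Set S) := y.2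
    rw [← hcov] at hy
    obtain ⟨k, x, hx, hxy⟩ := Set.mem_iUnion.mp hy
    refine ⟨Sigma.ι Q k ⟨x, hx⟩, U0.ι.injective ?_⟩
    exact (congr($(show Sigma.ι Q k ≫ SB ≫ U0.ι = (W k).ι ≫ u' (c k) by
      simp [SB, hsb]) ⟨x, hx⟩)).trans hxy⟩
  let g' : (∐ Q) ⟶ pullback U0.ι (Sigma.desc u') := pullback.lift SB g hg.symm
  let l : V.toScheme ⟶ pullback U0.ι (Sigma.desc u') :=
    IsOpenImmersion.lift (pullback.snd U0.ι (Sigma.desc u')) (V.ι ≫ DD.obj.hom) (by
      rintro _ ⟨v, rfl⟩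
      rw [IsOpenImmersion.range_pullbackSnd, Scheme.Opens.opensRange_ι]
      exact v.2)
  have hl : l ≫ pullback.snd U0.ι (Sigma.desc u') = V.ι ≫ DD.obj.hom :=
    IsOpenImmersion.lift_fac _ _ _
  let E := pullback (V.ι ≫ DD.obj.hom) (g' ≫ pullback.snd U0.ι (Sigma.desc u'))
  let a : E ⟶ V.toScheme := pullback.fst _ _
  let q : E ⟶ ∐ Q := pullback.snd _ _
  have ha : IsPullback a q (V.ι ≫ DD.obj.hom) (g' ≫ pullback.snd U0.ι (Sigma.desc u')) :=
    IsPullback.of_hasPullback _ _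
  refine exists_isDescent_of_action hV SB U0.ι g' singleton_mem_fpqc (pullback.lift_fst _ _ _) l hl
    a q ha fun σ hσ h1 h2' ↦ exists_quotient_of_effective σ hσ h1 h2'
      (h3 _ _ SB inferInstance inferInstance inferInstance inferInstance _ ?_)
  change P q
  have hg2 : g' ≫ pullback.snd U0.ι (Sigma.desc u') = g := pullback.lift_snd _ _ _
  have hq : ∀ k, P (pullback.snd q (Sigma.ι Q k)) := by
    intro k
    have hleft : IsPullback (a ≫ V.ι) q DD.obj.hom g := by
      refine IsPullback.of_isLimit' ⟨by rw [Category.assoc, ha.w, hg2]⟩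
        (PullbackCone.IsLimit.mk _ (fun s ↦ ha.lift
          (IsOpenImmersion.lift V.ι s.fst (by
            rintro _ ⟨t, rfl⟩
            rw [Scheme.Opens.range_ι]
            show DD.obj.hom (s.fst t) ∈ Sigma.desc u' ⁻¹ᵁ U0
            show Sigma.desc u' (DD.obj.hom (s.fst t)) ∈ U0
            rw [show DD.obj.hom (s.fst t) = g (s.snd t) from congr($(s.condition) t),
              show Sigma.desc u' (g (s.snd t)) = U0.ι (SB (s.snd t)) from congr($hg (s.snd t))]
            exact (SB (s.snd t)).2)) s.snd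
          (by
            refine ((Category.assoc _ _ _).symm.trans (congrArg (· ≫ DD.obj.hom) ?_)).trans
              (s.condition.trans (congrArg (s.snd ≫ ·) hg2.symm))
            exact IsOpenImmersion.lift_fac _ _ _))
          (fun s ↦ (ha.lift_fst_assoc _ _ _ _).trans (IsOpenImmersion.lift_fac _ _ _))
          (fun s ↦ ha.lift_snd _ _ _)
          (fun s w h h' ↦ ha.hom_ext
            (by rw [ha.lift_fst, ← cancel_mono V.ι, Category.assoc, h]; exact (IsOpenImmersion.lift_fac _ _ _).symm)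
            (by rw [ha.lift_snd, h'])))
    have h1 : IsPullback (pullback.fst q (Sigma.ι Q k) ≫ a ≫ V.ι) (pullback.snd q (Sigma.ι Q k))
        (Coprod.hh D) ((W k).ι ≫ Sigma.ι U (c k)) := by
      have := (IsPullback.of_hasPullback q (Sigma.ι Q k)).paste_horiz hleft
      rwa [show Sigma.ι Q k ≫ g = (W k).ι ≫ Sigma.ι U (c k) from Sigma.ι_desc _ _] at this
    let f := (Coprod.isPullback_inj D (c k)).lift (pullback.fst q (Sigma.ι Q k) ≫ a ≫ V.ι)
      (pullback.snd q (Sigma.ι Q k) ≫ (W k).ι) (h1.w.trans (Category.assoc _ _ _).symm)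
    have hf : f ≫ Coprod.inj D (c k) = pullback.fst q (Sigma.ι Q k) ≫ a ≫ V.ι :=
      (Coprod.isPullback_inj D (c k)).lift_fst _ _ _
    have hf' : f ≫ (D.obj (c k)).hom = pullback.snd q (Sigma.ι Q k) ≫ (W k).ι :=
      (Coprod.isPullback_inj D (c k)).lift_snd _ _ _
    rw [← hf] at h1
    exact MorphismProperty.of_isPullback (IsPullback.of_right h1 hf' (Coprod.isPullback_inj D (c k)))
      (hD (c k))
  obtain ⟨hiso, heq⟩ := base_change_sigma q
  have hP := h2 m _ _ (fun k ↦ pullback.snd q (Sigma.ι Q k)) hq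
  rw [heq] at hP
  exact (P.cancel_left_of_respectsIso _ q).mp hP

end Groth.Agent.SchDescent
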