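import Groth.Agent.QuotShLib.Fppf
import Groth.Agent.SchDescent.Family

/-! # descent of relatively representable fppf sheaves -/

set_option backward.isDefEq.respectTransparency false

universe u

open CategoryTheory CategoryTheory.Limits AlgebraicGeometry Opposite

namespace Groth.Agent.SchDescent.SheafDesc

open QuotShLib

variable {S S' : Scheme.{u}}

local notation "K" => Scheme.fppfPrecoverage

/-- `repMap` on composites -/
lemma repMap_comp {A B C : Over S} (g : A ⟶ B) (h : B ⟶ C) :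
    QuotSh.repMap K (g ≫ h) = QuotSh.repMap K g ≫ QuotSh.repMap K h := by
  rw [← Functor.map_comp, ← Functor.whiskerRight_comp, ← yoneda.map_comp]

lemma repMap_id (A : Over S) : QuotSh.repMap K (𝟙 A) = 𝟙 _ := by
  rw [QuotSh.repMap, yoneda.map_id, Functor.whiskerRight_id']
  exact (presheafToSheaf _ _).map_id _

lemma repMap_bijective (W V : Over S) :
    Function.Bijective (fun g : W ⟶ V ↦ QuotSh.repMap K g) := by
  let PV := yoneda.obj V ⋙ uliftFunctor.{u + 1, u}
  have : IsIso (toSheafify (QuotSh.J K S) PV) :=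
    isIso_toSheafify _ ((QuotSh.J K S).uliftYoneda.{u + 1}.obj V).property
  have hb : Function.Bijective ((toSheafify (QuotSh.J K S) PV).app (op W)) :=
    (isIso_iff_bijective _).mp inferInstance
  have e : ∀ g : W ⟶ V, secEquiv K W (QuotSh.rep K V) (QuotSh.repMap K g) =
      (toSheafify (QuotSh.J K S) PV).app (op W) ⟨g⟩ := by
    intro g
    rw [← Category.comp_id (QuotSh.repMap K g), secEquiv_comp, secEquiv_apply,
      Adjunction.homEquiv_id]
    refine (NatTrans.naturality_apply (toSheafify (QuotSh.J K S) PV) g.op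
      (⟨𝟙 V⟩ : ULift.{u + 1} (V ⟶ V))).symm.trans ?_
    change (toSheafify (QuotSh.J K S) PV).app (op W) ⟨g ≫ 𝟙 V⟩ = _
    rw [Category.comp_id]
  have : (fun g : W ⟶ V ↦ QuotSh.repMap K g) = fun g ↦
      (secEquiv K W (QuotSh.rep K V)).symm ((toSheafify (QuotSh.J K S) PV).app (op W) ⟨g⟩) :=
    funext fun g ↦ (Equiv.eq_symm_apply _).mpr (e g)
  rw [this]
  exact (secEquiv K W _).symm.bijective.comp (hb.comp Equiv.ulift.symm.bijective)

lemma isIso_of_bijective {A B : QuotSh.Sh K S} (ψ : A ⟶ B)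
    (h : ∀ W : Over S, Function.Bijective (fun γ : QuotSh.rep K W ⟶ A ↦ γ ≫ ψ)) : IsIso ψ := by
  have : ∀ W, IsIso (ψ.hom.app W) := fun W ↦ by
    rw [isIso_iff_bijective]
    have e : ∀ γ : QuotSh.rep K W.unop ⟶ A,
        ψ.hom.app W (secEquiv K W.unop A γ) = secEquiv K W.unop B (γ ≫ ψ) := fun γ ↦ by
      rw [secEquiv_apply, secEquiv_apply, Adjunction.homEquiv_naturality_right]
      rfl
    have : (ψ.hom.app W : _ → _) = fun x ↦ secEquiv K W.unop B ((secEquiv K W.unop A).symm x ≫ ψ) :=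
      funext fun x ↦ by rw [← e, Equiv.apply_symm_apply]
    rw [this]
    exact (secEquiv K W.unop B).bijective.comp ((h W.unop).comp (secEquiv K W.unop A).symm.bijective)
  have : IsIso ((sheafToPresheaf _ _).map ψ) := NatIso.isIso_of_isIso_app ψ.hom
  exact isIso_of_reflects_iso ψ (sheafToPresheaf _ _)

variable {f : S' ⟶ S} {Z : QuotSh.Sh K S} {T' : Over S} {a : T' ⟶ Over.mk f}
  (φ : QuotSh.rep K T' ≅ Z ⨯ QuotSh.rep K (Over.mk f))

/-- the point of `Z` under a point of `T'` -/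
noncomputable def pt {W : Over S} (v : W ⟶ T') : QuotSh.rep K W ⟶ Z :=
  QuotSh.repMap K v ≫ φ.hom ≫ prod.fst

lemma pt_comp {W W' : Over S} (g : W' ⟶ W) (v : W ⟶ T') :
    QuotSh.repMap K g ≫ pt φ v = pt φ (g ≫ v) := by
  rw [pt, pt, repMap_comp, Category.assoc]

variable (hφ : φ.hom ≫ prod.snd = QuotSh.repMap K a)

include hφ in
lemma pt_ext {W : Over S} {v v' : W ⟶ T'} (ha : v ≫ a = v' ≫ a) (h : pt φ v = pt φ v') : v = v' := by
  apply (repMap_bijective W T').injective
  change QuotSh.repMap K v = QuotSh.repMap K v'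
  rw [← cancel_mono φ.hom]
  apply prod.hom_ext
  · simpa [pt] using h
  · simp only [Category.assoc, hφ, ← repMap_comp, ha]

include hφ in
lemma exists_pt {W : Over S} (x : W ⟶ Over.mk f) (z : QuotSh.rep K W ⟶ Z) :
    ∃ v : W ⟶ T', v ≫ a = x ∧ pt φ v = z := by
  obtain ⟨v, hv⟩ := (repMap_bijective W T').surjective (prod.lift z (QuotSh.repMap K x) ≫ φ.inv)
  change QuotSh.repMap K v = _ at hv
  refine ⟨v, (repMap_bijective W (Over.mk f)).injective ?_, ?_⟩
  · change QuotSh.repMap K (v ≫ a) = QuotSh.repMap K x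
    rw [repMap_comp, hv, ← hφ, Category.assoc, Iso.inv_hom_id_assoc, prod.lift_snd]
  · rw [pt, hv, Category.assoc, Iso.inv_hom_id_assoc, prod.lift_fst]

/-- two points of `T'` with the same point of `Z` -/
def Same {T : Scheme.{u}} (v w : T ⟶ T'.left) : Prop :=
  ∃ h : w ≫ T'.hom = v ≫ T'.hom,
    pt φ (Over.homMk (U := Over.mk (v ≫ T'.hom)) v rfl) = pt φ (Over.homMk (U := Over.mk (v ≫ T'.hom)) w h)

lemma same_iff {W : Over S} (v w : W ⟶ T') : Same φ v.left w.left ↔ pt φ v = pt φ w := by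
  let W₀ : Over S := Over.mk (v.left ≫ T'.hom)
  let c : W ⟶ W₀ := Over.homMk (𝟙 _) ((Category.id_comp _).trans (Over.w v))
  let c' : W₀ ⟶ W := Over.homMk (𝟙 _) ((Category.id_comp _).trans (Over.w v).symm)
  have h₀ : w.left ≫ T'.hom = v.left ≫ T'.hom := (Over.w w).trans (Over.w v).symm
  let v₀ : W₀ ⟶ T' := Over.homMk v.left rfl
  let w₀ : W₀ ⟶ T' := Over.homMk w.left h₀
  have hv : c ≫ v₀ = v := Over.OverMorphism.ext (Category.id_comp _)
  have hw : c ≫ w₀ = w := Over.OverMorphism.ext (Category.id_comp _)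
  have hv' : c' ≫ v = v₀ := Over.OverMorphism.ext (Category.id_comp _)
  have hw' : c' ≫ w = w₀ := Over.OverMorphism.ext (Category.id_comp _)
  refine ⟨fun ⟨_, e⟩ ↦ ?_, fun e ↦ ⟨h₀, ?_⟩⟩
  · rw [← hv, ← hw, ← pt_comp φ c, ← pt_comp φ c]
    exact congrArg _ e
  · change pt φ v₀ = pt φ w₀
    rw [← hv', ← hw', ← pt_comp φ c', ← pt_comp φ c', e]

lemma Same.refl {T : Scheme.{u}} (v : T ⟶ T'.left) : Same φ v v := ⟨rfl, rfl⟩

variable {φ}

lemma Same.symm {T : Scheme.{u}} {v w : T ⟶ T'.left} (h : Same φ v w) : Same φ w v := by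
  obtain ⟨h, e⟩ := h
  exact (same_iff φ (Over.homMk (U := Over.mk (v ≫ T'.hom)) w h) (Over.homMk v rfl)).mpr e.symm

lemma Same.trans {T : Scheme.{u}} {v w x : T ⟶ T'.left} (h : Same φ v w) (h' : Same φ w x) :
    Same φ v x := by
  obtain ⟨h, e⟩ := h
  refine (same_iff φ (Over.homMk (U := Over.mk (v ≫ T'.hom)) v rfl) (Over.homMk x (h'.1.trans h))).mpr ?_
  exact e.trans ((same_iff φ (Over.homMk (U := Over.mk (v ≫ T'.hom)) w h)
    (Over.homMk x (h'.1.trans h))).mp h')

lemma Same.comp {T T₀ : Scheme.{u}} (g : T₀ ⟶ T) {v w : T ⟶ T'.left} (h : Same φ v w) :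
    Same φ (g ≫ v) (g ≫ w) := by
  obtain ⟨h, e⟩ := h
  let G : Over.mk ((g ≫ v) ≫ T'.hom) ⟶ Over.mk (v ≫ T'.hom) := Over.homMk g (Category.assoc _ _ _).symm
  refine (same_iff φ (G ≫ Over.homMk v rfl) (G ≫ Over.homMk w h)).mpr ?_
  rw [← pt_comp, ← pt_comp, e]

include hφ in
lemma Same.eq {T : Scheme.{u}} {v w : T ⟶ T'.left} (h : Same φ v w) (ha : v ≫ a.left = w ≫ a.left) :
    v = w := by
  obtain ⟨h, e⟩ := h
  exact congrArg CommaMorphism.left (pt_ext φ hφ (Over.OverMorphism.ext ha) e)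

include hφ in
lemma exists_same {T : Scheme.{u}} (v : T ⟶ T'.left) (x : T ⟶ S') (h : x ≫ f = v ≫ T'.hom) :
    ∃ w, w ≫ a.left = x ∧ Same φ v w := by
  let W₀ : Over S := Over.mk (v ≫ T'.hom)
  let v₀ : W₀ ⟶ T' := Over.homMk v rfl
  let xh : W₀ ⟶ Over.mk f := Over.homMk x h
  obtain ⟨w, hw, e⟩ := exists_pt φ hφ xh (pt φ v₀)
  have h1 : w.left ≫ a.left = x := congrArg (fun k : W₀ ⟶ Over.mk f ↦ k.left) hw
  exact ⟨w.left, h1, (same_iff φ v₀ w).mpr e.symm⟩

include hφ in
lemma exists_move {T : Scheme.{u}} (x₀ x₁ : T ⟶ S') (h : x₀ ≫ f = x₁ ≫ f)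
    (v : Desc.Lifts (Over.mk a.left) x₀) : ∃ w, w ≫ a.left = x₁ ∧ Same φ v.1 w := by
  refine exists_same hφ v.1 x₁ ?_
  refine (h.symm.trans (congrArg (· ≫ f) v.2.symm)).trans ?_
  exact (Category.assoc _ _ _).trans (congrArg (v.1 ≫ ·) (Over.w a))

/-- the transport -/
noncomputable def move {T : Scheme.{u}} (x₀ x₁ : T ⟶ S') (h : x₀ ≫ f = x₁ ≫ f)
    (v : Desc.Lifts (Over.mk a.left) x₀) : Desc.Lifts (Over.mk a.left) x₁ :=
  ⟨(exists_move hφ x₀ x₁ h v).choose, (exists_move hφ x₀ x₁ h v).choose_spec.1⟩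

lemma move_same {T : Scheme.{u}} (x₀ x₁ : T ⟶ S') (h : x₀ ≫ f = x₁ ≫ f)
    (v : Desc.Lifts (Over.mk a.left) x₀) : Same φ v.1 (move hφ x₀ x₁ h v).1 :=
  (exists_move hφ x₀ x₁ h v).choose_spec.2

include hφ in
lemma lifts_ext {T : Scheme.{u}} {x : T ⟶ S'} {v w : Desc.Lifts (Over.mk a.left) x}
    (h : Same φ v.1 w.1) : v = w := Subtype.ext (h.eq hφ (v.2.trans w.2.symm))

/-- the descent datum -/
noncomputable def datum : Desc.SchDD f where
  obj := Over.mk a.left
  φ T x₀ x₁ h :=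
    { toFun := move hφ x₀ x₁ h
      invFun := move hφ x₁ x₀ h.symm
      left_inv := fun v ↦ lifts_ext hφ ((move_same hφ _ _ _ v).trans (move_same hφ _ _ _ _)).symm
      right_inv := fun v ↦ lifts_ext hφ ((move_same hφ _ _ _ v).trans (move_same hφ _ _ _ _)).symm }
  φ_natural T T₀ g x₀ x₁ h h' v v' hv := by
    let w : Desc.Lifts (Over.mk a.left) (g ≫ x₁) :=
      ⟨g ≫ (move hφ x₀ x₁ h v).1, by rw [Category.assoc, (move hφ x₀ x₁ h v).2]⟩
    exact congrArg Subtype.val (lifts_ext hφ (w := w) ((move_same hφ _ _ h' v').symm.trans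
      (hv.symm ▸ (move_same hφ x₀ x₁ h v).comp g)))
  φ_self T x v := lifts_ext hφ (move_same hφ _ _ rfl v).symm
  φ_comp T x₀ x₁ x₂ h h' v := lifts_ext hφ
    (((move_same hφ _ _ h v).trans (move_same hφ _ _ h' _)).symm.trans (move_same hφ x₀ x₂ (h.trans h') v))

include hφ in
theorem exists_rep_iso [Flat f] [Surjective f] [LocallyOfFinitePresentation f] {U : Over S}
    (e : (Desc.toDD f).obj U ≅ datum hφ) : Nonempty (QuotSh.rep K U ≅ Z) := by
  let P := pullback f U.hom
  let el : P ⟶ T'.left := Over.Hom.left (Desc.SchDD.Hom.hom e.hom)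
  let el' : T'.left ⟶ P := Over.Hom.left (Desc.SchDD.Hom.hom e.inv)
  have hel : el ≫ a.left = pullback.fst _ _ := Over.w e.hom.hom
  have hel' : el' ≫ pullback.fst _ _ = a.left := Over.w e.inv.hom
  have hi : el ≫ el' = 𝟙 _ := congrArg
    (fun k : (Desc.toDD f).obj U ⟶ (Desc.toDD f).obj U ↦ k.hom.left) e.hom_inv_id
  have hi' : el' ≫ el = 𝟙 _ := congrArg (fun k : datum hφ ⟶ datum hφ ↦ k.hom.left) e.inv_hom_id
  have haw : a.left ≫ f = T'.hom := Over.w a
  have helT : el ≫ T'.hom = pullback.snd f U.hom ≫ U.hom := by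
    rw [← haw, reassoc_of% hel, pullback.condition]
  have hsame : ∀ {T : Scheme.{u}} (k k' : T ⟶ P), k ≫ pullback.snd _ _ = k' ≫ pullback.snd _ _ →
      Same φ (k ≫ el) (k' ≫ el) := by
    intro T k k' h
    have hx : (k ≫ pullback.fst _ _) ≫ f = (k' ≫ pullback.fst _ _) ≫ f := by
      rw [Category.assoc, Category.assoc, pullback.condition, reassoc_of% h]
    let V : Desc.Lifts ((Desc.toDD f).obj U).obj (k ≫ pullback.fst _ _) := ⟨k, rfl⟩
    have h1 : (((Desc.toDD f).obj U).φ _ _ hx V).1 = k' :=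
      pullback.hom_ext (pullback.lift_fst _ _ _) ((pullback.lift_snd _ _ _).trans h)
    have h2 := e.hom.comm _ _ hx V (e.hom.push V) rfl
    rw [h1] at h2
    have h3 := move_same hφ _ _ hx (e.hom.push V)
    change (move hφ _ _ hx (e.hom.push V)).1 = k' ≫ el at h2
    rwa [h2] at h3
  let P' : Over S := Over.mk (pullback.snd f U.hom ≫ U.hom)
  let q : P' ⟶ U := Over.homMk (pullback.snd f U.hom) rfl
  let v₀ : P' ⟶ T' := Over.homMk el helT
  have : Flat q.left := inferInstanceAs (Flat (pullback.snd f U.hom))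
  have : Surjective q.left := inferInstanceAs (Surjective (pullback.snd f U.hom))
  have : LocallyOfFinitePresentation q.left :=
    inferInstanceAs (LocallyOfFinitePresentation (pullback.snd f U.hom))
  let R : Over S := Over.mk (pullback.fst q.left q.left ≫ P'.hom)
  let s : R ⟶ P' := Over.homMk (pullback.fst q.left q.left) rfl
  let t : R ⟶ P' := Over.homMk (pullback.snd q.left q.left) (by
    change pullback.snd q.left q.left ≫ q.left ≫ U.hom = pullback.fst q.left q.left ≫ q.left ≫ U.hom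
    rw [← pullback.condition_assoc])
  obtain ⟨ψ, hψ, -⟩ := existsUnique_fac K (generate_singleton_mem_J q.left.singleton_mem_fppfPrecoverage)
    (isKernelPair_of_left (IsPullback.of_hasPullback q.left q.left) : IsKernelPair q s t) (pt φ v₀) (by
      rw [pt_comp, pt_comp]
      exact (same_iff φ (s ≫ v₀) (t ≫ v₀)).mp (hsame _ _ pullback.condition))
  suffices IsIso ψ from ⟨asIso ψ⟩
  have key : ∀ {W : Over S} (u : W ⟶ U) (k : W ⟶ P') (_ : k ≫ q = u),
      QuotSh.repMap K u ≫ ψ = pt φ (k ≫ v₀) := fun u k h ↦ by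
    rw [← h, repMap_comp, Category.assoc, hψ, pt_comp]
  have inj : ∀ (W : Over S) (u u' : W ⟶ U), QuotSh.repMap K u ≫ ψ = QuotSh.repMap K u' ≫ ψ → u = u' := by
    intro W u u' h
    let x := pullback.fst f W.hom
    let π := pullback.snd f W.hom
    let W' : Over S := Over.mk (π ≫ W.hom)
    let qW : W' ⟶ W := Over.homMk π rfl
    let k : ∀ u : W ⟶ U, W' ⟶ P' := fun u ↦ Over.homMk (pullback.lift x (π ≫ u.left)
      (by rw [Category.assoc, Over.w u]; exact pullback.condition)) (by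
      change pullback.lift _ _ _ ≫ pullback.snd f U.hom ≫ U.hom = π ≫ W.hom
      rw [pullback.lift_snd_assoc, Category.assoc, Over.w u])
    have hk : ∀ u : W ⟶ U, k u ≫ q = qW ≫ u := fun u ↦ Over.OverMorphism.ext (pullback.lift_snd _ _ _)
    have h2 : pt φ (k u ≫ v₀) = pt φ (k u' ≫ v₀) := by
      rw [← key _ _ (hk u), ← key _ _ (hk u'), repMap_comp, repMap_comp, Category.assoc, Category.assoc, h]
    have h3 := congrArg (fun v : W' ⟶ T' ↦ v.left ≫ el' ≫ pullback.snd f U.hom)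
      (pt_ext φ hφ (Over.OverMorphism.ext (show ((k u).left ≫ el) ≫ a.left = ((k u').left ≫ el) ≫ a.left by
        rw [Category.assoc, hel, Category.assoc, hel]; simp [k])) h2)
    simp only [Over.comp_left, Category.assoc, v₀, Over.homMk_left, reassoc_of% hi, k,
      pullback.lift_snd] at h3
    have : Epi π := epi_of_mem (Scheme.fppfPrecoverage_le_fpqcPrecoverage _ π.singleton_mem_fppfPrecoverage)
    exact Over.OverMorphism.ext ((cancel_epi π).mp h3)
  refine isIso_of_bijective ψ fun W ↦ ⟨fun γ γ' h ↦ ?_, fun z ↦ ?_⟩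
  · obtain ⟨u, rfl⟩ := (repMap_bijective W U).surjective γ
    obtain ⟨u', rfl⟩ := (repMap_bijective W U).surjective γ'
    exact congrArg (QuotSh.repMap K) (inj W u u' h)
  let π := pullback.snd f W.hom
  let W' : Over S := Over.mk (π ≫ W.hom)
  let qW : W' ⟶ W := Over.homMk π rfl
  obtain ⟨v, hv, hz⟩ := exists_pt φ hφ (W := W') (Over.homMk (pullback.fst f W.hom) pullback.condition)
    (QuotSh.repMap K qW ≫ z)
  let k : W' ⟶ P' := Over.homMk (v.left ≫ el') (by
    change (v.left ≫ el') ≫ pullback.snd f U.hom ≫ U.hom = π ≫ W.hom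
    rw [Category.assoc, ← pullback.condition, reassoc_of% hel', haw]
    exact Over.w v)
  have hkv : k ≫ v₀ = v := Over.OverMorphism.ext (by
    change (v.left ≫ el') ≫ el = v.left
    rw [Category.assoc, hi', Category.comp_id])
  have hk : QuotSh.repMap K (k ≫ q) ≫ ψ = QuotSh.repMap K qW ≫ z := by rw [key _ k rfl, hkv, hz]
  have hπ := Scheme.fppfPrecoverage_le_fpqcPrecoverage _ π.singleton_mem_fppfPrecoverage
  obtain ⟨u₀, hu₀, -⟩ := existsUnique_glue_singleton hπ (k ≫ q).left (by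
    let R : Over S := Over.mk (pullback.fst π π ≫ π ≫ W.hom)
    let s : R ⟶ W' := Over.homMk (pullback.fst π π) rfl
    let t : R ⟶ W' := Over.homMk (pullback.snd π π) (by
      change pullback.snd π π ≫ π ≫ W.hom = pullback.fst π π ≫ π ≫ W.hom
      rw [← pullback.condition_assoc])
    have hst : s ≫ qW = t ≫ qW := Over.OverMorphism.ext pullback.condition
    refine congrArg CommaMorphism.left (inj R (s ≫ k ≫ q) (t ≫ k ≫ q) ?_)
    rw [repMap_comp s, repMap_comp t, Category.assoc, Category.assoc, hk, ← Category.assoc,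
      ← Category.assoc, ← repMap_comp, ← repMap_comp, hst])
  have : Epi π := epi_of_mem hπ
  let u : W ⟶ U := Over.homMk u₀ ((cancel_epi π).mp (by
    rw [reassoc_of% hu₀]
    exact Over.w (k ≫ q)))
  have hu : qW ≫ u = k ≫ q := Over.OverMorphism.ext hu₀
  refine ⟨QuotSh.repMap K u, ?_⟩
  have : Flat qW.left := inferInstanceAs (Flat π)
  have : Surjective qW.left := inferInstanceAs (Surjective π)
  have : LocallyOfFinitePresentation qW.left := inferInstanceAs (LocallyOfFinitePresentation π)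
  let R : Over S := Over.mk (pullback.fst qW.left qW.left ≫ W'.hom)
  let s : R ⟶ W' := Over.homMk (pullback.fst qW.left qW.left) rfl
  let t : R ⟶ W' := Over.homMk (pullback.snd qW.left qW.left) (by
    change pullback.snd qW.left qW.left ≫ qW.left ≫ W.hom = pullback.fst qW.left qW.left ≫ qW.left ≫ W.hom
    rw [← pullback.condition_assoc])
  have hst : s ≫ qW = t ≫ qW := Over.OverMorphism.ext pullback.condition
  refine (existsUnique_fac K (generate_singleton_mem_J qW.left.singleton_mem_fppfPrecoverage)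
    (isKernelPair_of_left (IsPullback.of_hasPullback qW.left qW.left) : IsKernelPair qW s t)
    (QuotSh.repMap K qW ≫ z) ?_).unique ?_ rfl
  · rw [← Category.assoc, ← Category.assoc, ← repMap_comp, ← repMap_comp, hst]
  · change QuotSh.repMap K qW ≫ QuotSh.repMap K u ≫ ψ = _
    rw [← Category.assoc, ← repMap_comp, hu, hk]

end Groth.Agent.SchDescent.SheafDesc
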