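import Groth.Agent.SchDescent.Glue
import Mathlib.AlgebraicGeometry.Morphisms.Flat

/-! # pullback of descent data for families along a refinement -/

set_option backward.isDefEq.respectTransparency false
set_option backward.isDefEq.respectTransparency.types false

universe u

open CategoryTheory CategoryTheory.Limits AlgebraicGeometry

namespace Groth.Agent.SchDescent

variable {ι κ : Type u} {S : Scheme.{u}} {U : ι → Scheme.{u}} {V : κ → Scheme.{u}}
  (u : ∀ i, U i ⟶ S) (v : ∀ j, V j ⟶ S) (α : ι → κ) (g : ∀ i, U i ⟶ V (α i))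
  (w : ∀ i, g i ≫ v (α i) = u i ≫ 𝟙 S)

/-- locally on points of `V j`, lifts to some `U i` exist and morphisms are determined there -/
def LiftsEpi : Prop :=
  ∀ ⦃T : Scheme.{u}⦄ (j : κ) (x₀ : T ⟶ V j) ⦃Z : Scheme.{u}⦄ (y y' : T ⟶ Z),
    (∀ ⦃T' : Scheme.{u}⦄ (s : T' ⟶ T) (i : ι) (t : T' ⟶ U i), t ≫ u i = (s ≫ x₀) ≫ v j →
      s ≫ y = s ≫ y') → y = y'

/-- fpqc locally on points of `V j`, lifts to some `U i` exist -/
def LiftsCover : Prop :=
  ∀ ⦃T : Scheme.{u}⦄ (j : κ) (x₀ : T ⟶ V j), ∃ (K : Type u) (Q : K → Scheme.{u}) (e : ∀ k, Q k ⟶ T),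
    Presieve.ofArrows Q e ∈ Scheme.fpqcPrecoverage T ∧
    ∀ k, ∃ (i : ι) (t : Q k ⟶ U i), t ≫ u i = (e k ≫ x₀) ≫ v j

lemma LiftsCover.liftsEpi (h : LiftsCover u v) : LiftsEpi u v := by
  intro T j x₀ Z y y' H
  obtain ⟨K, Q, e, he, hl⟩ := h j x₀
  refine hom_ext_cover he fun k ↦ ?_
  obtain ⟨i, t, ht⟩ := hl k
  exact H (e k) i t ht

/-- if `u` covers the base -/
lemma liftsCover_of_cover (hu : Presieve.ofArrows U u ∈ Scheme.fpqcPrecoverage S) :
    LiftsCover u v := by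
  intro T j x₀
  refine ⟨ι, fun i ↦ pullback (x₀ ≫ v j) (u i), fun i ↦ pullback.fst _ _,
    Precoverage.mem_coverings_of_isPullback u hu (x₀ ≫ v j) _ (fun i ↦ pullback.snd (x₀ ≫ v j) (u i))
      (fun _ ↦ IsPullback.of_hasPullback _ _), fun k ↦ ⟨k, pullback.snd _ _, ?_⟩⟩
  rw [← pullback.condition, Category.assoc]

/-- if the `g i` cover each `V j` -/
lemma liftsCover_of_refinement (w' : ∀ i, g i ≫ v (α i) = u i)
    (hcov : ∀ j, Presieve.ofArrows (fun i : {i // α i = j} => U i.1)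
      (fun i => g i.1 ≫ eqToHom (congrArg V i.2)) ∈ Scheme.fpqcPrecoverage (V j)) :
    LiftsCover u v := by
  intro T j x₀
  refine ⟨{i // α i = j}, fun i ↦ pullback x₀ (g i.1 ≫ eqToHom (congrArg V i.2)),
    fun i ↦ pullback.fst _ _,
    Precoverage.mem_coverings_of_isPullback _ (hcov j) x₀ _
      (fun i : {i // α i = j} ↦ pullback.snd x₀ (g i.1 ≫ eqToHom (congrArg V i.2)))
      (fun _ ↦ IsPullback.of_hasPullback _ _), fun k ↦ ⟨k.1, pullback.snd _ _, ?_⟩⟩
  obtain ⟨i, rfl⟩ := k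
  simp only [eqToHom_refl, Category.comp_id] at *
  rw [pullback.condition]
  simp only [Category.assoc, eqToHom_refl, Category.comp_id, w']

variable {u v α g} {D D' : Desc.SchDDFam v}

variable (D) in
/-- the point of the pulled back datum over `t` -/
noncomputable def movePt {T : Scheme.{u}} {j : κ} {i : ι} (x₀ : T ⟶ V j) (t : T ⟶ U i)
    (h : x₀ ≫ v j = (t ≫ g i) ≫ v (α i)) (z : Desc.Lifts (D.obj j) x₀) :
    Desc.Lifts (((Desc.pullDDFam w).obj D).obj i) t :=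
  (Desc.liftsPullbackEquiv (D.obj (α i)) (g i) t).symm (D.φ x₀ (t ≫ g i) h z)

include w in
lemma compat_of_lift {T : Scheme.{u}} {j : κ} {i : ι} {x₀ : T ⟶ V j} {t : T ⟶ U i}
    (ht : t ≫ u i = x₀ ≫ v j) : x₀ ≫ v j = (t ≫ g i) ≫ v (α i) := by
  rw [Category.assoc, w, Category.comp_id, ht]

/-- transport a morphism of pulled back data to a point of `D` with a lift to some `U i` -/
noncomputable def transPt (b : (Desc.pullDDFam w).obj D ⟶ (Desc.pullDDFam w).obj D')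
    {T : Scheme.{u}} {j : κ} {i : ι} (x₀ : T ⟶ V j) (t : T ⟶ U i) (ht : t ≫ u i = x₀ ≫ v j)
    (z : Desc.Lifts (D.obj j) x₀) : Desc.Lifts (D'.obj j) x₀ :=
  D'.φ (t ≫ g i) x₀ (compat_of_lift w ht).symm
    (Desc.liftsPullbackEquiv (D'.obj (α i)) (g i) t
      (b.push (movePt w D x₀ t (compat_of_lift w ht) z)))

lemma transPt_indep (b : (Desc.pullDDFam w).obj D ⟶ (Desc.pullDDFam w).obj D')
    {T : Scheme.{u}} {j : κ} {i i' : ι} (x₀ : T ⟶ V j) (t : T ⟶ U i) (ht : t ≫ u i = x₀ ≫ v j)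
    (t' : T ⟶ U i') (ht' : t' ≫ u i' = x₀ ≫ v j) (z : Desc.Lifts (D.obj j) x₀) :
    transPt w b x₀ t ht z = transPt w b x₀ t' ht' z := by
  let q := movePt w D x₀ t (compat_of_lift w ht) z
  let q' := movePt w D x₀ t' (compat_of_lift w ht') z
  have htt : t ≫ u i = t' ≫ u i' := ht.trans ht'.symm
  have hq : ((Desc.pullDDFam w).obj D).φ t t' htt q = q' := by
    change (Desc.liftsPullbackEquiv (D.obj (α i')) (g i') t').symm (D.φ (t ≫ g i) (t' ≫ g i') _
      (Desc.liftsPullbackEquiv (D.obj (α i)) (g i) t q)) = q'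
    simp only [q, q', movePt, Equiv.apply_symm_apply, D.φ_comp]
  have key : ((Desc.pullDDFam w).obj D').φ t t' htt (b.push q) = b.push q' := by
    apply Subtype.ext
    rw [b.comm t t' htt q (b.push q) rfl, hq]
    rfl
  change D'.φ _ _ _ (Desc.liftsPullbackEquiv (D'.obj (α i)) (g i) t (b.push q)) =
    D'.φ _ _ _ (Desc.liftsPullbackEquiv (D'.obj (α i')) (g i') t' (b.push q'))
  rw [← key]
  change _ = D'.φ _ _ _ (Desc.liftsPullbackEquiv (D'.obj (α i')) (g i') t'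
    ((Desc.liftsPullbackEquiv (D'.obj (α i')) (g i') t').symm (D'.φ (t ≫ g i) (t' ≫ g i') _
      (Desc.liftsPullbackEquiv (D'.obj (α i)) (g i) t (b.push q)))))
  rw [Equiv.apply_symm_apply, D'.φ_comp]

lemma transPt_natural (b : (Desc.pullDDFam w).obj D ⟶ (Desc.pullDDFam w).obj D')
    {T T' : Scheme.{u}} (s : T' ⟶ T) {j : κ} {i : ι} (x₀ : T ⟶ V j) (t : T ⟶ U i)
    (ht : t ≫ u i = x₀ ≫ v j) (z : Desc.Lifts (D.obj j) x₀)
    (y₀ : T' ⟶ V j) (hy : s ≫ x₀ = y₀) (ht' : (s ≫ t) ≫ u i = y₀ ≫ v j)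
    (z' : Desc.Lifts (D.obj j) y₀) (hz : z'.1 = s ≫ z.1) :
    (transPt w b y₀ (s ≫ t) ht' z').1 = s ≫ (transPt w b x₀ t ht z).1 := by
  refine D'.φ_natural s (t ≫ g i) x₀ _ ((s ≫ t) ≫ g i) y₀ (Category.assoc _ _ _).symm hy _ _ _ ?_
  have hm : (movePt w D y₀ (s ≫ t) (compat_of_lift w ht') z').1 =
      s ≫ (movePt w D x₀ t (compat_of_lift w ht) z).1 := by
    apply pullback.hom_ext
    · rw [Category.assoc]
      refine (pullback.lift_fst _ _ _).trans ?_
      rw [D.φ_natural s x₀ (t ≫ g i) (compat_of_lift w ht) y₀ ((s ≫ t) ≫ g i) hy (Category.assoc _ _ _).symm _ z z' hz]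
      exact congrArg (s ≫ ·) (pullback.lift_fst _ _ _).symm
    · rw [Category.assoc]
      exact (pullback.lift_snd _ _ _).trans (congrArg (s ≫ ·) (pullback.lift_snd _ _ _).symm)
  change ((movePt w D y₀ (s ≫ t) _ z').1 ≫ _) ≫ _ = s ≫ ((movePt w D x₀ t _ z).1 ≫ _) ≫ _
  rw [hm]
  simp only [Category.assoc]

lemma transPt_transport (b : (Desc.pullDDFam w).obj D ⟶ (Desc.pullDDFam w).obj D')
    {T : Scheme.{u}} {j k : κ} {i : ι} (x₀ : T ⟶ V j) (x₁ : T ⟶ V k) (h : x₀ ≫ v j = x₁ ≫ v k)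
    (t : T ⟶ U i) (ht : t ≫ u i = x₀ ≫ v j) (z : Desc.Lifts (D.obj j) x₀) :
    D'.φ x₀ x₁ h (transPt w b x₀ t ht z) =
      transPt w b x₁ t (ht.trans h) (D.φ x₀ x₁ h z) := by
  simp only [transPt, movePt, D.φ_comp, D'.φ_comp]

theorem faithful_pullDDFam (h : LiftsEpi u v) :
    (Desc.pullDDFam (f := v) (f' := u) (α := α) (p := 𝟙 S) (p' := g) w).Faithful := by
  refine ⟨fun {D D'} a a' e ↦ Desc.SchDDFam.hom_ext (funext fun j ↦ Over.OverMorphism.ext ?_)⟩
  refine h j (D.obj j).hom (a.hom j).left (a'.hom j).left fun T s i t ht ↦ ?_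
  let z : Desc.Lifts (D.obj j) (s ≫ (D.obj j).hom) := ⟨s, rfl⟩
  let q := movePt w D _ t (compat_of_lift w ht) z
  have hb : ∀ a : D ⟶ D', ((Desc.liftsPullbackEquiv (D'.obj (α i)) (g i) t)
      (((Desc.pullDDFam w).map a).push q)).1 =
      (D.φ _ (t ≫ g i) (compat_of_lift w ht) z).1 ≫ (a.hom (α i)).left := fun a ↦ by
    change (q.1 ≫ _) ≫ pullback.fst _ _ = _
    refine (Category.assoc _ _ _).trans ?_
    erw [pullback.lift_fst]
    rw [← Category.assoc]
    exact congrArg (· ≫ _) (pullback.lift_fst _ _ _)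
  have hc : ∀ a : D ⟶ D', D'.φ (t ≫ g i) _ (compat_of_lift w ht).symm
      ((Desc.liftsPullbackEquiv (D'.obj (α i)) (g i) t) (((Desc.pullDDFam w).map a).push q)) =
      a.push z := fun a ↦ by
    apply Subtype.ext
    rw [a.comm _ _ _ (D.φ _ (t ≫ g i) (compat_of_lift w ht) z) _ (hb a), D.φ_comp, D.φ_self]
    rfl
  exact congrArg Subtype.val ((hc a).symm.trans (e ▸ hc a'))

theorem full_pullDDFam (h : LiftsCover u v) :
    (Desc.pullDDFam (f := v) (f' := u) (α := α) (p := 𝟙 S) (p' := g) w).Full := by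
  refine ⟨fun {D D'} b ↦ ?_⟩
  choose K Q e he il hl using fun j ↦ h j (D.obj j).hom
  choose tl htl using hl
  let x : ∀ j k, Q j k ⟶ (D'.obj j).left := fun j k ↦
    (transPt w b (e j k ≫ (D.obj j).hom) (tl j k) (htl j k) ⟨e j k, rfl⟩).1
  have hx : ∀ j k l, pullback.fst (e j k) (e j l) ≫ x j k = pullback.snd (e j k) (e j l) ≫ x j l := by
    intro j k l
    let s := pullback.fst (e j k) (e j l)
    let s' := pullback.snd (e j k) (e j l)
    have hs : s ≫ e j k = s' ≫ e j l := pullback.condition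
    have h₂ : (s' ≫ tl j l) ≫ u _ = (s ≫ e j k ≫ (D.obj j).hom) ≫ v j := by
      rw [Category.assoc, htl, ← Category.assoc s, hs]
      simp only [Category.assoc]
    have h₁ : (s ≫ tl j k) ≫ u _ = (s ≫ e j k ≫ (D.obj j).hom) ≫ v j := by
      rw [Category.assoc, htl]
      simp only [Category.assoc]
    rw [← transPt_natural w b s (e j k ≫ (D.obj j).hom) (tl j k) (htl j k) ⟨e j k, rfl⟩ _ rfl h₁
        ⟨s ≫ e j k, Category.assoc _ _ _⟩ rfl,
      transPt_indep w b _ (s ≫ tl j k) h₁ (s' ≫ tl j l) h₂,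
      transPt_natural w b s' (e j l ≫ (D.obj j).hom) (tl j l) (htl j l) ⟨e j l, rfl⟩
        (s ≫ e j k ≫ (D.obj j).hom) (by rw [← Category.assoc s, hs, Category.assoc]) h₂ _
        (by exact hs)]
  choose a ha _ using fun j ↦ existsUnique_glue (he j) (x j) (hx j)
  have key : ∀ {T : Scheme.{u}} {j : κ} {i : ι} (x₀ : T ⟶ V j) (t : T ⟶ U i)
      (ht : t ≫ u i = x₀ ≫ v j) (z : Desc.Lifts (D.obj j) x₀),
      z.1 ≫ a j = (transPt w b x₀ t ht z).1 := by
    intro T j i x₀ t ht z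
    refine hom_ext_cover (Precoverage.mem_coverings_of_isPullback (e j) (he j) z.1
      (fun k ↦ pullback.fst z.1 (e j k)) (fun k ↦ pullback.snd z.1 (e j k))
      (fun _ ↦ IsPullback.of_hasPullback _ _)) fun k ↦ ?_
    let s := pullback.fst z.1 (e j k)
    let s' := pullback.snd z.1 (e j k)
    have hs : s ≫ z.1 = s' ≫ e j k := pullback.condition
    have hs0 : s' ≫ e j k ≫ (D.obj j).hom = s ≫ x₀ := by
      rw [← Category.assoc, ← hs, Category.assoc, z.2]
    have h₂ : (s' ≫ tl j k) ≫ u _ = (s ≫ x₀) ≫ v j := by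
      rw [Category.assoc, htl, ← hs0]
      simp only [Category.assoc]
    rw [← Category.assoc, hs, Category.assoc, ha j k]
    change s' ≫ _ = s ≫ _
    rw [← transPt_natural w b s' (e j k ≫ (D.obj j).hom) (tl j k) (htl j k) ⟨e j k, rfl⟩ _ hs0 h₂
        ⟨s' ≫ e j k, by rw [Category.assoc, hs0]⟩ rfl,
      transPt_indep w b _ (s' ≫ tl j k) h₂ (s ≫ t) (by rw [Category.assoc, ht, Category.assoc]),
      transPt_natural w b s x₀ t ht z (s ≫ x₀) rfl _ _ (by exact hs.symm)]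
  have ha' : ∀ j, a j ≫ (D'.obj j).hom = (D.obj j).hom := fun j ↦
    hom_ext_cover (he j) fun k ↦ by rw [reassoc_of% (ha j k)]; exact (transPt w b _ _ _ _).2
  refine ⟨⟨fun j ↦ Over.homMk (a j) (ha' j), fun T j₀ j₁ x₀ x₁ hxx z z' hz' ↦ ?_⟩, ?_⟩
  · change _ = (D.φ x₀ x₁ hxx z).1 ≫ a j₁
    refine (h.liftsEpi) j₀ x₀ _ _ fun T' s i t ht ↦ ?_
    have h' : (s ≫ x₀) ≫ v j₀ = (s ≫ x₁) ≫ v j₁ := by simp only [Category.assoc, hxx]
    rw [← Category.assoc s,
      ← D.φ_natural s x₀ x₁ hxx (s ≫ x₀) (s ≫ x₁) rfl rfl h' z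
        ⟨s ≫ z.1, by rw [Category.assoc, z.2]⟩ rfl,
      key (s ≫ x₁) t (ht.trans h') (D.φ _ _ h' ⟨s ≫ z.1, by rw [Category.assoc, z.2]⟩),
      ← transPt_transport w b (s ≫ x₀) (s ≫ x₁) h' t ht,
      ← D'.φ_natural s x₀ x₁ hxx (s ≫ x₀) (s ≫ x₁) rfl rfl h' z'
        (transPt w b (s ≫ x₀) t ht ⟨s ≫ z.1, by rw [Category.assoc, z.2]⟩) ?_]
    rw [← key]
    rw [hz']
    exact Category.assoc _ _ _
  · refine Desc.SchDDFam.hom_ext (funext fun i ↦ Over.OverMorphism.ext ?_)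
    apply pullback.hom_ext
    · let t := pullback.snd (D.obj (α i)).hom (g i)
      let z : Desc.Lifts (D.obj (α i)) (t ≫ g i) := ⟨pullback.fst _ _, pullback.condition⟩
      refine (pullback.lift_fst _ _ _).trans ?_
      refine (key (t ≫ g i) t (by rw [Category.assoc, w, Category.comp_id]) z).trans ?_
      rw [transPt, D'.φ_self]
      refine congrArg (· ≫ pullback.fst _ _) ?_
      have : (movePt w D (t ≫ g i) t rfl z).1 = 𝟙 _ := by
        apply pullback.hom_ext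
        · refine (pullback.lift_fst _ _ _).trans ?_
          rw [D.φ_self]
          exact (Category.id_comp _).symm
        · exact (pullback.lift_snd _ _ _).trans (Category.id_comp _).symm
      exact (congrArg (· ≫ _) this).trans (Category.id_comp _)
    · exact (pullback.lift_snd _ _ _).trans ((Category.comp_id _).trans (Over.w (b.hom i)).symm)

end Groth.Agent.SchDescent
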