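import Groth.Agent.SchDescent.PullEquiv
import Groth.Agent.SchDescent.Section
import Groth.Agent.HTopV.Fpqc

/-! # descent data along a refinement by Zariski coverings of the members -/

set_option backward.isDefEq.respectTransparency false
set_option backward.isDefEq.respectTransparency.types false

universe u

open CategoryTheory CategoryTheory.Limits AlgebraicGeometry TopologicalSpace

namespace Groth.Agent.SchDescent

variable {ι κ : Type u} {S : Scheme.{u}} {U : ι → Scheme.{u}} {V : κ → Scheme.{u}}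

/-- effectivity for families of Zariski coverings -/
theorem isEffective_of_zariski {f : ∀ i, U i ⟶ S}
    (hf : Presieve.ofArrows U f ∈ Scheme.zariskiPrecoverage S) (D : Desc.SchDDFam f) :
    D.IsEffective := by
  obtain ⟨hsurj, hopen⟩ := (Scheme.ofArrows_mem_precoverage_iff (P := @IsOpenImmersion)).mp hf
  let Ec : PreZeroHypercover.{u} S := PreZeroHypercover.mk ι U f
  have hsing : Presieve.singleton (Sigma.desc f) ∈ Scheme.fpqcPrecoverage S :=
    (HTopV.mem_fpqc_iff_sigmaDesc Ec).mp (Scheme.zariskiPrecoverage_le_fpqcPrecoverage _ hf)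
  have : Fact (Presieve.singleton (Sigma.desc f) ∈ Scheme.fpqcPrecoverage S) := ⟨hsing⟩
  refine Coprod.isEffective_of_datum D (effective_of_locally_section _ fun y ↦ ?_)
  obtain ⟨i, x, rfl⟩ := hsurj y
  have := hopen i
  exact ⟨(f i).opensRange, (f i).isoOpensRange.inv ≫ Sigma.ι U i, ⟨x, rfl⟩, by
    rw [Category.assoc, Sigma.ι_desc, Iso.inv_comp_eq, Scheme.Hom.isoOpensRange_hom_ι]⟩

variable (u : ∀ i, U i ⟶ S) (v : ∀ j, V j ⟶ S) (α : ι → κ) (g : ∀ i, U i ⟶ V (α i))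

/-- members of the finer family over the `j`-th member -/
abbrev Sub (j : κ) : Type u := {i // α i = j}

/-- the maps to the `j`-th member -/
noncomputable def gg (j : κ) (i : Sub α j) : U i.1 ⟶ V j := g i.1 ≫ eqToHom (congrArg V i.2)

variable {u v α g}

lemma gg_comp (w : ∀ i, g i ≫ v (α i) = u i) {j : κ} (i : Sub α j) : gg α g j i ≫ v j = u i.1 := by
  obtain ⟨i, rfl⟩ := i
  simp [gg, w]

lemma same_image (w : ∀ i, g i ≫ v (α i) = u i) {T : Scheme.{u}} {j k : κ} {i : Sub α j}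
    {i' : Sub α k} {x₀ : T ⟶ V j} {x₁ : T ⟶ V k} (h : x₀ ≫ v j = x₁ ≫ v k)
    {t : T ⟶ U i.1} {t' : T ⟶ U i'.1} (ht : t ≫ gg α g j i = x₀) (ht' : t' ≫ gg α g k i' = x₁) :
    t ≫ u i.1 = t' ≫ u i'.1 := by
  rw [← gg_comp w i, ← gg_comp w i', reassoc_of% ht, reassoc_of% ht', h]

/-- the part of a datum over the `j`-th member -/
noncomputable def subDatum (w : ∀ i, g i ≫ v (α i) = u i) (E : Desc.SchDDFam u) (j : κ) :
    Desc.SchDDFam (gg α g j) where
  obj i := E.obj i.1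
  φ T _ _ x₀ x₁ h := E.φ x₀ x₁ (same_image w rfl h rfl)
  φ_natural T T' k i i' x₀ x₁ h y₀ y₁ e₀ e₁ h' z z' hz := E.φ_natural k x₀ x₁ _ y₀ y₁ e₀ e₁ _ z z' hz
  φ_self T i x z := E.φ_self x z
  φ_comp T i i' i'' x₀ x₁ x₂ h h' z := E.φ_comp _ _ _ _ _ z

variable (E : Desc.SchDDFam u) (W : ∀ j, Over (V j))

/-- comparison of points of a datum and of candidate descended schemes -/
structure PtEquiv where
  /-- the bijections -/
  η : ∀ {T : Scheme.{u}} {j : κ} (i : Sub α j) (t : T ⟶ U i.1),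
    Desc.Lifts (E.obj i.1) t ≃ Desc.Lifts (W j) (t ≫ gg α g j i)
  natural : ∀ {T T' : Scheme.{u}} (k : T' ⟶ T) {j : κ} (i : Sub α j) (t : T ⟶ U i.1) (t' : T' ⟶ U i.1)
    (_ : k ≫ t = t') (z : Desc.Lifts (E.obj i.1) t) (z' : Desc.Lifts (E.obj i.1) t'),
    z'.1 = k ≫ z.1 → (η i t' z').1 = k ≫ (η i t z).1
  compat : ∀ {T : Scheme.{u}} {j : κ} (i i' : Sub α j) (t : T ⟶ U i.1) (t' : T ⟶ U i'.1)
    (_ : t ≫ gg α g j i = t' ≫ gg α g j i') (h' : t ≫ u i.1 = t' ≫ u i'.1)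
    (z : Desc.Lifts (E.obj i.1) t), (η i' t' (E.φ t t' h' z)).1 = (η i t z).1

theorem exists_ptEquiv (w : ∀ i, g i ≫ v (α i) = u i)
    (hcov : ∀ j, Presieve.ofArrows (fun i : Sub α j => U i.1) (gg α g j) ∈
      Scheme.zariskiPrecoverage (V j)) :
    ∃ W : ∀ j, Over (V j), Nonempty (PtEquiv (α := α) (g := g) E W) := by
  choose W hW using fun j ↦ isEffective_of_zariski (hcov j) (subDatum w E j)
  let e := fun j ↦ (hW j).some
  let η : ∀ {T : Scheme.{u}} {j : κ} (i : Sub α j) (t : T ⟶ U i.1),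
      Desc.Lifts (E.obj i.1) t ≃ Desc.Lifts (W j) (t ≫ gg α g j i) := fun {T j} i t ↦
    { toFun z := ⟨((e j).inv.push (x := t) z).1 ≫ pullback.snd (gg α g j i) (W j).hom, by
        rw [Category.assoc, ← pullback.condition]
        exact (Category.assoc _ _ _).symm.trans (congrArg (· ≫ gg α g j i) ((e j).inv.push (x := t) z).2)⟩
      invFun x := (e j).hom.push (x := t) (i := i) ⟨pullback.lift t x.1 x.2.symm, pullback.lift_fst _ _ _⟩
      left_inv z := by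
        apply Subtype.ext
        refine (congrArg (· ≫ ((e j).hom.hom i).left) (show pullback.lift t
          (((e j).inv.push (x := t) z).1 ≫ pullback.snd (gg α g j i) (W j).hom) _ =
            ((e j).inv.push (x := t) z).1 from pullback.hom_ext
          ((pullback.lift_fst _ _ _).trans ((e j).inv.push (x := t) z).2.symm)
          (pullback.lift_snd _ _ _))).trans ?_
        refine (Category.assoc _ _ _).trans ?_
        rw [← Over.comp_left, ← Desc.SchDDFam.comp_hom, Iso.inv_hom_id]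
        exact Category.comp_id _
      right_inv x := by
        apply Subtype.ext
        change ((pullback.lift t x.1 x.2.symm ≫ ((e j).hom.hom i).left) ≫ ((e j).inv.hom i).left) ≫ _ = x.1
        rw [Category.assoc (pullback.lift t x.1 x.2.symm), ← Over.comp_left, ← Desc.SchDDFam.comp_hom,
          Iso.hom_inv_id]
        exact (congrArg (· ≫ _) (Category.comp_id _)).trans (pullback.lift_snd _ _ _) }
  refine ⟨W, ⟨⟨η, ?_, ?_⟩⟩⟩
  · intro T T' k j i t t' _ z z' hz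
    change (z'.1 ≫ _) ≫ _ = k ≫ (z.1 ≫ _) ≫ _
    rw [hz]
    simp only [Category.assoc]
  · intro T j i i' t t' h h' z
    change (((subDatum w E j).φ t t' h z).1 ≫ ((e j).inv.hom i').left) ≫ _ = _
    rw [← (e j).inv.comm t t' h z ((e j).inv.push (x := t) z) rfl]
    exact pullback.lift_snd _ _ _

variable {E W} (P : PtEquiv (α := α) (g := g) E W) (w : ∀ i, g i ≫ v (α i) = u i)

namespace PtEquiv

/-- corresponding points over two members with the same image -/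
def Rel {T : Scheme.{u}} {j k : κ} (x₀ : T ⟶ V j) (x₁ : T ⟶ V k) (a : Desc.Lifts (W j) x₀)
    (b : Desc.Lifts (W k) x₁) : Prop :=
  ∀ ⦃T' : Scheme.{u}⦄ (s : T' ⟶ T) (i : Sub α j) (i' : Sub α k) (t : T' ⟶ U i.1) (t' : T' ⟶ U i'.1)
    (ht : t ≫ gg α g j i = s ≫ x₀) (_ : t' ≫ gg α g k i' = s ≫ x₁) (h : t ≫ u i.1 = t' ≫ u i'.1),
    (P.η i' t' (E.φ t t' h ((P.η i t).symm ⟨s ≫ a.1, by rw [Category.assoc, a.2, ht]⟩))).1 = s ≫ b.1

lemma exists_cover (hcov : ∀ j, Presieve.ofArrows (fun i : Sub α j => U i.1) (gg α g j) ∈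
      Scheme.fpqcPrecoverage (V j)) {T : Scheme.{u}} {j k : κ} (x₀ : T ⟶ V j) (x₁ : T ⟶ V k) :
    ∃ (K : Type u) (Q : K → Scheme.{u}) (e : ∀ l, Q l ⟶ T),
      Presieve.ofArrows Q e ∈ Scheme.fpqcPrecoverage T ∧
      ∀ l, ∃ (i : Sub α j) (i' : Sub α k) (t : Q l ⟶ U i.1) (t' : Q l ⟶ U i'.1),
        t ≫ gg α g j i = e l ≫ x₀ ∧ t' ≫ gg α g k i' = e l ≫ x₁ := by
  let A : Sub α j → Scheme.{u} := fun i ↦ pullback x₀ (gg α g j i)
  have hA : Presieve.ofArrows A (fun i ↦ pullback.fst x₀ (gg α g j i)) ∈ Scheme.fpqcPrecoverage T :=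
    Precoverage.mem_coverings_of_isPullback _ (hcov j) x₀ _ (fun i ↦ pullback.snd x₀ (gg α g j i))
      (fun _ ↦ IsPullback.of_hasPullback _ _)
  let B : ∀ _ : Sub α j, Sub α k → Scheme.{u} := fun i i' ↦
    pullback (pullback.fst x₀ (gg α g j i) ≫ x₁) (gg α g k i')
  have hB : ∀ i, Presieve.ofArrows (B i) (fun i' ↦ pullback.fst _ _) ∈ Scheme.fpqcPrecoverage (A i) :=
    fun i ↦ Precoverage.mem_coverings_of_isPullback _ (hcov k) _ _ (fun i' ↦ pullback.snd _ (gg α g k i'))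
      (fun _ ↦ IsPullback.of_hasPullback _ _)
  refine ⟨Σ _ : Sub α j, Sub α k, fun l ↦ B l.1 l.2, fun l ↦ pullback.fst _ _ ≫ pullback.fst _ _,
    Precoverage.comp_mem_coverings _ hA _ hB, fun l ↦ ⟨l.1, l.2,
      pullback.fst _ _ ≫ pullback.snd _ _, pullback.snd _ _, ?_, ?_⟩⟩
  · rw [Category.assoc, ← pullback.condition, Category.assoc]
  · rw [← pullback.condition, Category.assoc]

variable {P}

lemma η_symm_natural {T T' : Scheme.{u}} (k : T' ⟶ T) {j : κ} (i : Sub α j) (t : T ⟶ U i.1)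
    (t' : T' ⟶ U i.1) (ht : k ≫ t = t') (a : Desc.Lifts (W j) (t ≫ gg α g j i))
    (a' : Desc.Lifts (W j) (t' ≫ gg α g j i)) (ha : a'.1 = k ≫ a.1) :
    ((P.η i t').symm a').1 = k ≫ ((P.η i t).symm a).1 := by
  let z' : Desc.Lifts (E.obj i.1) t' :=
    ⟨k ≫ ((P.η i t).symm a).1, by rw [Category.assoc, ((P.η i t).symm a).2, ht]⟩
  have : P.η i t' z' = a' := Subtype.ext (by
    rw [P.natural k i t t' ht _ z' rfl, Equiv.apply_symm_apply, ha])
  rw [← this, Equiv.symm_apply_apply]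

include w in
lemma exists_rel (hcov : ∀ j, Presieve.ofArrows (fun i : Sub α j => U i.1) (gg α g j) ∈
      Scheme.fpqcPrecoverage (V j)) {T : Scheme.{u}} {j k : κ} (x₀ : T ⟶ V j) (x₁ : T ⟶ V k)
    (h : x₀ ≫ v j = x₁ ≫ v k) (a : Desc.Lifts (W j) x₀) :
    ∃ b, P.Rel x₀ x₁ a b := by
  obtain ⟨K, Q, e, he, hl⟩ := exists_cover hcov x₀ x₁
  choose il il' tl tl' htl htl' using hl
  let val : ∀ {T' : Scheme.{u}} (s : T' ⟶ T) (i : Sub α j) (i' : Sub α k) (t : T' ⟶ U i.1)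
      (t' : T' ⟶ U i'.1) (_ : t ≫ gg α g j i = s ≫ x₀) (_ : t ≫ u i.1 = t' ≫ u i'.1),
      (T' ⟶ (W k).left) := fun s i i' t t' ht h ↦
    (P.η i' t' (E.φ t t' h ((P.η i t).symm ⟨s ≫ a.1, by rw [Category.assoc, a.2, ht]⟩))).1
  have him : ∀ {T' : Scheme.{u}} (s : T' ⟶ T) (i : Sub α j) (i' : Sub α k) (t : T' ⟶ U i.1)
      (t' : T' ⟶ U i'.1), t ≫ gg α g j i = s ≫ x₀ → t' ≫ gg α g k i' = s ≫ x₁ →
      t ≫ u i.1 = t' ≫ u i'.1 := fun s i i' t t' ht ht' ↦
    same_image w (x₀ := s ≫ x₀) (x₁ := s ≫ x₁) (by simp only [Category.assoc, h]) ht ht'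
  have indep : ∀ {T' : Scheme.{u}} (s : T' ⟶ T) (i l : Sub α j) (i' l' : Sub α k) (t : T' ⟶ U i.1)
      (t' : T' ⟶ U i'.1) (r : T' ⟶ U l.1) (r' : T' ⟶ U l'.1) (ht : t ≫ gg α g j i = s ≫ x₀)
      (ht' : t' ≫ gg α g k i' = s ≫ x₁) (hr : r ≫ gg α g j l = s ≫ x₀)
      (hr' : r' ≫ gg α g k l' = s ≫ x₁),
      val s i i' t t' ht (him s i i' t t' ht ht') = val s l l' r r' hr (him s l l' r r' hr hr') := by
    intro T' s i l i' l' t t' r r' ht ht' hr hr'
    have h01 : t ≫ u i.1 = r ≫ u l.1 := same_image w rfl ht hr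
    have h01' : t' ≫ u i'.1 = r' ≫ u l'.1 := same_image w rfl ht' hr'
    let zt := (P.η i t).symm ⟨s ≫ a.1, by rw [Category.assoc, a.2, ht]⟩
    have hz : (P.η l r).symm ⟨s ≫ a.1, by rw [Category.assoc, a.2, hr]⟩ = E.φ t r h01 zt := by
      apply (P.η l r).injective
      rw [Equiv.apply_symm_apply]
      apply Subtype.ext
      rw [P.compat i l t r (ht.trans hr.symm) h01 zt, Equiv.apply_symm_apply]
    simp only [val, hz, E.φ_comp]
    rw [← P.compat i' l' t' r' (ht'.trans hr'.symm) h01', E.φ_comp]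
  have vnat : ∀ {T' T'' : Scheme.{u}} (q : T'' ⟶ T') (s : T' ⟶ T) (s' : T'' ⟶ T) (hs : q ≫ s = s')
      (i : Sub α j) (i' : Sub α k) (t : T' ⟶ U i.1) (t' : T' ⟶ U i'.1)
      (ht : t ≫ gg α g j i = s ≫ x₀) (ht' : t' ≫ gg α g k i' = s ≫ x₁)
      (hq : (q ≫ t) ≫ gg α g j i = s' ≫ x₀) (hq' : (q ≫ t') ≫ gg α g k i' = s' ≫ x₁),
      val s' i i' (q ≫ t) (q ≫ t') hq (him s' i i' _ _ hq hq') =
        q ≫ val s i i' t t' ht (him s i i' t t' ht ht') := by
    intro T' T'' q s s' hs i i' t t' ht ht' hq hq'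
    refine P.natural q i' t' (q ≫ t') rfl _ _ ?_
    refine E.φ_natural q t t' _ _ _ rfl rfl _ _ _ ?_
    subst hs
    exact η_symm_natural q i t _ rfl _ _ (Category.assoc _ _ _)
  obtain ⟨b, hb, -⟩ := existsUnique_glue he
    (fun l ↦ val (e l) (il l) (il' l) (tl l) (tl' l) (htl l) (him _ _ _ _ _ (htl l) (htl' l)))
    (fun l m ↦ by
      let q := pullback.fst (e l) (e m)
      let q' := pullback.snd (e l) (e m)
      have hq : (q ≫ e l) = q' ≫ e m := pullback.condition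
      rw [← vnat q (e l) (q ≫ e l) rfl _ _ _ _ (htl l) (htl' l) (by rw [Category.assoc, htl, Category.assoc])
          (by rw [Category.assoc, htl', Category.assoc]),
        ← vnat q' (e m) (q ≫ e l) hq.symm _ _ _ _ (htl m) (htl' m)
          (by rw [Category.assoc, htl, ← Category.assoc, ← hq]) (by rw [Category.assoc, htl', ← Category.assoc, ← hq])]
      exact indep (q ≫ e l) (il l) (il m) (il' l) (il' m) _ _ _ _
        (by rw [Category.assoc, htl, Category.assoc]) (by rw [Category.assoc, htl', Category.assoc])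
        (by rw [Category.assoc, htl, ← Category.assoc, ← hq])
        (by rw [Category.assoc, htl', ← Category.assoc, ← hq]))
  have hb2 : b ≫ (W k).hom = x₁ := hom_ext_cover he fun l ↦ by
    rw [reassoc_of% (hb l)]
    exact (P.η (il' l) (tl' l) _).2.trans (htl' l)
  refine ⟨⟨b, hb2⟩, fun T' s i i' t t' ht ht' hh ↦ ?_⟩
  refine hom_ext_cover (Precoverage.mem_coverings_of_isPullback e he s
    (fun l ↦ pullback.fst s (e l)) (fun l ↦ pullback.snd s (e l))
    (fun _ ↦ IsPullback.of_hasPullback _ _)) fun l ↦ ?_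
  let q := pullback.fst s (e l)
  let q' := pullback.snd s (e l)
  have hq : q ≫ s = q' ≫ e l := pullback.condition
  change q ≫ val s i i' t t' ht (him s i i' t t' ht ht') = q ≫ s ≫ b
  rw [← Category.assoc, hq, Category.assoc, hb l,
    ← vnat q s (q ≫ s) rfl _ _ _ _ ht ht' (by rw [Category.assoc, ht, Category.assoc])
      (by rw [Category.assoc, ht', Category.assoc]),
    ← vnat q' (e l) (q ≫ s) hq.symm _ _ _ _ (htl l) (htl' l)
      (by rw [Category.assoc, htl, ← Category.assoc, ← hq]) (by rw [Category.assoc, htl', ← Category.assoc, ← hq])]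
  exact indep (q ≫ s) i (il l) i' (il' l) _ _ _ _
    (by rw [Category.assoc, ht, Category.assoc]) (by rw [Category.assoc, ht', Category.assoc])
    (by rw [Category.assoc, htl, ← Category.assoc, ← hq]) (by rw [Category.assoc, htl', ← Category.assoc, ← hq])

variable (hcov : ∀ j, Presieve.ofArrows (fun i : Sub α j => U i.1) (gg α g j) ∈
      Scheme.fpqcPrecoverage (V j))

include w hcov in
lemma Rel.unique {T : Scheme.{u}} {j k : κ} {x₀ : T ⟶ V j} {x₁ : T ⟶ V k} (h : x₀ ≫ v j = x₁ ≫ v k)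
    {a : Desc.Lifts (W j) x₀} {b b' : Desc.Lifts (W k) x₁} (hb : P.Rel x₀ x₁ a b)
    (hb' : P.Rel x₀ x₁ a b') : b = b' := by
  obtain ⟨K, Q, e, he, hl⟩ := exists_cover hcov x₀ x₁
  refine Subtype.ext (hom_ext_cover he fun l ↦ ?_)
  obtain ⟨i, i', t, t', ht, ht'⟩ := hl l
  have hh := same_image w (x₀ := e l ≫ x₀) (x₁ := e l ≫ x₁) (by simp only [Category.assoc, h]) ht ht'
  exact (hb (e l) i i' t t' ht ht' hh).symm.trans (hb' (e l) i i' t t' ht ht' hh)

include P in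
/-- the bijection -/
noncomputable def move {T : Scheme.{u}} {j k : κ} (x₀ : T ⟶ V j) (x₁ : T ⟶ V k)
    (h : x₀ ≫ v j = x₁ ≫ v k) (a : Desc.Lifts (W j) x₀) : Desc.Lifts (W k) x₁ :=
  (exists_rel (P := P) w hcov x₀ x₁ h a).choose

lemma move_rel {T : Scheme.{u}} {j k : κ} (x₀ : T ⟶ V j) (x₁ : T ⟶ V k)
    (h : x₀ ≫ v j = x₁ ≫ v k) (a : Desc.Lifts (W j) x₀) :
    P.Rel x₀ x₁ a (move (P := P) w hcov x₀ x₁ h a) :=
  (exists_rel (P := P) w hcov x₀ x₁ h a).choose_spec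

lemma move_self {T : Scheme.{u}} {j : κ} (x : T ⟶ V j) (a : Desc.Lifts (W j) x) :
    move (P := P) w hcov x x rfl a = a := by
  refine (move_rel w hcov x x rfl a).unique w hcov rfl fun T' s i i' t t' ht ht' hh ↦ ?_
  rw [P.compat i i' t t' (ht.trans ht'.symm) hh, Equiv.apply_symm_apply]

lemma move_comp {T : Scheme.{u}} {j k l : κ} (x₀ : T ⟶ V j) (x₁ : T ⟶ V k) (x₂ : T ⟶ V l)
    (h : x₀ ≫ v j = x₁ ≫ v k) (h' : x₁ ≫ v k = x₂ ≫ v l) (a : Desc.Lifts (W j) x₀) :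
    move (P := P) w hcov x₁ x₂ h' (move (P := P) w hcov x₀ x₁ h a) =
      move (P := P) w hcov x₀ x₂ (h.trans h') a := by
  refine (Rel.unique w hcov (h.trans h') ?_ (move_rel w hcov x₀ x₂ (h.trans h') a))
  intro T' s i i'' t t'' ht ht'' hh
  obtain ⟨K, Q, e, he, hl⟩ := exists_cover hcov (s ≫ x₁) (s ≫ x₁)
  refine hom_ext_cover he fun m ↦ ?_
  obtain ⟨i', -, t', -, ht', -⟩ := hl m
  have ht0 : (e m ≫ t) ≫ gg α g j i = (e m ≫ s) ≫ x₀ := by simp only [Category.assoc, ht]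
  have ht2 : (e m ≫ t'') ≫ gg α g l i'' = (e m ≫ s) ≫ x₂ := by simp only [Category.assoc, ht'']
  have ht1 : t' ≫ gg α g k i' = (e m ≫ s) ≫ x₁ := ht'.trans (Category.assoc _ _ _).symm
  have h1 : (e m ≫ t) ≫ u i.1 = t' ≫ u i'.1 :=
    same_image w (x₀ := (e m ≫ s) ≫ x₀) (x₁ := (e m ≫ s) ≫ x₁) (by simp only [Category.assoc, h]) ht0 ht1
  have h2 : t' ≫ u i'.1 = (e m ≫ t'') ≫ u i''.1 :=
    same_image w (x₀ := (e m ≫ s) ≫ x₁) (x₁ := (e m ≫ s) ≫ x₂) (by simp only [Category.assoc, h']) ht1 ht2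
  have r1 := move_rel (P := P) w hcov x₀ x₁ h a (e m ≫ s) i i' (e m ≫ t) t' ht0 ht1 h1
  have r2 := move_rel (P := P) w hcov x₁ x₂ h' (move (P := P) w hcov x₀ x₁ h a) (e m ≫ s) i' i'' t'
    (e m ≫ t'') ht1 ht2 h2
  rw [← P.natural (e m) i'' t'' (e m ≫ t'') rfl _
    (E.φ (e m ≫ t) (e m ≫ t'') (h1.trans h2)
      ((P.η i (e m ≫ t)).symm ⟨(e m ≫ s) ≫ a.1, by rw [Category.assoc, a.2, ht0]⟩)) ?_,
    ← Category.assoc (e m) s, ← r2]
  · rw [show (⟨(e m ≫ s) ≫ (move (P := P) w hcov x₀ x₁ h a).1, _⟩ : Desc.Lifts (W k) (t' ≫ gg α g k i')) =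
      P.η i' t' (E.φ (e m ≫ t) t' h1 ((P.η i (e m ≫ t)).symm ⟨(e m ≫ s) ≫ a.1, _⟩)) from
      Subtype.ext r1.symm, Equiv.symm_apply_apply, E.φ_comp]
  · refine E.φ_natural (e m) t t'' hh _ _ rfl rfl _ _ _ ?_
    exact η_symm_natural (e m) i t _ rfl _ _ (Category.assoc _ _ _)

variable (P) in
/-- the descended datum -/
noncomputable def datum : Desc.SchDDFam v where
  obj := W
  φ T j k x₀ x₁ h :=
    { toFun := move (P := P) w hcov x₀ x₁ h
      invFun := move (P := P) w hcov x₁ x₀ h.symm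
      left_inv := fun a ↦ (move_comp w hcov _ _ _ _ _ a).trans (move_self w hcov _ a)
      right_inv := fun a ↦ (move_comp w hcov _ _ _ _ _ a).trans (move_self w hcov _ a) }
  φ_natural T T' q j k x₀ x₁ h y₀ y₁ e₀ e₁ h' a a' ha := by
    subst e₀ e₁
    let b := move (P := P) w hcov x₀ x₁ h a
    refine congrArg Subtype.val ((move_rel w hcov (q ≫ x₀) (q ≫ x₁) h' a').unique w hcov h'
      (b' := ⟨q ≫ b.1, by rw [Category.assoc, b.2]⟩) ?_)
    intro T'' s i i' t t' ht ht' hh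
    rw [← Category.assoc s q, ← move_rel w hcov x₀ x₁ h a (s ≫ q) i i' t t'
      (ht.trans (Category.assoc _ _ _).symm) (ht'.trans (Category.assoc _ _ _).symm) hh]
    congr 4
    exact Subtype.ext ((congrArg (s ≫ ·) ha).trans (Category.assoc _ _ _).symm)
  φ_self T j x a := move_self w hcov x a
  φ_comp T j k l x₀ x₁ x₂ h h' a := move_comp w hcov x₀ x₁ x₂ h h' a

end PtEquiv

theorem isEquivalence_pull_of_zariski
    (hcov : ∀ j, Presieve.ofArrows (fun i : {i // α i = j} => U i.1)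
      (fun i => g i.1 ≫ eqToHom (congrArg V i.2)) ∈ Scheme.zariskiPrecoverage (V j))
    (w : ∀ i, g i ≫ v (α i) = u i) (w' : ∀ i, g i ≫ v (α i) = u i ≫ 𝟙 S) :
    (Desc.pullDDFam (f := v) (f' := u) (α := α) (p := 𝟙 S) (p' := g) w').IsEquivalence := by
  have hf : ∀ j, Presieve.ofArrows (fun i : {i // α i = j} => U i.1)
      (fun i => g i.1 ≫ eqToHom (congrArg V i.2)) ∈ Scheme.fpqcPrecoverage (V j) :=
    fun j ↦ Scheme.zariskiPrecoverage_le_fpqcPrecoverage _ (hcov j)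
  have hl : LiftsCover u v := liftsCover_of_refinement u v α g w hf
  have := full_pullDDFam (g := g) w' hl
  have := faithful_pullDDFam (g := g) w' hl.liftsEpi
  refine { essSurj := ⟨fun E ↦ ?_⟩ }
  obtain ⟨W, ⟨P⟩⟩ := exists_ptEquiv E w hcov
  have hgg : ∀ i, gg α g (α i) ⟨i, rfl⟩ = g i := fun i ↦ Category.comp_id _
  refine ⟨P.datum w hf, nonempty_iso_pull w' (D := P.datum w hf) (D' := E)
    (fun {T i} t ↦ (P.η ⟨i, rfl⟩ t).trans
      (Equiv.subtypeEquivRight fun z ↦ by rw [hgg]; rfl)) ?_ ?_⟩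
  · intro T T' k i t t' ht z z' hz
    exact P.natural k ⟨i, rfl⟩ t t' ht z z' hz
  · intro T i i' x₀ x₁ h h' z
    apply Subtype.ext
    let a : Desc.Lifts (W (α i)) (x₀ ≫ g i) :=
      ⟨(P.η ⟨i, rfl⟩ x₀ z).1, (P.η ⟨i, rfl⟩ x₀ z).2.trans (by rw [hgg])⟩
    have := PtEquiv.move_rel (P := P) w hf (x₀ ≫ g i) (x₁ ≫ g i') h' a (𝟙 T) ⟨i, rfl⟩ ⟨i', rfl⟩ x₀ x₁
      (by rw [hgg, Category.id_comp]) (by rw [hgg, Category.id_comp]) h
    refine Eq.trans ?_ (this.trans (Category.id_comp _))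
    congr 3
    rw [Equiv.eq_symm_apply]
    exact Subtype.ext (Category.id_comp _).symm

end Groth.Agent.SchDescent
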