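import Groth.Prelude.Def_Desc
import Groth.Agent.EtaleSections.Basic

/-! # morphisms of descent data of étale schemes -/

set_option backward.isDefEq.respectTransparency false

universe u

open CategoryTheory CategoryTheory.Limits AlgebraicGeometry

namespace Groth.Agent.SchDescent.EtaleFF

variable {X S : Scheme.{u}} {p : X ⟶ S} {U₁ U₂ : Over S}

theorem map_injective [Surjective p] [Etale U₂.hom] (f g : U₁ ⟶ U₂)
    (h : (Desc.toDD p).map f = (Desc.toDD p).map g) : f = g := by
  have h' := congrArg (fun a : (Desc.toDD p).obj U₁ ⟶ (Desc.toDD p).obj U₂ ↦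
    a.hom.left ≫ pullback.snd p U₂.hom) h
  refine Over.OverMorphism.ext (EtaleSections.eq_of_surjective U₂.hom f.left g.left
    (pullback.snd p U₁.hom) ?_ ((Over.w f).trans (Over.w g).symm))
  refine Eq.trans ?_ (h'.trans (pullback.lift_snd _ _ _))
  exact (pullback.lift_snd _ _ _).symm

lemma snd_comp_eq_of_snd_eq (a : (Desc.toDD p).obj U₁ ⟶ (Desc.toDD p).obj U₂) {T : Scheme.{u}}
    (v v' : T ⟶ pullback p U₁.hom) (h : v ≫ pullback.snd _ _ = v' ≫ pullback.snd _ _) :
    v ≫ a.hom.left ≫ pullback.snd p U₂.hom = v' ≫ a.hom.left ≫ pullback.snd p U₂.hom := by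
  have hx : (v ≫ pullback.fst _ _) ≫ p = (v' ≫ pullback.fst _ _) ≫ p := by
    rw [Category.assoc, Category.assoc, pullback.condition, reassoc_of% h]
  let V : Desc.Lifts ((Desc.toDD p).obj U₁).obj (v ≫ pullback.fst _ _) := ⟨v, rfl⟩
  have e : (((Desc.toDD p).obj U₁).φ _ _ hx V).1 = v' :=
    pullback.hom_ext (pullback.lift_fst _ _ _) ((pullback.lift_snd _ _ _).trans h)
  have := congrArg (· ≫ pullback.snd p U₂.hom) (a.comm _ _ hx V (a.push V) rfl)
  rw [e] at this
  refine ((Category.assoc _ _ _).symm.trans (Eq.trans ?_ this)).trans (Category.assoc _ _ _)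
  exact (pullback.lift_snd _ _ _).symm

/-- descent of morphisms between étale schemes -/
theorem exists_map_eq [Surjective p] [Etale U₁.hom] [Etale U₂.hom]
    (hp : ∀ U : Over S, Etale U.hom → Topology.IsQuotientMap (pullback.snd p U.hom).base)
    (a : (Desc.toDD p).obj U₁ ⟶ (Desc.toDD p).obj U₂) : ∃ f : U₁ ⟶ U₂, (Desc.toDD p).map f = a := by
  let P := pullback p U₁.hom
  let b : P ⟶ U₂.left := a.hom.left ≫ pullback.snd p U₂.hom
  have ha : a.hom.left ≫ pullback.fst p U₂.hom = pullback.fst p U₁.hom := Over.w a.hom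
  have hb : pullback.snd p U₁.hom ≫ U₁.hom = b ≫ U₂.hom := by
    rw [Category.assoc, ← pullback.condition, ← pullback.condition, reassoc_of% ha]
  let W := pullback U₁.hom U₂.hom
  let pr₁ := pullback.fst U₁.hom U₂.hom
  let pr₂ := pullback.snd U₁.hom U₂.hom
  let wh : W ⟶ S := pr₁ ≫ U₁.hom
  have : Etale wh := inferInstanceAs (Etale (pr₁ ≫ U₁.hom))
  let π : pullback p wh ⟶ P := pullback.lift (pullback.fst _ _) (pullback.snd _ _ ≫ pr₁)
    (by rw [pullback.condition, Category.assoc])
  have : Etale π := by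
    refine MorphismProperty.of_isPullback (P := @Etale) (f' := pullback.snd p wh) (g' := π)
      (IsPullback.of_bot ?_ ?_ (IsPullback.of_hasPullback p U₁.hom).flip) (inferInstance : Etale pr₁)
    · rw [pullback.lift_fst]
      exact (IsPullback.of_hasPullback p wh).flip
    · exact (pullback.lift_snd _ _ _).symm
  let γ : P ⟶ pullback p wh := pullback.lift (pullback.fst _ _) (pullback.lift (pullback.snd _ _) b hb)
    (by rw [pullback.condition, pullback.lift_fst_assoc])
  have hγπ : γ ≫ π = 𝟙 _ := by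
    apply pullback.hom_ext
    · rw [Category.assoc, pullback.lift_fst, pullback.lift_fst, Category.id_comp]
    · rw [Category.assoc, pullback.lift_snd, pullback.lift_snd_assoc, pullback.lift_fst, Category.id_comp]
  have : IsOpenImmersion γ := EtaleSections.isOpenImmersion_section π γ hγπ
  let q := pullback.snd p wh
  have hq : ∀ {T : Scheme.{u}} (r : T ⟶ pullback p wh), Set.range r ⊆ Set.range γ →
      r ≫ q ≫ pr₂ = (r ≫ π) ≫ b := fun r hr ↦ by
    obtain ⟨v, rfl⟩ : ∃ v, v ≫ γ = r := ⟨_, IsOpenImmersion.lift_fac γ r hr⟩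
    simp only [Category.assoc, reassoc_of% hγπ]
    rw [pullback.lift_snd_assoc, pullback.lift_snd]
  have hsat : q ⁻¹' (q '' Set.range γ) = Set.range γ := by
    refine Set.Subset.antisymm (fun r hr ↦ ?_) (Set.subset_preimage_image _ _)
    obtain ⟨z, hz, hzr⟩ := hr
    obtain ⟨d, hd₁, hd₂⟩ := Scheme.Pullback.exists_preimage_pullback (f := q) (g := q) r z hzr.symm
    let k := (pullback q q).fromSpecResidueField d
    let r' := k ≫ pullback.fst q q
    let z' := k ≫ pullback.snd q q
    have hk : ∀ s, k s = d := fun s ↦ Scheme.fromSpecResidueField_apply _ _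
    have hz' : Set.range z' ⊆ Set.range γ := by
      rintro _ ⟨s, rfl⟩
      rw [show z' s = z from (congrArg (pullback.snd q q) (hk s)).trans hd₂]
      exact hz
    have hrz : r' ≫ q = z' ≫ q := by simp only [r', z', Category.assoc, pullback.condition]
    have h1 : (r' ≫ π) ≫ b = (z' ≫ π) ≫ b := by
      refine snd_comp_eq_of_snd_eq a _ _ ?_
      simp only [π, Category.assoc, pullback.lift_snd]
      exact (reassoc_of% hrz) pr₁
    have h2 : (r' ≫ π) ≫ γ = r' := by
      apply pullback.hom_ext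
      · simp [γ, π]
      · apply pullback.hom_ext
        · simp [γ, π, pr₁]
        · have := hq z' hz'
          rw [← reassoc_of% hrz, ← h1] at this
          refine Eq.trans ?_ ((Category.assoc _ _ _).symm.trans this).symm |>.trans rfl
          simp [γ]
    refine ⟨(r' ≫ π) (IsLocalRing.closedPoint _), ?_⟩
    refine (congr($h2 (IsLocalRing.closedPoint _))).trans ?_
    exact (congrArg (pullback.fst q q) (hk _)).trans hd₁
  let Γ : W.Opens := ⟨q '' Set.range γ, by
    rw [← (hp (Over.mk wh) ‹_›).isOpen_preimage]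
    show IsOpen (q ⁻¹' (q '' Set.range γ))
    rw [hsat]
    exact γ.isOpenEmbedding.isOpen_range⟩
  let c := Γ.ι ≫ pr₁
  have hγΓ : Set.range (γ ≫ q) ⊆ Set.range Γ.ι := by
    rintro _ ⟨s, rfl⟩
    rw [Scheme.Opens.range_ι]
    exact ⟨γ s, ⟨s, rfl⟩, rfl⟩
  let σ : P ⟶ Γ.toScheme := IsOpenImmersion.lift Γ.ι (γ ≫ q) hγΓ
  have hσ : σ ≫ Γ.ι = γ ≫ q := IsOpenImmersion.lift_fac _ _ _
  have hσc : σ ≫ c = pullback.snd p U₁.hom := by
    rw [← Category.assoc, hσ, Category.assoc, pullback.lift_snd_assoc, pullback.lift_fst]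
  have hσ2 : σ ≫ Γ.ι ≫ pr₂ = b := by
    rw [← Category.assoc, hσ, Category.assoc, pullback.lift_snd_assoc, pullback.lift_snd]
  have : Surjective c := ⟨fun x ↦ by
    obtain ⟨z, hz⟩ := (pullback.snd p U₁.hom).surjective x
    exact ⟨σ z, (congr($hσc z)).trans hz⟩⟩
  have : UniversallyInjective c := by
    rw [UniversallyInjective.iff_diagonal]
    refine ⟨fun t ↦ ?_⟩
    let m := pullback.fst c c ≫ Γ.ι ≫ wh
    obtain ⟨x, hx⟩ := p.surjective (m t)
    obtain ⟨d, -, hd⟩ := Scheme.Pullback.exists_preimage_pullback (f := p) (g := m) x t hx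
    let k := (pullback p m).fromSpecResidueField d
    let w₁ := k ≫ pullback.snd p m ≫ pullback.fst c c
    let w₂ := k ≫ pullback.snd p m ≫ pullback.snd c c
    have hw : w₁ ≫ c = w₂ ≫ c := by simp only [w₁, w₂, Category.assoc, pullback.condition]
    have hw' : w₁ ≫ Γ.ι ≫ pr₁ = w₂ ≫ Γ.ι ≫ pr₁ := hw
    let x' := k ≫ pullback.fst p m
    have h₁ : x' ≫ p = (w₁ ≫ Γ.ι) ≫ wh := by
      simp only [x', w₁, Category.assoc, pullback.condition, m]
    have h₂ : x' ≫ p = (w₂ ≫ Γ.ι) ≫ wh := by
      rw [h₁]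
      simp only [wh, Category.assoc, reassoc_of% hw']
    have key : ∀ (w : Spec ((pullback p m).residueField d) ⟶ Γ.toScheme) (h : x' ≫ p = (w ≫ Γ.ι) ≫ wh),
        w ≫ Γ.ι ≫ pr₂ = pullback.lift x' ((w ≫ Γ.ι) ≫ pr₁)
          (h.trans (Category.assoc _ _ _).symm) ≫ b := by
      intro w h
      have := hq (pullback.lift x' (w ≫ Γ.ι) h) (by
        rw [← hsat]
        rintro _ ⟨s, rfl⟩
        show q (pullback.lift x' (w ≫ Γ.ι) h s) ∈ q '' Set.range γ
        rw [show q (pullback.lift x' (w ≫ Γ.ι) h s) = (w s).1 from congr($(pullback.lift_snd x' (w ≫ Γ.ι) h) s)]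
        exact (w s).2)
      rw [pullback.lift_snd_assoc, Category.assoc] at this
      refine this.trans (congrArg (· ≫ b) ?_)
      apply pullback.hom_ext <;> simp [π]
    have hww : w₁ = w₂ := by
      rw [← cancel_mono Γ.ι]
      apply pullback.hom_ext
      · simpa only [Category.assoc] using hw'
      · rw [Category.assoc, Category.assoc]
        refine (key w₁ h₁).trans (Eq.trans ?_ (key w₂ h₂).symm)
        congr 2
    refine ⟨w₁ (IsLocalRing.closedPoint _), ?_⟩
    have : w₁ ≫ pullback.diagonal c = k ≫ pullback.snd p m := by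
      apply pullback.hom_ext
      · simp [w₁]
      · rw [Category.assoc, pullback.diagonal_snd, Category.comp_id, Category.assoc]
        exact hww
    refine (congr($this (IsLocalRing.closedPoint _))).trans ?_
    exact (congrArg (pullback.snd p m) (Scheme.fromSpecResidueField_apply _ _)).trans hd
  have : Etale c := inferInstanceAs (Etale (Γ.ι ≫ pr₁))
  have := EtaleSections.isOpenImmersion_of_etale_universallyInjective c
  have : IsIso c := (isIso_iff_isOpenImmersion_and_surjective c).mpr ⟨inferInstance, inferInstance⟩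
  let f : U₁ ⟶ U₂ := Over.homMk (inv c ≫ Γ.ι ≫ pr₂) (by
    simp only [Category.assoc]
    rw [IsIso.inv_comp_eq, ← pullback.condition]
    simp [c, pr₁])
  refine ⟨f, Desc.SchDD.hom_ext (Over.OverMorphism.ext ?_)⟩
  apply pullback.hom_ext
  · refine (pullback.lift_fst _ _ _).trans ?_
    exact (Category.comp_id _).trans ha.symm
  · refine (pullback.lift_snd _ _ _).trans ?_
    show pullback.snd p U₁.hom ≫ inv c ≫ Γ.ι ≫ pr₂ = b
    rw [← hσc, Category.assoc, IsIso.hom_inv_id_assoc, hσ2]

end Groth.Agent.SchDescent.EtaleFF
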