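import Groth.Agent.SchDescent.Glue

/-! # descended schemes for stable opens of a descent datum -/

universe u

open CategoryTheory CategoryTheory.Limits AlgebraicGeometry

namespace Groth.Agent.SchDescent

variable {X S : Scheme.{u}} {p : X ⟶ S} (D : Desc.SchDD p)

/-- an open of the datum preserved by the gluing bijections -/
def IsStableOpen (V : D.obj.left.Opens) : Prop :=
  ∀ ⦃T : Scheme.{u}⦄ (x₀ x₁ : T ⟶ X) (h : x₀ ≫ p = x₁ ≫ p) (v : Desc.Lifts D.obj x₀),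
    Set.range v.1 ⊆ V → Set.range (D.φ x₀ x₁ h v).1 ⊆ V

/-- `π : V ⟶ U` descends the stable open `V` -/
structure IsDescent (V : D.obj.left.Opens) (U : Over S) (π : V.toScheme ⟶ U.left) : Prop where
  isPullback : IsPullback π (V.ι ≫ D.obj.hom) U.hom p
  compat : ∀ ⦃T : Scheme.{u}⦄ (x₀ x₁ : T ⟶ X) (h : x₀ ≫ p = x₁ ≫ p) (v v' : T ⟶ V.toScheme)
    (hv : (v ≫ V.ι) ≫ D.obj.hom = x₀),
    v' ≫ V.ι = (D.φ x₀ x₁ h ⟨v ≫ V.ι, hv⟩).1 → v ≫ π = v' ≫ π

variable {D}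

lemma phi_congr {T : Scheme.{u}} {x₀ y₀ x₁ y₁ : T ⟶ X} (hx : x₀ = y₀) (hy : x₁ = y₁)
    (h : x₀ ≫ p = x₁ ≫ p) (v : T ⟶ D.obj.left) (hv : v ≫ D.obj.hom = x₀) (v' : T ⟶ D.obj.left)
    (hvv : v = v') :
    (D.φ x₀ x₁ h ⟨v, hv⟩).1 = (D.φ y₀ y₁ (hx ▸ hy ▸ h) ⟨v', hvv ▸ hx ▸ hv⟩).1 := by
  subst hx hy hvv; rfl

lemma comp_phi {T T' : Scheme.{u}} (g : T' ⟶ T) (x₀ x₁ : T ⟶ X) (h : x₀ ≫ p = x₁ ≫ p)
    (v : T ⟶ D.obj.left) (hv : v ≫ D.obj.hom = x₀) :
    g ≫ (D.φ x₀ x₁ h ⟨v, hv⟩).1 = (D.φ (g ≫ x₀) (g ≫ x₁)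
      (by rw [Category.assoc, h, Category.assoc]) ⟨g ≫ v, by rw [Category.assoc, hv]⟩).1 :=
  (D.φ_natural g x₀ x₁ h _ ⟨v, hv⟩ ⟨g ≫ v, by rw [Category.assoc, hv]⟩ rfl).symm

lemma phi_self {T : Scheme.{u}} {x x' : T ⟶ X} (hx : x = x') (h : x ≫ p = x' ≫ p)
    (v : T ⟶ D.obj.left) (hv : v ≫ D.obj.hom = x) : (D.φ x x' h ⟨v, hv⟩).1 = v := by
  subst hx
  exact congrArg Subtype.val (D.φ_self x ⟨v, hv⟩)

lemma IsDescent.lift_eq {V : D.obj.left.Opens} {U : Over S} {π : V.toScheme ⟶ U.left}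
    (hπ : IsDescent D V U π) (hV : IsStableOpen D V) {T : Scheme.{u}} (v v' : T ⟶ V.toScheme)
    (e : v ≫ π = v' ≫ π) (h : ((v ≫ V.ι) ≫ D.obj.hom) ≫ p = ((v' ≫ V.ι) ≫ D.obj.hom) ≫ p) :
    v' ≫ V.ι = (D.φ _ _ h ⟨v ≫ V.ι, rfl⟩).1 := by
  let w := D.φ _ _ h ⟨v ≫ V.ι, rfl⟩
  have hr : Set.range w.1 ⊆ V := hV _ _ h _ (by
    rintro _ ⟨t, rfl⟩
    exact (v t).2)
  let w' := IsOpenImmersion.lift V.ι w.1 (by rwa [Scheme.Opens.range_ι])
  have hw' : w' ≫ V.ι = w.1 := IsOpenImmersion.lift_fac _ _ _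
  have e1 := hπ.compat _ _ h v w' rfl hw'
  have : w' = v' := hπ.isPullback.hom_ext (e1.symm.trans e)
    (by rw [← Category.assoc, hw', w.2, Category.assoc])
  exact ((congrArg (· ≫ V.ι) this).symm.trans hw')

/-- a stable open is saturated for its descent map -/
lemma IsDescent.mem_of_eq {V : D.obj.left.Opens} {U : Over S} {π : V.toScheme ⟶ U.left}
    (hπ : IsDescent D V U π) (hV : IsStableOpen D V) {V' : D.obj.left.Opens}
    (hV' : IsStableOpen D V') {z₁ z₂ : V.toScheme} (e : π z₁ = π z₂) (hz : z₁.1 ∈ V') :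
    z₂.1 ∈ V' := by
  obtain ⟨t, ht₁, ht₂⟩ := Scheme.Pullback.exists_preimage_pullback (f := π) (g := π) z₁ z₂ e
  let k := (pullback π π).fromSpecResidueField t
  let v := k ≫ pullback.fst π π
  let v' := k ≫ pullback.snd π π
  have hvv : v ≫ π = v' ≫ π := by simp only [v, v', Category.assoc, pullback.condition]
  have h : ((v ≫ V.ι) ≫ D.obj.hom) ≫ p = ((v' ≫ V.ι) ≫ D.obj.hom) ≫ p := by
    have h1 := congrArg (v ≫ ·) hπ.isPullback.w
    have h2 := congrArg (v' ≫ ·) hπ.isPullback.w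
    simp only [Category.assoc] at h1 h2 ⊢
    rw [← h1, ← h2, reassoc_of% hvv]
  have hval : ∀ (w : Spec ((pullback π π).residueField t) ⟶ V.toScheme) (s), (w ≫ V.ι) s = (w s).1 :=
    fun w s ↦ rfl
  have hv : ∀ s, (v s) = z₁ := fun s ↦ by
    change pullback.fst π π (k s) = z₁
    rw [show k s = t from Scheme.fromSpecResidueField_apply _ _, ht₁]
  have hv' : ∀ s, (v' s) = z₂ := fun s ↦ by
    change pullback.snd π π (k s) = z₂
    rw [show k s = t from Scheme.fromSpecResidueField_apply _ _, ht₂]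
  have hr := hV' _ _ h ⟨v ≫ V.ι, rfl⟩ (by rintro _ ⟨s, rfl⟩; rw [hval, hv]; exact hz)
  rw [← hπ.lift_eq hV v v' hvv h] at hr
  have := hr ⟨IsLocalRing.closedPoint _, rfl⟩
  change (v' (IsLocalRing.closedPoint ((pullback π π).residueField t))).1 ∈ V' at this
  exact (hv' _) ▸ this

lemma singleton_mem_fpqc [Surjective p] [Flat p] [QuasiCompact p] :
    Presieve.singleton p ∈ Scheme.fpqcPrecoverage S :=
  p.singleton_mem_fpqcPrecoverage

/-- the descended map of the whole datum gives effectivity -/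
theorem effective_of_isDescent (U : Over S) (π : D.obj.left ⟶ U.left)
    (hpb : IsPullback π D.obj.hom U.hom p)
    (hc : ∀ ⦃T : Scheme.{u}⦄ (x₀ x₁ : T ⟶ X) (h : x₀ ≫ p = x₁ ≫ p) (v : Desc.Lifts D.obj x₀),
      v.1 ≫ π = (D.φ x₀ x₁ h v).1 ≫ π) :
    ∃ U : Over S, Nonempty ((Desc.toDD p).obj U ≅ D) := by
  let e := hpb.flip.isoPullback
  have he : e.hom ≫ pullback.fst p U.hom = D.obj.hom := IsPullback.isoPullback_hom_fst _
  have he' : e.hom ≫ pullback.snd p U.hom = π := IsPullback.isoPullback_hom_snd _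
  have he₁ : e.inv ≫ D.obj.hom = pullback.fst p U.hom := (Iso.inv_comp_eq _).mpr he.symm
  have he₂ : e.inv ≫ π = pullback.snd p U.hom := (Iso.inv_comp_eq _).mpr he'.symm
  let a : (Desc.toDD p).obj U ⟶ D :=
    ⟨Over.homMk e.inv he₁, fun T x₀ x₁ h v w hw ↦ by
      apply hpb.hom_ext
      · rw [← hc x₀ x₁ h w, hw]
        refine ((Category.assoc _ _ _).trans (congrArg _ he₂)).trans ?_
        exact ((Category.assoc _ _ _).trans ((congrArg _ he₂).trans (pullback.lift_snd _ _ _))).symm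
      · refine (D.φ x₀ x₁ h w).2.trans ?_
        exact ((Category.assoc _ _ _).trans ((congrArg _ he₁).trans
          (((Desc.toDD p).obj U).φ x₀ x₁ h v).2)).symm⟩
  let b : D ⟶ (Desc.toDD p).obj U :=
    ⟨Over.homMk e.hom he, fun T x₀ x₁ h v w hw ↦ by
      apply pullback.hom_ext
      · refine (((Desc.toDD p).obj U).φ x₀ x₁ h w).2.trans ?_
        exact ((Category.assoc _ _ _).trans ((congrArg _ he).trans (D.φ x₀ x₁ h v).2)).symm
      · refine (pullback.lift_snd _ _ _).trans ?_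
        rw [hw]
        refine ((Category.assoc _ _ _).trans (congrArg _ he')).trans ?_
        rw [hc x₀ x₁ h v]
        exact ((Category.assoc _ _ _).trans (congrArg _ he')).symm⟩
  exact ⟨U, ⟨⟨a, b, Desc.SchDD.hom_ext (Over.OverMorphism.ext e.inv_hom_id),
    Desc.SchDD.hom_ext (Over.OverMorphism.ext e.hom_inv_id)⟩⟩⟩

end Groth.Agent.SchDescent
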